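import Mathlib
import Cfsg.Agent.OddCyclic.GamBase

/-!
# The Ru configuration (helper881, NO-3a.4, bb #12858): the structure

`Ru V z`: `V` is a four-group containing the involution `z`, points are the conjugates of `z`, lines the conjugates
of `V`, `W_x = ws V x` is generated by the lines on `x`; `W_z` is elementary abelian of order 32 and `C_G(z)` induces
`A₅` or `S₅` on the natural module `W_z/⟨z⟩`. The general part of helper794's `OddCyclic.GamBase` is repeated for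
`Ru` (there `G` has cyclic Sylow subgroups for odd primes).

* `Ru.conj`, `Ru.loc_pt`, `Ru.norm`, `Ru.exists_line`, `Ru.mem_symm`;
* `Ru.exists_neg`, `Ru.exists_hom`: the kernel induces all of `Hom(ws V x/⟨x⟩, ⟨x⟩)`; `Ru.trans_ws`.
-/

set_option autoImplicit false
set_option linter.dupNamespace false
set_option linter.unusedSectionVars false

namespace Cfsg.Agent.Omega.RuShape.Base

open Subgroup Cfsg Cfsg.Agent.ZN Cfsg.Agent.MinSimple.Geo Cfsg.Agent.MinSimple.OddBase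
open Cfsg.Agent.OddCyclic Cfsg.Agent.OddCyclic.GamPerm Cfsg.Agent.OddCyclic.GamMod Cfsg.Agent.OddCyclic.GamLoc
open Cfsg.Agent.OddCyclic.GamBase (cc cc_surj cg_conj loc_conj ws_cj' lines_cj')

universe u

variable {G : Type u} [Group G]

/-- The Ru configuration: `|V| = 4`, `W_z = ws V z` is elementary abelian of order 32, `C_G(z)` induces `A₅` or
`S₅ = ΓL₂(4)` on the natural module `W_z/⟨z⟩`, no nontrivial 2-subgroup is normalised by `N_G(V)` and `C_G(z)`,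
`[W_x, W_y] ≠ 1` for collinear points, centralisers of involutions have characteristic 2. -/
structure Ru (V : Subgroup G) (z : G) : Prop where
  card_V : Nat.card V = 4
  sq : ∀ v ∈ V, v * v = 1
  z_mem : z ∈ V
  trans : ∀ v ∈ V, v ≠ 1 → ∃ g ∈ normalizer (V : Set G), g * z * g⁻¹ = v
  move : ∃ t ∈ centralizer ({z} : Set G), ∃ v ∈ V, t * v * t⁻¹ = v * z ∧ v ≠ 1 ∧ v ≠ z
  loc : ∃ ρ, Loc (ws V z) z ρ
  core : ∀ U : Subgroup G, IsPGroup 2 U → normalizer (V : Set G) ≤ normalizer (U : Set G) →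
    centralizer ({z} : Set G) ≤ normalizer (U : Set G) → U = ⊥
  noncomm : ∀ v ∈ V, v ≠ 1 → v ≠ z → ∃ a ∈ ws V z, ∃ b ∈ ws V v, a * b ≠ b * a
  c2 : ∀ v : G, v * v = 1 → v ≠ 1 → ∃ O : Subgroup G, IsPGroup 2 O ∧ O ≤ centralizer ({v} : Set G) ∧
    centralizer ({v} : Set G) ≤ normalizer (O : Set G) ∧
    ∀ c ∈ centralizer ({v} : Set G), c ∈ centralizer (O : Set G) → c ∈ O

namespace Ru

variable {V : Subgroup G} {z : G}

theorem z_ne (h : Ru V z) : z ≠ 1 := by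
  obtain ⟨ρ, hρ⟩ := h.loc
  exact hρ.x_ne

theorem conj (h : Ru V z) (g : G) : Ru (cj g V) (g * z * g⁻¹) where
  card_V := by rw [card_cj]; exact h.card_V
  sq := by
    intro v hv
    rw [mem_cj] at hv
    have := h.sq _ hv
    have e : v * v = g * (g⁻¹ * v * g * (g⁻¹ * v * g)) * g⁻¹ := by group
    rw [e, this]; group
  z_mem := conj_mem_cj h.z_mem
  trans := by
    intro v hv hv1
    rw [mem_cj] at hv
    obtain ⟨k, hk, hk2⟩ := h.trans _ hv (fun e => hv1 (by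
      have : v = g * (g⁻¹ * v * g) * g⁻¹ := by group
      rw [this, e]; group))
    refine ⟨g * k * g⁻¹, ?_, ?_⟩
    · rw [← cj_normalizer]; exact conj_mem_cj hk
    · calc g * k * g⁻¹ * (g * z * g⁻¹) * (g * k * g⁻¹)⁻¹ = g * (k * z * k⁻¹) * g⁻¹ := by group
        _ = v := by rw [hk2]; group
  move := by
    obtain ⟨t, ht, v, hv, h1, h2, h3⟩ := h.move
    refine ⟨g * t * g⁻¹, ?_, g * v * g⁻¹, conj_mem_cj hv, ?_, conj_ne_one h2, fun e => h3 (conj_inj e)⟩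
    · rw [← cj_centralizer_singleton]; exact conj_mem_cj ht
    · calc g * t * g⁻¹ * (g * v * g⁻¹) * (g * t * g⁻¹)⁻¹ = g * (t * v * t⁻¹) * g⁻¹ := by group
        _ = g * v * g⁻¹ * (g * z * g⁻¹) := by rw [h1]; group
  loc := by
    obtain ⟨ρ, hρ⟩ := h.loc
    refine ⟨ρ.comp (cc g z), ?_⟩
    rw [ws_cj', ← cj_ws]
    exact loc_conj hρ g
  core := by
    intro U hU h1 h2
    have h3 := h.core (cj g⁻¹ U) (hU.map _) (by
      rw [← cj_normalizer, ← cj_le_iff, cj_normalizer]; exact h1) (by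
      rw [← cj_normalizer, ← cj_le_iff, cj_centralizer_singleton]; exact h2)
    have := congrArg (cj g) h3
    rw [cj_cj_inv] at this
    rw [this]
    exact Subgroup.map_bot _
  noncomm := by
    intro v hv hv1 hvz
    rw [mem_cj] at hv
    have e : v = g * (g⁻¹ * v * g) * g⁻¹ := by group
    obtain ⟨a, ha, b, hb, hab⟩ := h.noncomm _ hv (fun e1 => hv1 (by rw [e, e1]; group))
      (fun e1 => hvz (by rw [e, e1]))
    refine ⟨g * a * g⁻¹, ?_, g * b * g⁻¹, ?_, ?_⟩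
    · rw [ws_cj', ← cj_ws]; exact conj_mem_cj ha
    · rw [ws_cj', e, ← cj_ws]; exact conj_mem_cj hb
    · intro e1
      apply hab
      have e2 : g * (a * b) * g⁻¹ = g * (b * a) * g⁻¹ := by
        calc g * (a * b) * g⁻¹ = g * a * g⁻¹ * (g * b * g⁻¹) := by group
          _ = g * b * g⁻¹ * (g * a * g⁻¹) := e1
          _ = g * (b * a) * g⁻¹ := by group
      exact conj_inj e2
  c2 := h.c2

/-- every point is the point of a flag conjugate to `(z, V)` -/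
theorem exists_ru (h : Ru V z) {x : G} (hx : Pt z x) :
    ∃ g : G, x = g * z * g⁻¹ ∧ Ru (cj g V) x := by
  obtain ⟨g, rfl⟩ := hx
  exact ⟨g, rfl, h.conj g⟩

theorem loc_pt (h : Ru V z) {x : G} (hx : Pt z x) : ∃ ρ, Loc (ws V x) x ρ := by
  obtain ⟨g, rfl⟩ := hx
  have := (h.conj g).loc
  rwa [ws_cj'] at this

theorem ne_one (h : Ru V z) {x : G} (hx : Pt z x) : x ≠ 1 := by
  obtain ⟨ρ, hρ⟩ := h.loc_pt hx
  exact hρ.x_ne

theorem self_mem (h : Ru V z) {x : G} (hx : Pt z x) : x ∈ ws V x := by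
  obtain ⟨ρ, hρ⟩ := h.loc_pt hx
  exact hρ.x_mem

theorem comm (h : Ru V z) {x : G} (hx : Pt z x) {a b : G} (ha : a ∈ ws V x) (hb : b ∈ ws V x) :
    a * b = b * a := by
  obtain ⟨ρ, hρ⟩ := h.loc_pt hx
  exact hρ.comm a ha b hb

theorem sq_ws (h : Ru V z) {x : G} (hx : Pt z x) {a : G} (ha : a ∈ ws V x) : a * a = 1 := by
  obtain ⟨ρ, hρ⟩ := h.loc_pt hx
  exact hρ.sq a ha

theorem xx (h : Ru V z) {x : G} (hx : Pt z x) : x * x = 1 := h.sq_ws hx (h.self_mem hx)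

theorem inv_ws (h : Ru V z) {x : G} (hx : Pt z x) {a : G} (ha : a ∈ ws V x) : a⁻¹ = a :=
  inv_eq_of_mul_eq_one_left (h.sq_ws hx ha)

theorem ws_le (h : Ru V z) {x : G} (hx : Pt z x) : ws V x ≤ centralizer ({x} : Set G) := by
  obtain ⟨ρ, hρ⟩ := h.loc_pt hx
  exact hρ.le_centralizer

theorem pt_of_mem_line (h : Ru V z) {L : Subgroup G} {x y : G} (hL : L ∈ lines V x) (hy : y ∈ L)
    (hy1 : y ≠ 1) : Pt z y := by
  obtain ⟨⟨g, rfl⟩, _⟩ := hL
  rw [mem_cj] at hy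
  obtain ⟨k, _, hk⟩ := h.trans _ hy (fun e => hy1 (by
    have : y = g * (g⁻¹ * y * g) * g⁻¹ := by group
    rw [this, e]; group))
  refine ⟨g * k, ?_⟩
  have : y = g * (g⁻¹ * y * g) * g⁻¹ := by group
  rw [this, ← hk]; group

theorem norm (h : Ru V z) {x : G} (hx : Pt z x) {c w : G} (hc : c * x = x * c) (hw : w ∈ ws V x) :
    c * w * c⁻¹ ∈ ws V x := by
  obtain ⟨ρ, hρ⟩ := h.loc_pt hx
  exact hρ.norm c (mem_centralizer_singleton_iff.mpr hc) w hw

/-- all elements of `ws V x` outside `⟨x⟩` are on lines through `x` -/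
theorem exists_line (h : Ru V z) {x u : G} (hx : Pt z x) (hu : u ∈ ws V x) (hu1 : u ≠ 1) (hux : u ≠ x) :
    ∃ L ∈ lines V x, u ∈ L := by
  obtain ⟨g, hg, hG⟩ := h.exists_ru hx
  obtain ⟨ρ, hρ⟩ := h.loc_pt hx
  obtain ⟨t, _, v, hv, _, hv1, hvx⟩ := hG.move
  have hVx : cj g V ∈ lines V x := ⟨⟨g, rfl⟩, hG.z_mem⟩
  have hvW : v ∈ ws V x := le_ws hVx hv
  obtain ⟨c, _, hc⟩ := hρ.trans hvW hu hv1 hvx hu1 hux
  have hcx : (c : G) * x = x * c := mem_centralizer_singleton_iff.mp c.2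
  have hL := mem_lines_cj (g := (c : G)) hVx
  rw [hcx, mul_inv_cancel_right] at hL
  refine ⟨_, hL, ?_⟩
  have h1 : (c : G) * v * (c : G)⁻¹ ∈ cj (c : G) (cj g V) := conj_mem_cj hv
  rcases hc with e | e
  · rw [← e]; exact h1
  · have : u = (c : G) * v * (c : G)⁻¹ * x := by rw [e, mul_assoc, hρ.xx, mul_one]
    rw [this]; exact mul_mem h1 hL.2

theorem col (h : Ru V z) {x u : G} (hx : Pt z x) (hu : u ∈ ws V x) (hu1 : u ≠ 1) (hux : u ≠ x) :
    Col V x u := by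
  obtain ⟨L, hL, huL⟩ := h.exists_line hx hu hu1 hux
  exact ⟨h.ne_one hx, hu1, hux.symm, L, hL, huL⟩

theorem pt (h : Ru V z) {x u : G} (hx : Pt z x) (hu : u ∈ ws V x) (hu1 : u ≠ 1) : Pt z u := by
  by_cases hux : u = x
  · rw [hux]; exact hx
  · obtain ⟨L, hL, huL⟩ := h.exists_line hx hu hu1 hux
    exact h.pt_of_mem_line hL huL hu1

theorem mem_symm (h : Ru V z) {x u : G} (hx : Pt z x) (hu : u ∈ ws V x) (hu1 : u ≠ 1) : x ∈ ws V u := by
  by_cases hux : u = x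
  · rw [hux]; exact h.self_mem hx
  · exact (h.col hx hu hu1 hux).symm.mem_ws

/-! ### the kernel -/

theorem fix_of_ker {W : Subgroup G} {x : G} {ρ : centralizer ({x} : Set G) →* S5} (h : Loc W x ρ)
    (hK : ∀ k, ρ k = 1 → ∀ w ∈ W, (k : G) * w * (k : G)⁻¹ = w) {c : centralizer ({x} : Set G)}
    (hc : ρ c * ρ c = 1) {v : G} (hv : v ∈ W) (hcv : Cg x ((c : G) * v * (c : G)⁻¹) v) :
    (c : G) * v * (c : G)⁻¹ = v := by
  by_cases hc1 : ρ c = 1
  · exact hK c hc1 v hv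
  · obtain ⟨w, hw, hvw⟩ := h.exists_comm hc hc1 (h.mem_cx.mpr ⟨hv, hcv⟩)
    have h1 : (c : G) * ((c : G) * w * (c : G)⁻¹ * w) * (c : G)⁻¹ = (c : G) * w * (c : G)⁻¹ * w := by
      have h2 := hK (c * c) (by rw [map_mul, hc]) w hw
      have e : ((c * c : centralizer ({x} : Set G)) : G) = c * c := rfl
      rw [e] at h2
      calc (c : G) * ((c : G) * w * (c : G)⁻¹ * w) * (c : G)⁻¹ =
          ((c : G) * c * w * ((c : G) * c)⁻¹) * ((c : G) * w * (c : G)⁻¹) := by group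
        _ = w * ((c : G) * w * (c : G)⁻¹) := by rw [h2]
        _ = (c : G) * w * (c : G)⁻¹ * w := h.comm w hw _ (h.norm c c.2 w hw)
    rcases hvw with e | e
    · rw [e]; exact h1
    · have h3 : (c : G) * x * (c : G)⁻¹ = x := by
        rw [mem_centralizer_singleton_iff.mp c.2, mul_inv_cancel_right]
      rw [e]
      calc (c : G) * ((c : G) * w * (c : G)⁻¹ * w * x) * (c : G)⁻¹ =
          ((c : G) * ((c : G) * w * (c : G)⁻¹ * w) * (c : G)⁻¹) * ((c : G) * x * (c : G)⁻¹) := by group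
        _ = (c : G) * w * (c : G)⁻¹ * w * x := by rw [h1, h3]

/-- the kernel moves every element of `ws V x` outside `⟨x⟩` -/
theorem exists_neg (h : Ru V z) {x : G} (hx : Pt z x) {ρ : centralizer ({x} : Set G) →* S5}
    (hρ : Loc (ws V x) x ρ) {u : G} (hu : u ∈ ws V x) (hu1 : u ≠ 1) (hux : u ≠ x) :
    ∃ k, ρ k = 1 ∧ (k : G) * u * (k : G)⁻¹ = u * x := by
  by_contra hcon
  push Not at hcon
  have hfix : ∀ k, ρ k = 1 → (k : G) * u * (k : G)⁻¹ = u := by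
    intro k hk
    rcases (hρ.ker k).mp hk u hu with e | e
    · exact e
    · exact absurd e (hcon k hk)
  let U : Subgroup G :=
    { carrier := {w | w ∈ ws V x ∧ ∀ k, ρ k = 1 → (k : G) * w * (k : G)⁻¹ = w}
      one_mem' := ⟨one_mem _, fun k _ => by group⟩
      mul_mem' := by
        rintro a b ⟨ha, ha'⟩ ⟨hb, hb'⟩
        refine ⟨mul_mem ha hb, fun k hk => ?_⟩
        calc (k : G) * (a * b) * (k : G)⁻¹ = (k : G) * a * (k : G)⁻¹ * ((k : G) * b * (k : G)⁻¹) := by group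
          _ = a * b := by rw [ha' k hk, hb' k hk]
      inv_mem' := by
        rintro a ⟨ha, ha'⟩
        refine ⟨inv_mem ha, fun k hk => ?_⟩
        calc (k : G) * a⁻¹ * (k : G)⁻¹ = ((k : G) * a * (k : G)⁻¹)⁻¹ := by group
          _ = a⁻¹ := by rw [ha' k hk] }
  have hxU : x ∈ U := ⟨hρ.x_mem, fun k _ => by
    rw [mem_centralizer_singleton_iff.mp k.2, mul_inv_cancel_right]⟩
  have hinv : ∀ c ∈ centralizer ({x} : Set G), ∀ w ∈ U, c * w * c⁻¹ ∈ U := by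
    rintro c hc w ⟨hw, hw'⟩
    refine ⟨hρ.norm c hc w hw, fun k hk => ?_⟩
    have h1 := hw' (⟨c, hc⟩⁻¹ * k * ⟨c, hc⟩) (by rw [map_mul, map_mul, hk, mul_one, map_inv, inv_mul_cancel])
    have e : (((⟨c, hc⟩⁻¹ * k * ⟨c, hc⟩ : centralizer ({x} : Set G))) : G) = c⁻¹ * k * c := rfl
    rw [e] at h1
    calc (k : G) * (c * w * c⁻¹) * (k : G)⁻¹ = c * (c⁻¹ * k * c * w * (c⁻¹ * k * c)⁻¹) * c⁻¹ := by group
      _ = c * w * c⁻¹ := by rw [h1]
  have hK : ∀ k, ρ k = 1 → ∀ w ∈ ws V x, (k : G) * w * (k : G)⁻¹ = w := by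
    intro k hk w hw
    have : w ∈ U := hρ.irr hxU hinv (u := u) ⟨hu, hfix⟩ hu hu1 hux hw
    exact this.2 k hk
  obtain ⟨g, hg, hG⟩ := h.exists_ru hx
  obtain ⟨t, ht, v, hv, htv, hv1, hvx⟩ := hG.move
  have hvW : v ∈ ws V x := le_ws (⟨⟨g, rfl⟩, hG.z_mem⟩ : cj g V ∈ lines V x) hv
  obtain ⟨i, hi⟩ := hρ.exists_pg hvW
  have hti : ρ ⟨t, ht⟩ i = i := hρ.idx_fix hi hv1 hvx (c := ⟨t, ht⟩) (Or.inr htv)
  rcases exists_k4_mul i _ hti with h3 | ⟨k, hk4, hk⟩
  · rcases hρ.fpf ⟨t, ht⟩ h3 v hvW (Or.inr htv) with e | e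
    · exact hv1 e
    · exact hvx e
  · obtain ⟨d, rfl⟩ := hρ.even k hk4.2.1
    have hd := hρ.fix_of_k4 hk4 hi
    have h1 := fix_of_ker hρ hK hk4.2.2 hvW hd
    have hdx : (d : G) * x * (d : G)⁻¹ = x := by
      rw [mem_centralizer_singleton_iff.mp d.2, mul_inv_cancel_right]
    have e : ((d * ⟨t, ht⟩ : centralizer ({x} : Set G)) : G) = d * t := rfl
    have h2 : (d : G) * t * v * ((d : G) * t)⁻¹ = v * x := by
      calc (d : G) * t * v * ((d : G) * t)⁻¹ = (d : G) * (t * v * t⁻¹) * (d : G)⁻¹ := by group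
        _ = ((d : G) * v * (d : G)⁻¹) * ((d : G) * x * (d : G)⁻¹) := by rw [htv]; group
        _ = v * x := by rw [h1, hdx]
    have h4 := fix_of_ker hρ hK (c := d * ⟨t, ht⟩) (by rw [map_mul]; exact hk) hvW (by
      rw [e, h2]; exact Or.inr rfl)
    rw [e, h2] at h4
    exact hρ.x_ne (by simpa using h4)

theorem hom_aux (h : Ru V z) {x : G} (hx : Pt z x) {ρ : centralizer ({x} : Set G) →* S5}
    (hρ : Loc (ws V x) x ρ) {p q : G} (hp : p ∈ ws V x) (hq : q ∈ ws V x) (hp1 : p ≠ 1) (hpx : p ≠ x)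
    (hpq : p ≠ q) (hpqx : p * q ≠ x) :
    ∃ k, ρ k = 1 ∧ (k : G) * p * (k : G)⁻¹ = p * x ∧ (k : G) * q * (k : G)⁻¹ = q := by
  have hxc : ∀ k : centralizer ({x} : Set G), (k : G) * x * (k : G)⁻¹ = x := fun k => by
    rw [mem_centralizer_singleton_iff.mp k.2, mul_inv_cancel_right]
  have hpq1 : p * q ≠ 1 := fun e => hpq (by rw [mul_eq_one_iff_eq_inv.mp e, hρ.inv hq])
  obtain ⟨k, hk, h1⟩ := h.exists_neg hx hρ hp hp1 hpx
  rcases (hρ.ker k).mp hk q hq with h2 | h2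
  · exact ⟨k, hk, h1, h2⟩
  · obtain ⟨l, hl, h3⟩ := h.exists_neg hx hρ (mul_mem hp hq) hpq1 hpqx
    have h3' : (l : G) * p * (l : G)⁻¹ * ((l : G) * q * (l : G)⁻¹) = p * q * x := by
      rw [← h3]; group
    rcases (hρ.ker l).mp hl p hp with h4 | h4
    · -- `l` fixes `p`, moves `q`
      rw [h4] at h3'
      have h5 : (l : G) * q * (l : G)⁻¹ = q * x := by
        have := congrArg (fun t => p⁻¹ * t) h3'
        simpa [mul_assoc] using this
      refine ⟨k * l, by rw [map_mul, hk, hl, one_mul], ?_, ?_⟩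
      · change (k : G) * l * p * ((k : G) * l)⁻¹ = _
        calc (k : G) * l * p * ((k : G) * l)⁻¹ = (k : G) * ((l : G) * p * (l : G)⁻¹) * (k : G)⁻¹ := by group
          _ = p * x := by rw [h4, h1]
      · change (k : G) * l * q * ((k : G) * l)⁻¹ = _
        calc (k : G) * l * q * ((k : G) * l)⁻¹ = (k : G) * ((l : G) * q * (l : G)⁻¹) * (k : G)⁻¹ := by group
          _ = ((k : G) * q * (k : G)⁻¹) * ((k : G) * x * (k : G)⁻¹) := by rw [h5]; group
          _ = q := by rw [h2, hxc, mul_assoc, hρ.xx, mul_one]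
    · rw [h4] at h3'
      have h5 : (l : G) * q * (l : G)⁻¹ = q := by
        have h6 : p * x * ((l : G) * q * (l : G)⁻¹) = p * x * q := by
          rw [h3', mul_assoc, mul_assoc, hρ.comm q hq x hρ.x_mem]
        exact mul_left_cancel h6
      exact ⟨l, hl, h4, h5⟩

/-- the kernel induces all of `Hom(W/⟨x⟩, ⟨x⟩)` (on two-dimensional subspaces) -/
theorem exists_hom (h : Ru V z) {x : G} (hx : Pt z x) {ρ : centralizer ({x} : Set G) →* S5}
    (hρ : Loc (ws V x) x ρ) {p q : G} (hp : p ∈ ws V x) (hq : q ∈ ws V x) (hp1 : p ≠ 1) (hpx : p ≠ x)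
    (hq1 : q ≠ 1) (hqx : q ≠ x) (hpq : p ≠ q) (hpqx : p * q ≠ x) {e f : G} (he : e = 1 ∨ e = x)
    (hf : f = 1 ∨ f = x) :
    ∃ k, ρ k = 1 ∧ (k : G) * p * (k : G)⁻¹ = p * e ∧ (k : G) * q * (k : G)⁻¹ = q * f := by
  have hxc : ∀ k : centralizer ({x} : Set G), (k : G) * x * (k : G)⁻¹ = x := fun k => by
    rw [mem_centralizer_singleton_iff.mp k.2, mul_inv_cancel_right]
  obtain ⟨k, hk, h1, h2⟩ := h.hom_aux hx hρ hp hq hp1 hpx hpq hpqx
  obtain ⟨l, hl, h3, h4⟩ := h.hom_aux hx hρ hq hp hq1 hqx hpq.symm (by rwa [hρ.comm q hq p hp])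
  rcases he with rfl | rfl
  · rcases hf with rfl | rfl
    · exact ⟨1, map_one _, by simp, by simp⟩
    · exact ⟨l, hl, by rw [h4, mul_one], h3⟩
  · rcases hf with rfl | hf
    · exact ⟨k, hk, h1, by rw [h2, mul_one]⟩
    · rw [hf]
      refine ⟨k * l, by rw [map_mul, hk, hl, one_mul], ?_, ?_⟩
      · change (k : G) * l * p * ((k : G) * l)⁻¹ = _
        calc (k : G) * l * p * ((k : G) * l)⁻¹ = (k : G) * ((l : G) * p * (l : G)⁻¹) * (k : G)⁻¹ := by group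
          _ = _ := by rw [h4, h1]
      · change (k : G) * l * q * ((k : G) * l)⁻¹ = _
        calc (k : G) * l * q * ((k : G) * l)⁻¹ = (k : G) * ((l : G) * q * (l : G)⁻¹) * (k : G)⁻¹ := by group
          _ = ((k : G) * q * (k : G)⁻¹) * ((k : G) * e * (k : G)⁻¹) := by rw [h3]; group
          _ = _ := by rw [h2, hxc]

/-- `C_G(x)` is transitive on `ws V x` minus `⟨x⟩` -/
theorem trans_ws (h : Ru V z) {x : G} (hx : Pt z x) {u v : G} (hu : u ∈ ws V x) (hv : v ∈ ws V x)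
    (hu1 : u ≠ 1) (hux : u ≠ x) (hv1 : v ≠ 1) (hvx : v ≠ x) :
    ∃ c : G, c * x = x * c ∧ c * u * c⁻¹ = v := by
  obtain ⟨ρ, hρ⟩ := h.loc_pt hx
  obtain ⟨c, _, hc⟩ := hρ.trans hu hv hu1 hux hv1 hvx
  rcases hc with e | e
  · exact ⟨c, mem_centralizer_singleton_iff.mp c.2, e⟩
  · obtain ⟨k, _, hk⟩ := h.exists_neg hx hρ hv hv1 hvx
    refine ⟨k * c, mem_centralizer_singleton_iff.mp (k * c).2, ?_⟩
    have hxk : (k : G) * x * (k : G)⁻¹ = x := by
      rw [mem_centralizer_singleton_iff.mp k.2, mul_inv_cancel_right]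
    calc (k : G) * c * u * ((k : G) * c)⁻¹ = (k : G) * ((c : G) * u * (c : G)⁻¹) * (k : G)⁻¹ := by group
      _ = ((k : G) * v * (k : G)⁻¹) * ((k : G) * x * (k : G)⁻¹) := by rw [e]; group
      _ = v := by rw [hk, hxk, mul_assoc, hρ.xx, mul_one]

end Ru

end Cfsg.Agent.Omega.RuShape.Base
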