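import Mathlib
import Cfsg.Agent.Omega.NOne.NatProd
import Cfsg.Agent.Omega.SQ1.FFOne
import Cfsg.Agent.Omega.NO3S.TwoOne.Irr

/-!
# `M_x` natural for `SL₂(q')`: reduction to `q' = 4` (helper881's text #12858, (1.1), (1.3))

`h : One T V z` (helper391's structure), `D : NatSec F (C_G(z)) (ws V z) ⟨z⟩`: `W_z/⟨z⟩` is the natural module of a normal
subgroup `SL₂(F)` of `C_G(z)/K_z`, `F` finite of characteristic 2.

* `act_ap` : `W_y` induces transvections with centre `D.π y`, `y ∈ V`;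
* `mem_ws_iff` : `W_z ∩ W_y` is the preimage of `F · D.π y`;
* `card_four` : if `4 ≤ |F|` then `|F| = 4`.
-/

set_option autoImplicit false
set_option linter.unusedSectionVars false

namespace Cfsg.Agent.Omega.RuShape.NatA

open Subgroup Cfsg Cfsg.Agent.ZN Cfsg.Agent.MinSimple.Geo Cfsg.Agent.Omega.CaseL
open Cfsg.Agent.Omega.NO3S.TwoOne Cfsg.Agent.Omega.NatPair
open Cfsg.Agent.Omega.NOne.NatProd (dt_ap' exists_dt exists_basis' exists_transv)

universe u

variable {G : Type u} [Group G] {F : Type*} [Field F]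

/-- transvections -/
theorem exists_tv {e : Fin 2 → F} (he : e ≠ 0) (t : F) :
    ∃ B : Matrix.SpecialLinearGroup (Fin 2) F, ap B e = e ∧ ∀ x, ap B x = x + (t * dt e x) • e := by
  obtain ⟨u, hu⟩ := exists_dt he
  have hee : dt e e = 0 := by unfold dt; ring
  obtain ⟨B, hB, hBu⟩ := exists_basis' (w := e) (x := u) (w' := e) (x' := u + t • e)
    (by rw [hu]; exact one_ne_zero) (by rw [dt_add, dt_smul, hee, mul_zero, add_zero])
  refine ⟨B, hB, ?_⟩
  obtain ⟨t', ht'⟩ := exists_transv he hB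
  have h1 := ht' u
  rw [hBu, hu, mul_one] at h1
  have h2 : t • e = t' • e := add_left_cancel h1
  have h3 : t = t' := smul_left_injective F he h2
  rw [h3]; exact ht'

theorem transv_ne {e : Fin 2 → F} (he : e ≠ 0) {B : Matrix.SpecialLinearGroup (Fin 2) F} (hB : ap B e = e)
    (hB1 : B ≠ 1) : ∃ t : F, t ≠ 0 ∧ ∀ x, ap B x = x + (t * dt e x) • e := by
  obtain ⟨t, ht⟩ := exists_transv he hB
  refine ⟨t, fun e0 => hB1 (ap_inj fun x => ?_), ht⟩
  rw [ht, e0, zero_mul, zero_smul, add_zero, ap_one]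

theorem transv_surj {e : Fin 2 → F} (he : e ≠ 0) {B : Matrix.SpecialLinearGroup (Fin 2) F} (hB : ap B e = e)
    (hB1 : B ≠ 1) (c : F) : ∃ x, ap B x = x + c • e := by
  obtain ⟨t, ht, hx⟩ := transv_ne he hB hB1
  obtain ⟨u, hu⟩ := exists_dt he
  refine ⟨(c * t⁻¹) • u, ?_⟩
  rw [hx, dt_smul, hu, mul_one]
  congr 2
  field_simp

theorem transv_fix {e : Fin 2 → F} (he : e ≠ 0) {B : Matrix.SpecialLinearGroup (Fin 2) F} (hB : ap B e = e)
    (hB1 : B ≠ 1) {x : Fin 2 → F} (hx : ap B x = x) : ∃ c : F, x = c • e := by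
  obtain ⟨t, ht, hx'⟩ := transv_ne he hB hB1
  have h1 := hx' x
  rw [hx] at h1
  have h2 : (t * dt e x) • e = 0 := left_eq_add.mp h1
  rcases smul_eq_zero.mp h2 with h3 | h3
  · exact exists_smul_of_dt he ((mul_eq_zero.mp h3).resolve_left ht)
  · exact absurd h3 he

variable [Finite G] {T V : Subgroup G} {z : G}

/-- the kernel -/
theorem mem_kern_iff' (D : SQ1.FFOne.NatSec F (centralizer ({z} : Set G)) (ws V z) (zpowers z)) {g : G} :
    g ∈ D.kern ↔ g ∈ kq V z := by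
  constructor
  · intro hg
    have h1 := (D.mem_kern_iff hg.1).mp hg
    have hg' := inv_mem hg
    have h2 := (D.mem_kern_iff hg'.1).mp hg'
    refine ⟨hg.1, h1, fun w hw => ?_⟩
    have h3 := h2 w hw
    rwa [inv_inv] at h3
  · intro hg
    exact (D.mem_kern_iff hg.1).mpr hg.2.1

section One

variable (h : One T V z) (D : SQ1.FFOne.NatSec F (centralizer ({z} : Set G)) (ws V z) (zpowers z))

include h

theorem zpz {g : G} : g ∈ zpowers z ↔ g = 1 ∨ g = z := mem_zpowers_iff_of_mul_self h.ln.zz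

theorem y_mem {y : G} (hy : y ∈ V) : y ∈ ws V z := h.V_le h.ln.z_mem h.ln.z_ne hy

theorem z_mem_ws : z ∈ ws V z := h.V_le h.ln.z_mem h.ln.z_ne h.ln.z_mem

theorem wy_le {y : G} (hy : y ∈ V) (hy1 : y ≠ 1) : ws V y ≤ centralizer ({z} : Set G) := fun _ ha =>
  h.cent_le_centralizer h.ln.z_mem (h.ws_le_centralizer_V hy hy1 ha)

include D

theorem pi_z : D.π z = 0 := (D.ker z (z_mem_ws h)).mpr (mem_zpowers z)

theorem pi_ne {w : G} (hw : w ∈ ws V z) (hw1 : w ≠ 1) (hwz : w ≠ z) : D.π w ≠ 0 := by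
  rw [Ne, D.ker w hw, zpz h]
  tauto

theorem pi_eq {v w : G} (hv : v ∈ ws V z) (hw : w ∈ ws V z) (e : D.π v = D.π w) : v = w ∨ v = z * w := by
  have h1 := (D.eq_iff hv hw).mp e
  rcases (zpz h).mp h1 with e1 | e1
  · left; exact mul_inv_eq_one.mp e1
  · right; exact mul_inv_eq_iff_eq_mul.mp e1

theorem act_comm {a w : G} (ha : a ∈ centralizer ({z} : Set G)) (hw : w ∈ ws V z) (haw : a * w = w * a) :
    D.act a (D.π w) = D.π w := by
  rw [D.act_π ha hw, haw, mul_inv_cancel_right]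

theorem act_kern {k : G} (hk : k ∈ kq V z) (x : Fin 2 → F) : D.act k x = x :=
  ((mem_kern_iff' D).mpr hk).2 x

/-- `C_G(z)`-conjugates of elements of `W_y` by elements fixing `D.π y` -/
theorem exists_conj {y c a : G} (hy : y ∈ V) (hy1 : y ≠ 1) (hyz : y ≠ z)
    (hc : c ∈ centralizer ({z} : Set G)) (hcy : D.act c (D.π y) = D.π y) (ha : a ∈ ws V y) :
    ∃ b ∈ ws V y, ∀ x, D.act b x = D.act (c * a * c⁻¹) x := by
  have hyW := y_mem h hy
  have haC := wy_le h hy hy1 ha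
  have hcac : c * a * c⁻¹ ∈ centralizer ({z} : Set G) := mul_mem (mul_mem hc haC) (inv_mem hc)
  have h1 : c * a * c⁻¹ ∈ ws V (c * y * c⁻¹) := conj_mem_ws c ha
  rw [D.act_π hc hyW] at hcy
  rcases pi_eq h D (D.Vn c hc y hyW) hyW hcy with e | e
  · rw [e] at h1
    exact ⟨_, h1, fun x => rfl⟩
  · obtain ⟨k, hk, hk1⟩ := h.exists_mover h.ln.z_mem h.ln.z_ne
    have e1 := h.move h.ln.z_mem h.ln.z_ne hy hy1 hyz hk hk1
    rw [e, ← e1] at h1
    have h2 := conj_mem_ws k⁻¹ h1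
    have e2 : k⁻¹ * (k * y * k⁻¹) * k⁻¹⁻¹ = y := by group
    rw [e2, inv_inv] at h2
    refine ⟨_, h2, fun x => ?_⟩
    have hkC := kq_le_centralizer V z hk
    rw [D.act_mul (mul_mem (inv_mem hkC) hcac) hkC, act_kern h D hk, D.act_mul (inv_mem hkC) hcac,
      act_kern h D (inv_mem hk)]

theorem act_ap [Finite F] [CharP F 2] {y a : G} (hy : y ∈ V) (hy1 : y ≠ 1) (hyz : y ≠ z) (ha : a ∈ ws V y) :
    ∃ B, ap B (D.π y) = D.π y ∧ D.Ind a B := by
  have hyW := y_mem h hy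
  have haC := wy_le h hy hy1 ha
  set e := D.π y with he
  have he0 : e ≠ 0 := pi_ne h D hyW hy1 hyz
  have hfix : ∀ b ∈ ws V y, D.act b e = e := fun b hb =>
    act_comm h D (wy_le h hy hy1 hb) hyW (h.V_comm hy (h.ws_le_centralizer_V hy hy1 hb)).symm
  obtain ⟨s, hs⟩ := D.exists_semi haC
  have hs1 : ∀ c, s c = c := by
    by_cases hB : ∃ b ∈ ws V y, ∃ B, ap B e = e ∧ B ≠ 1 ∧ D.Ind b B
    · obtain ⟨b, hb, B, hBe, hB1, hbB⟩ := hB
      have hbC := wy_le h hy hy1 hb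
      intro c
      obtain ⟨x, hx⟩ := transv_surj he0 hBe hB1 c
      obtain ⟨w, hw, rfl⟩ := D.surj x
      have h1 : D.π (b * w * b⁻¹) = D.π w + c • e := by
        rw [← D.act_π hbC hw, (D.ind_iff hbC).mp hbB, hx]
      have hi : b * w * b⁻¹ * w⁻¹ ∈ ws V z := mul_mem (D.Vn b hbC w hw) (inv_mem hw)
      have h2 : D.π (b * w * b⁻¹ * w⁻¹) = c • e := by
        rw [D.map_div (D.Vn b hbC w hw) hw, h1]; abel
      have hiy : b * w * b⁻¹ * w⁻¹ ∈ ws V y :=
        ii_le hy hy1 (h.comm_mem_ii hy hy1 h.ln.z_mem h.ln.z_ne (Ne.symm hyz) hb hw)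
      have h3 := act_comm h D haC hi (h.comm hy hy1 a ha _ hiy)
      rw [h2, hs, hfix a ha] at h3
      exact smul_left_injective F he0 h3
    · push Not at hB
      obtain ⟨u, hu⟩ := exists_dt he0
      have key : ∀ t : F, s t = t * dt e (D.act a u) := by
        intro t
        obtain ⟨Bt, hBte, hBt⟩ := exists_tv he0 t
        obtain ⟨c, hc, hcB⟩ := D.lift Bt
        have hcy : D.act c e = e := by rw [(D.ind_iff hc).mp hcB, hBte]
        obtain ⟨b, hb, hb'⟩ := exists_conj h D hy hy1 hyz hc hcy ha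
        have hbC := wy_le h hy hy1 hb
        obtain ⟨B', hB'⟩ := D.norm a haC c⁻¹ (inv_mem hc) Bt⁻¹ (D.ind_inv hc hcB)
        have hac : a * c⁻¹ * a⁻¹ ∈ centralizer ({z} : Set G) := mul_mem (mul_mem haC (inv_mem hc)) (inv_mem haC)
        have h1 : D.Ind (c * (a * c⁻¹ * a⁻¹)) (Bt * B') := D.ind_mul hc hac hcB hB'
        have hba : b * a⁻¹ ∈ ws V y := mul_mem hb (inv_mem ha)
        have hcac : c * a * c⁻¹ ∈ centralizer ({z} : Set G) := mul_mem (mul_mem hc haC) (inv_mem hc)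
        have h2 : D.Ind (b * a⁻¹) (Bt * B') := by
          rw [D.ind_iff (wy_le h hy hy1 hba)]
          intro x
          rw [← (D.ind_iff (mul_mem hc hac)).mp h1, D.act_mul hbC (inv_mem haC), hb',
            ← D.act_mul hcac (inv_mem haC)]
          congr 1; group
        have h3 : ap (Bt * B') e = e := by
          rw [← (D.ind_iff (wy_le h hy hy1 hba)).mp h2]; exact hfix _ hba
        have h4 : Bt * B' = 1 := by
          by_contra hne
          exact hB _ hba _ h3 hne h2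
        have h5 : ∀ x, D.act c (D.act a x) = D.act a (D.act c x) := by
          intro x
          have h6 : ∀ x, D.act b x = D.act a x := by
            intro x
            have h7 := (D.ind_iff (wy_le h hy hy1 hba)).mp h2 (D.act a x)
            rw [h4, ap_one, D.act_mul hbC (inv_mem haC), D.act_inv_act haC] at h7
            exact h7
          have h8 := hb' (D.act c x)
          rw [h6, D.act_mul (mul_mem hc haC) (inv_mem hc), D.act_inv_act hc, D.act_mul hc haC] at h8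
          exact h8.symm
        have h6 := h5 u
        rw [(D.ind_iff hc).mp hcB, (D.ind_iff hc).mp hcB, hBt, hBt, D.act_add haC, hs, hfix a ha, hu,
          mul_one] at h6
        have h7 := add_left_cancel h6
        exact (smul_left_injective F he0 h7).symm
      have h1 := key 1
      rw [map_one, one_mul] at h1
      intro c
      rw [key c, ← h1, mul_one]
  have hlin : ∀ (c : F) x, D.act a (c • x) = c • D.act a x := fun c x => by rw [hs, hs1]
  obtain ⟨u, hu⟩ := exists_dt he0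
  set κ := dt e (D.act a u) with hκ
  have hdt : ∀ x, dt e (D.act a x) = κ * dt e x := by
    intro x
    obtain ⟨α, β, rfl⟩ := exists_comb (by rw [hu]; exact one_ne_zero : dt e u ≠ 0) x
    have hee : dt e e = 0 := by unfold dt; ring
    rw [D.act_add haC, hlin, hlin, hfix a ha]
    simp only [dt_add, dt_smul, hee, hu, ← hκ]
    ring
  have haa : ∀ x, D.act a (D.act a x) = x := by
    intro x
    rw [← D.act_mul haC haC, h.sq hy hy1 a ha, D.act_one]
  have hκ1 : κ = 1 := by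
    have h1 := hdt (D.act a u)
    rw [haa, hu, ← hκ] at h1
    have h2 : (κ - 1) * (κ - 1) = 0 := by
      have h3 : (2 : F) = 0 := CharTwo.two_eq_zero
      linear_combination (-1 : F) * h1 - (κ - 1) * h3
    exact sub_eq_zero.mp (mul_self_eq_zero.mp h2)
  obtain ⟨B, hB⟩ := exists_of_fix he0 (D.act a) (D.act_add haC) hlin (hfix a ha) (by
    intro x
    refine exists_smul_of_dt he0 ?_
    have h1 : dt e (D.act a x - x) = dt e (D.act a x) - dt e x := by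
      unfold dt; simp only [Pi.sub_apply]; ring
    rw [h1, hdt, hκ1, one_mul, sub_self])
  exact ⟨B, by rw [← hB]; exact hfix a ha, (D.ind_iff haC).mpr hB⟩

/-- `W_y` acts nontrivially on `W_z/⟨z⟩` -/
theorem exists_nk (_ : One T V z)
    (_ : SQ1.FFOne.NatSec F (centralizer ({z} : Set G)) (ws V z) (zpowers z)) {y : G} (hy : y ∈ V)
    (hy1 : y ≠ 1) (hyz : y ≠ z) : ∃ a ∈ ws V y, a ∉ kq V z := by
  by_contra hcon
  push Not at hcon
  exact h.not_comm_z hy hy1 hyz fun a ha w hw => (hcon a ha).2.1 w hw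

theorem exists_nk_ap [Finite F] [CharP F 2] {y a : G} (hy : y ∈ V) (hy1 : y ≠ 1) (hyz : y ≠ z)
    (ha : a ∈ ws V y) (haK : a ∉ kq V z) : ∃ B, ap B (D.π y) = D.π y ∧ B ≠ 1 ∧ D.Ind a B := by
  obtain ⟨B, hB, hBa⟩ := act_ap h D hy hy1 hyz ha
  refine ⟨B, hB, ?_, hBa⟩
  rintro rfl
  exact haK ((mem_kern_iff' D).mp ((D.ind_one_iff (wy_le h hy hy1 ha)).mp hBa))

/-- commutators with an element of `W_y - K_z` -/
theorem exists_cm [Finite F] [CharP F 2] {y a : G} (hy : y ∈ V) (hy1 : y ≠ 1) (hyz : y ≠ z)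
    (ha : a ∈ ws V y) (haK : a ∉ kq V z) (c : F) :
    ∃ w ∈ ws V z, D.π (a * w * a⁻¹ * w⁻¹) = c • D.π y := by
  have haC := wy_le h hy hy1 ha
  obtain ⟨B, hB, hB1, hBa⟩ := exists_nk_ap h D hy hy1 hyz ha haK
  obtain ⟨x, hx⟩ := transv_surj (pi_ne h D (y_mem h hy) hy1 hyz) hB hB1 c
  obtain ⟨w, hw, rfl⟩ := D.surj x
  refine ⟨w, hw, ?_⟩
  rw [D.map_div (D.Vn a haC w hw) hw, ← D.act_π haC hw, (D.ind_iff haC).mp hBa, hx]
  abel

/-- (1.1) `W_z ∩ W_y` is the preimage of `F · D.π y` -/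
theorem mem_ws_iff [Finite F] [CharP F 2] {y w : G} (hy : y ∈ V) (hy1 : y ≠ 1) (hyz : y ≠ z)
    (hw : w ∈ ws V z) : w ∈ ws V y ↔ ∃ c : F, D.π w = c • D.π y := by
  obtain ⟨a, ha, haK⟩ := exists_nk h D h D hy hy1 hyz
  have haC := wy_le h hy hy1 ha
  constructor
  · intro hwy
    obtain ⟨B, hB, hB1, hBa⟩ := exists_nk_ap h D hy hy1 hyz ha haK
    have h1 := act_comm h D haC hw (h.comm hy hy1 a ha w hwy)
    rw [(D.ind_iff haC).mp hBa] at h1
    exact transv_fix (pi_ne h D (y_mem h hy) hy1 hyz) hB hB1 h1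
  · rintro ⟨c, hc⟩
    obtain ⟨v, hv, hcv⟩ := exists_cm h D hy hy1 hyz ha haK c
    have hi := h.comm_mem_ii hy hy1 h.ln.z_mem h.ln.z_ne (Ne.symm hyz) ha hv
    rcases pi_eq h D hw (ii_le h.ln.z_mem h.ln.z_ne hi) (by rw [hc, hcv]) with e | e
    · rw [e]; exact ii_le hy hy1 hi
    · rw [e]; exact mul_mem (h.V_le hy hy1 h.ln.z_mem) (ii_le hy hy1 hi)

theorem fix_mem [Finite F] [CharP F 2] {y a w : G} (hy : y ∈ V) (hy1 : y ≠ 1) (hyz : y ≠ z)
    (ha : a ∈ ws V y) (haK : a ∉ kq V z) (hw : w ∈ ws V z) (hc : a * w * a⁻¹ * w⁻¹ ∈ zpowers z) :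
    w ∈ ws V y := by
  have haC := wy_le h hy hy1 ha
  rw [mem_ws_iff h D hy hy1 hyz hw]
  obtain ⟨B, hB, hB1, hBa⟩ := exists_nk_ap h D hy hy1 hyz ha haK
  refine transv_fix (pi_ne h D (y_mem h hy) hy1 hyz) hB hB1 ?_
  rw [← (D.ind_iff haC).mp hBa, D.act_π haC hw, D.eq_iff (D.Vn a haC w hw) hw]
  exact hc

/-- an element of `K_y ∩ C_G(V)` acting as `c ↦ c + 1` -/
theorem exists_frob [Finite F] [CharP F 2] {y : G} (hy : y ∈ V) (hy1 : y ≠ 1) (hyz : y ≠ z) {c : F}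
    (hc0 : c ≠ 0) (hc1 : c ≠ 1) {u : G} (hu : u ∈ ws V z) (huc : D.π u = c • D.π y) :
    ∃ k ∈ kq V y, k ∈ centralizer (V : Set G) ∧ k * u * k⁻¹ = y * u := by
  have he0 := pi_ne h D (y_mem h hy) hy1 hyz
  have huy := (mem_ws_iff h D hy hy1 hyz hu).mpr ⟨c, huc⟩
  have hui := h.mem_ii hy hy1 h.ln.z_mem h.ln.z_ne (Ne.symm hyz) huy hu
  refine h.fu hui ?_ hy hy1
  intro huV
  rcases h.ln.four h.ln.z_mem hy h.ln.z_ne hy1 (Ne.symm hyz) huV with e | e | e | e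
  · rw [e, D.map_one] at huc
    rcases smul_eq_zero.mp huc.symm with e1 | e1
    · exact hc0 e1
    · exact he0 e1
  · rw [e, pi_z h D] at huc
    rcases smul_eq_zero.mp huc.symm with e1 | e1
    · exact hc0 e1
    · exact he0 e1
  · rw [e] at huc
    have h1 : (1 : F) • D.π y = c • D.π y := by rw [one_smul]; exact huc
    exact hc1 (smul_left_injective F he0 h1).symm
  · rw [e, D.map_mul z (z_mem_ws h) y (y_mem h hy), pi_z h D, zero_add] at huc
    have h1 : (1 : F) • D.π y = c • D.π y := by rw [one_smul]; exact huc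
    exact hc1 (smul_left_injective F he0 h1).symm

/-- (1.3) -/
theorem field_four [Finite F] [CharP F 2] {y : G} (hy : y ∈ V) (hy1 : y ≠ 1) (hyz : y ≠ z) {c : F}
    (hc0 : c ≠ 0) (hc1 : c ≠ 1) (d : F) : d = 0 ∨ d = 1 ∨ d = c ∨ d = c + 1 := by
  have he0 := pi_ne h D (y_mem h hy) hy1 hyz
  have hyW := y_mem h hy
  obtain ⟨u, hu, huc⟩ := D.surj (c • D.π y)
  obtain ⟨k, hk, hkV, hku⟩ := exists_frob h D hy hy1 hyz hc0 hc1 hu huc
  have hkC := h.cent_le_centralizer h.ln.z_mem hkV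
  obtain ⟨s, hs⟩ := D.exists_semi hkC
  have hke : D.act k (D.π y) = D.π y := act_comm h D hkC hyW (h.V_comm hy hkV).symm
  have h1 : s c = c + 1 := by
    have h2 := D.act_π hkC hu
    rw [huc, hs, hke, hku, D.map_mul y hyW u hu, huc] at h2
    have h3 : s c • D.π y = (c + 1) • D.π y := by rw [h2, add_smul, one_smul, add_comm]
    exact smul_left_injective F he0 h3
  have h2 : ∀ d : F, s d = d ∨ s d = d + 1 := by
    intro d
    obtain ⟨w, hw, hwd⟩ := D.surj (d • D.π y)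
    have hwy := (mem_ws_iff h D hy hy1 hyz hw).mpr ⟨d, hwd⟩
    have h3 := D.act_π hkC hw
    rw [hwd, hs, hke] at h3
    rcases h.kq_cases hy hk hwy with e | e
    · left
      rw [e, hwd] at h3
      exact smul_left_injective F he0 h3
    · right
      rw [e, D.map_mul y hyW w hw, hwd] at h3
      have h4 : s d • D.π y = (d + 1) • D.π y := by rw [h3, add_smul, one_smul, add_comm]
      exact smul_left_injective F he0 h4
  have h2' : (2 : F) = 0 := CharTwo.two_eq_zero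
  rcases h2 d with e | e
  · have h3 : s (c * d) = c * d + d := by rw [map_mul, h1, e]; ring
    rcases h2 (c * d) with e1 | e1
    · left
      rw [e1] at h3
      exact left_eq_add.mp h3
    · right; left
      rw [e1] at h3
      exact (add_left_cancel h3).symm
  · have h3 : s (c * d) = c * d + (c + d + 1) := by rw [map_mul, h1, e]; ring
    rcases h2 (c * d) with e1 | e1
    · right; right; right
      rw [e1] at h3
      have h4 := left_eq_add.mp h3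
      linear_combination h4 - (c + 1) * h2'
    · right; right; left
      rw [e1] at h3
      have h4 := add_left_cancel h3
      linear_combination (-1 : F) * h4 - c * h2'

/-- exchange of `z` and `y` -/
theorem exists_swap (_ : SQ1.FFOne.NatSec F (centralizer ({z} : Set G)) (ws V z) (zpowers z)) {y : G}
    (hy : y ∈ V) (hy1 : y ≠ 1) (hyz : y ≠ z) :
    ∃ k : G, k * z * k⁻¹ = y ∧ k * y * k⁻¹ = z := by
  have hz := h.ln.z_mem
  have hz1 := h.ln.z_ne
  have hr : z * y ∈ V := mul_mem hz hy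
  have hr1 : z * y ≠ 1 := h.mul_ne_one hy (Ne.symm hyz)
  have hrz : z ≠ z * y := fun e => hy1 (by simpa using e.symm)
  have hry : y ≠ z * y := fun e => hz1 (by simpa using e.symm)
  obtain ⟨k, hk, hk1⟩ := h.exists_mover hr hr1
  refine ⟨k, ?_, ?_⟩
  · rw [h.move hr hr1 hz hz1 hrz hk hk1, h.ln.comm hz hy, mul_assoc, h.ln.zz, mul_one]
  · rw [h.move hr hr1 hy hy1 hry hk hk1, mul_assoc, h.ln.sq y hy, mul_one]

/-- `fix_mem` with `z` and `y` exchanged -/
theorem fix_mem' [Finite F] [CharP F 2] {y a w : G} (hy : y ∈ V) (hy1 : y ≠ 1) (hyz : y ≠ z)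
    (hw : w ∈ ws V z) (hwK : w ∉ kq V y) (ha : a ∈ ws V y) (hc : a * w * a⁻¹ * w⁻¹ ∈ zpowers y) :
    a ∈ ws V z := by
  obtain ⟨k, hkz, hky⟩ := exists_swap h D D hy hy1 hyz
  have h1 : k * w * k⁻¹ ∈ ws V y := by rw [← hkz]; exact conj_mem_ws k hw
  have h2 : k * a * k⁻¹ ∈ ws V z := by
    have := conj_mem_ws k ha
    rwa [hky] at this
  have h3 : k * w * k⁻¹ ∉ kq V z := by
    intro e
    apply hwK
    have e1 := conj_mem_kq k⁻¹ e
    have e2 : k⁻¹ * (k * w * k⁻¹) * k⁻¹⁻¹ = w := by group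
    have e3 : k⁻¹ * z * k⁻¹⁻¹ = y := by rw [← hky]; group
    rwa [e2, e3] at e1
  have h4 : k * w * k⁻¹ * (k * a * k⁻¹) * (k * w * k⁻¹)⁻¹ * (k * a * k⁻¹)⁻¹ ∈ zpowers z := by
    have e1 : k * w * k⁻¹ * (k * a * k⁻¹) * (k * w * k⁻¹)⁻¹ * (k * a * k⁻¹)⁻¹ =
        k * (a * w * a⁻¹ * w⁻¹)⁻¹ * k⁻¹ := by group
    rw [e1, (zpz h)]
    rcases (mem_zpowers_iff_of_mul_self (h.ln.sq y hy)).mp hc with e | e
    · left; rw [e]; group
    · right; rw [e, h.ln.inv_eq hy, hky]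
  have h5 := fix_mem h D hy hy1 hyz h1 h3 h2 h4
  have h6 := conj_mem_ws k⁻¹ h5
  have e2 : k⁻¹ * (k * a * k⁻¹) * k⁻¹⁻¹ = a := by group
  have e3 : k⁻¹ * y * k⁻¹⁻¹ = z := by rw [← hkz]; group
  rwa [e2, e3] at h6

theorem ws_le_kq {p : G} (hp : p ∈ V) (hp1 : p ≠ 1) : ws V p ≤ kq V p := by
  intro a ha
  have haC : a ∈ centralizer ({p} : Set G) :=
    h.cent_le_centralizer hp (h.ws_le_centralizer_V hp hp1 ha)
  refine ⟨haC, fun w hw => ?_, fun w hw => ?_⟩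
  · rw [h.comm hp hp1 a ha w hw, mul_inv_cancel_right, mul_inv_cancel]; exact one_mem _
  · have : a⁻¹ * w * a = w := by rw [mul_assoc, ← h.comm hp hp1 a ha w hw, inv_mul_cancel_left]
    rw [this, mul_inv_cancel]; exact one_mem _

/-- (1.4): `W_z ∩ K_y` is not contained in `W_y` -/
theorem exists_ek [Finite F] [CharP F 2] (h4 : ∃ c : F, c ≠ 0 ∧ c ≠ 1) {y : G} (hy : y ∈ V) (hy1 : y ≠ 1)
    (hyz : y ≠ z) : ∃ w ∈ ws V z, w ∈ kq V y ∧ w ∉ ws V y := by
  by_contra hcon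
  push Not at hcon
  have he0 := pi_ne h D (y_mem h hy) hy1 hyz
  have hyW := y_mem h hy
  obtain ⟨c, hc0, hc1⟩ := h4
  obtain ⟨a, ha, haK⟩ := exists_nk h D h D hy hy1 hyz
  obtain ⟨w, hw, hwc⟩ := exists_cm h D hy hy1 hyz ha haK c
  set i := a * w * a⁻¹ * w⁻¹ with hi
  have hii := h.comm_mem_ii hy hy1 h.ln.z_mem h.ln.z_ne (Ne.symm hyz) ha hw
  have hiz : i ∈ ws V z := ii_le h.ln.z_mem h.ln.z_ne hii
  obtain ⟨k, hk, hkV, hki⟩ := exists_frob h D hy hy1 hyz hc0 hc1 hiz hwc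
  have hkC := h.cent_le_centralizer h.ln.z_mem hkV
  set w₁ := k * w * k⁻¹ with hw₁
  have hw₁z : w₁ ∈ ws V z := D.Vn k hkC w hw
  -- `[a, w₁] = y i`
  have hyc : ∀ v ∈ ws V z, y * v = v * y := fun v hv => h.comm h.ln.z_mem h.ln.z_ne y hyW v hv
  have h1 : a * w₁ * a⁻¹ * w₁⁻¹ = y * i := by
    have e1 : k * i * k⁻¹ = (k * a * k⁻¹) * w₁ * (k * a * k⁻¹)⁻¹ * w₁⁻¹ := by rw [hi, hw₁]; group
    rw [← hki, e1]
    rcases h.kq_cases hy hk ha with e | e
    · rw [e]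
    · rw [e]
      have hawy : a * w₁ * a⁻¹ ∈ ws V z := D.Vn a (wy_le h hy hy1 ha) _ hw₁z
      have e2 : y * (a * w₁ * a⁻¹) * y⁻¹ = a * w₁ * a⁻¹ := by rw [hyc _ hawy, mul_inv_cancel_right]
      calc a * w₁ * a⁻¹ * w₁⁻¹ = (y * (a * w₁ * a⁻¹) * y⁻¹) * w₁⁻¹ := by rw [e2]
        _ = y * a * w₁ * (y * a)⁻¹ * w₁⁻¹ := by group
  -- `[a, w₁ w⁻¹] = y`
  have hcomm : ∀ v ∈ ws V z, ∀ v' ∈ ws V z, v * v' = v' * v := h.comm h.ln.z_mem h.ln.z_ne
  have haw₁ : a * w₁ * a⁻¹ ∈ ws V z := D.Vn a (wy_le h hy hy1 ha) _ hw₁z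
  have haw : a * w * a⁻¹ ∈ ws V z := D.Vn a (wy_le h hy hy1 ha) _ hw
  have h2 : a * (w₁ * w⁻¹) * a⁻¹ * (w₁ * w⁻¹)⁻¹ = y := by
    have e1 : a * w₁ * a⁻¹ = y * i * w₁ := by rw [← h1]; group
    have e2 : a * w * a⁻¹ = i * w := by rw [hi]; group
    have e3 : w₁ * w⁻¹ = w⁻¹ * w₁ := hcomm _ hw₁z _ (inv_mem hw)
    calc a * (w₁ * w⁻¹) * a⁻¹ * (w₁ * w⁻¹)⁻¹ = (a * w₁ * a⁻¹) * (a * w * a⁻¹)⁻¹ * (w₁ * w⁻¹)⁻¹ := by group
      _ = y * i * w₁ * (i * w)⁻¹ * (w₁ * w⁻¹)⁻¹ := by rw [e1, e2]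
      _ = y * i * (w₁ * w⁻¹) * i⁻¹ * (w₁ * w⁻¹)⁻¹ := by group
      _ = y * (i * (w₁ * w⁻¹)) * i⁻¹ * (w₁ * w⁻¹)⁻¹ := by group
      _ = y * ((w₁ * w⁻¹) * i) * i⁻¹ * (w₁ * w⁻¹)⁻¹ := by
          rw [hcomm i hiz _ (mul_mem hw₁z (inv_mem hw))]
      _ = y := by group
  have hww : w₁ * w⁻¹ ∈ ws V z := mul_mem hw₁z (inv_mem hw)
  by_cases hK : w₁ * w⁻¹ ∈ kq V y
  · have h3 := hcon _ hww hK
    rw [h.comm hy hy1 a ha _ h3, mul_inv_cancel_right, mul_inv_cancel] at h2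
    exact hy1 h2.symm
  · have h3 := fix_mem' h D hy hy1 hyz hww hK ha (by rw [h2]; exact mem_zpowers y)
    exact haK (ws_le_kq h D h.ln.z_mem h.ln.z_ne h3)

end One

end Cfsg.Agent.Omega.RuShape.NatA
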