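import Mathlib
import Cfsg.Agent.Omega.RuShape.NatA
import Cfsg.Agent.OddCyclic.GamLoc

/-!
# `M_x` natural for `SL₂(q')`: the Ru shape (helper881's text #12858, end of section 1)

`h : One T V z`, `D : NatSec F (C_G(z)) (ws V z) ⟨z⟩`, `4 ≤ |F|`:

* `scalar_one` : no element of `C_G(z)` acts as a scalar `≠ 1`;
* `exists_loc` : `∃ ρ, Loc (ws V z) z ρ`.
-/

set_option autoImplicit false
set_option linter.unusedSectionVars false

namespace Cfsg.Agent.Omega.RuShape.NatB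

open Subgroup Cfsg Cfsg.Agent.ZN Cfsg.Agent.MinSimple.Geo Cfsg.Agent.Omega.CaseL
open Cfsg.Agent.Omega.NO3S.TwoOne Cfsg.Agent.Omega.NatPair Cfsg.Agent.Omega.RuShape.NatA
open Cfsg.Agent.Omega.NOne.NatProd (dt_ap' exists_dt exists_basis' exists_transv)
open Cfsg.Agent.OddCyclic.GamPerm Cfsg.Agent.OddCyclic.GamLoc

universe u

/-! ### `S₅` -/

theorem s5_k4 : ∀ m : Fin 5, ∀ g : S5, g m = m → g * g = 1 → (∀ j, j ≠ m → g j ≠ j) → K4 m g := by
  decide +kernel

theorem s5_k4_eq : ∀ m : Fin 5, ∀ g : S5, K4 m g → ∀ h : S5, K4 m h → ∀ j, j ≠ m → g j = h j → g = h := by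
  decide +kernel

theorem s5_k4_move : ∀ m : Fin 5, ∀ g : S5, K4 m g → g ≠ 1 → ∀ j, j ≠ m → g j ≠ j ∧ g j ≠ m := by
  decide +kernel

theorem s5_gen : ∀ g : S5, Equiv.Perm.sign g = 1 → ∃ m : Fin 5, ∃ a : S5, K4 m a ∧ ∃ n : Fin 5, K4 n (a⁻¹ * g) := by
  decide +kernel

/-! ### the five lines -/

section Lines

variable {F : Type*} [Field F]

theorem exists_ln [Finite F] (hF : Nat.card F = 4) : ∃ ln : (Fin 2 → F) → Fin 5,
    (∀ x x', x ≠ 0 → x' ≠ 0 → (ln x = ln x' ↔ ∃ c : F, x' = c • x)) ∧ ∀ i, ∃ x, x ≠ 0 ∧ ln x = i := by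
  classical
  have h1 : Nat.card (Projectivization F (Fin 2 → F)) = 5 := by
    rw [Projectivization.card_of_finrank_two F (Fin 2 → F) (by simp), hF]
  have hfin : Finite (Projectivization F (Fin 2 → F)) := Nat.finite_of_card_ne_zero (by rw [h1]; norm_num)
  have e : Projectivization F (Fin 2 → F) ≃ Fin 5 := Finite.equivFinOfCardEq h1
  refine ⟨fun x => if hx : x ≠ 0 then e (Projectivization.mk F x hx) else 0, ?_, ?_⟩
  · intro x x' hx hx'
    beta_reduce
    rw [dif_pos hx, dif_pos hx', e.injective.eq_iff, eq_comm, Projectivization.mk_eq_mk_iff']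
    constructor
    · rintro ⟨c, hc⟩
      exact ⟨c, hc.symm⟩
    · rintro ⟨c, hc⟩
      exact ⟨c, hc.symm⟩
  · intro i
    obtain ⟨p, hp⟩ := e.surjective i
    refine ⟨p.rep, p.rep_nonzero, ?_⟩
    beta_reduce
    rw [dif_pos p.rep_nonzero, Projectivization.mk_rep, hp]

end Lines

variable {G : Type u} [Group G] {F : Type*} [Field F]

variable [Finite G] {T V : Subgroup G} {z : G}

section One

variable (h : One T V z) (D : SQ1.FFOne.NatSec F (centralizer ({z} : Set G)) (ws V z) (zpowers z))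

include h D

theorem kq_mul {y w : G} (hy : y ∈ V) (hy1 : y ≠ 1) (hyz : y ≠ z) (hw : w ∈ ws V z)
    (hwK : w ∈ kq V (z * y)) : w ∈ kq V y := by
  obtain ⟨k, hk, hk1⟩ := h.exists_mover h.ln.z_mem h.ln.z_ne
  have e1 := h.move h.ln.z_mem h.ln.z_ne hy hy1 hyz hk hk1
  have h1 := conj_mem_kq k⁻¹ hwK
  have e2 : k⁻¹ * (z * y) * k⁻¹⁻¹ = y := by rw [← e1]; group
  rw [e2] at h1
  rcases h.kq_cases h.ln.z_mem (inv_mem hk) hw with e | e
  · rwa [e] at h1
  · rw [e] at h1
    have hzK : z ∈ kq V y := ws_le_kq h D hy hy1 (h.V_le hy hy1 h.ln.z_mem)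
    exact (Subgroup.mul_mem_cancel_left _ hzK).mp h1

/-- (1.5): scalars -/
theorem scalar_one [Finite F] [CharP F 2] {y : G} (hy : y ∈ V) (hy1 : y ≠ 1) (hyz : y ≠ z) {m : G}
    (hm : m ∈ centralizer ({z} : Set G)) {ω : F} (hω : ∀ x, D.act m x = ω • x) : ω = 1 := by
  by_contra hω1
  have hyW := y_mem h hy
  have hzz := z_mem_ws h
  set e := D.π y with he
  have he0 : e ≠ 0 := pi_ne h D hyW hy1 hyz
  have hω0 : ω ≠ 0 := by
    intro e0
    have h1 := D.act_inv_act hm e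
    rw [hω, e0, zero_smul, D.act_zero (inv_mem hm)] at h1
    exact he0 h1.symm
  have h2' : (2 : F) = 0 := CharTwo.two_eq_zero
  have hωω : ω * ω = ω + 1 := by
    rcases field_four h D hy hy1 hyz hω0 hω1 (ω * ω) with e1 | e1 | e1 | e1
    · exact absurd (mul_self_eq_zero.mp e1) hω0
    · exfalso
      apply hω1
      have h3 : (ω - 1) * (ω - 1) = 0 := by linear_combination e1 - (ω - 1) * h2'
      exact sub_eq_zero.mp (mul_self_eq_zero.mp h3)
    · exfalso
      apply hω1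
      exact mul_left_cancel₀ hω0 (by rw [e1, mul_one])
    · exact e1
  have hω3 : ω * ω * ω = 1 := by rw [hωω]; linear_combination hωω + ω * h2'
  obtain ⟨u, hu⟩ := exists_dt he0
  have hee : dt e e = 0 := by unfold dt; ring
  obtain ⟨B, hBe, hBu⟩ := exists_basis' (w := e) (x := u) (w' := ω⁻¹ • e) (x' := ω • u)
    (by rw [hu]; exact one_ne_zero) (by
      have h3 : dt (ω⁻¹ • e) (ω • u) = ω⁻¹ * (ω * dt e u) := by
        unfold dt; simp only [Pi.smul_apply, smul_eq_mul]; ring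
      rw [h3, hu, mul_one, inv_mul_cancel₀ hω0])
  obtain ⟨d, hd, hdB⟩ := D.lift B
  set n := m * d with hn
  have hnC : n ∈ centralizer ({z} : Set G) := mul_mem hm hd
  have hnx : ∀ x, D.act n x = ω • ap B x := fun x => by
    rw [hn, D.act_mul hm hd, (D.ind_iff hd).mp hdB, hω]
  have hne : D.act n e = e := by
    rw [hnx, hBe, smul_smul, mul_inv_cancel₀ hω0, one_smul]
  have hndt : ∀ x, dt e (D.act n x) = ω * ω * dt e x := by
    intro x
    obtain ⟨α, β, rfl⟩ := exists_comb (by rw [hu]; exact one_ne_zero : dt e u ≠ 0) x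
    rw [hnx, ap_add, ap_smul, ap_smul, hBe, hBu]
    simp only [dt_add, dt_smul, hee, hu]
    ring
  -- conjugation by `n` preserves `W_z ∩ K_y`
  have hnE : ∀ v ∈ ws V z, v ∈ kq V y → n * v * n⁻¹ ∈ ws V z ∧ n * v * n⁻¹ ∈ kq V y := by
    intro v hv hvK
    refine ⟨D.Vn n hnC v hv, ?_⟩
    have h1 := conj_mem_kq n hvK
    have h2 : D.π (n * y * n⁻¹) = D.π y := by rw [← D.act_π hnC hyW]; exact hne
    rcases pi_eq h D (D.Vn n hnC y hyW) hyW h2 with e1 | e1
    · rwa [e1] at h1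
    · rw [e1] at h1
      exact kq_mul h D hy hy1 hyz (D.Vn n hnC v hv) h1
  have hndt' : ∀ v ∈ ws V z, dt e (D.π (n * v * n⁻¹)) = ω * ω * dt e (D.π v) := fun v hv => by
    rw [← D.act_π hnC hv, hndt]
  obtain ⟨w₀, hw₀, hw₀K, hw₀y⟩ := exists_ek h D ⟨ω, hω0, hω1⟩ hy hy1 hyz
  set δ := dt e (D.π w₀) with hδ
  have hδ0 : δ ≠ 0 := by
    intro e1
    exact hw₀y ((mem_ws_iff h D hy hy1 hyz hw₀).mpr (exists_smul_of_dt he0 e1))
  -- `w₁ ∈ W_z - K_y`
  obtain ⟨a, ha, haK⟩ := exists_nk h D h D hy hy1 hyz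
  obtain ⟨k, hkz, hky⟩ := exists_swap h D D hy hy1 hyz
  have hw₁ : k * a * k⁻¹ ∈ ws V z := by
    have := conj_mem_ws k ha
    rwa [hky] at this
  have hw₁K : k * a * k⁻¹ ∉ kq V y := by
    intro e1
    apply haK
    have e2 := conj_mem_kq k⁻¹ e1
    have e3 : k⁻¹ * (k * a * k⁻¹) * k⁻¹⁻¹ = a := by group
    have e4 : k⁻¹ * y * k⁻¹⁻¹ = z := by rw [← hkz]; group
    rwa [e3, e4] at e2
  set w₁ := k * a * k⁻¹ with hw₁d
  have hall : ∀ v ∈ ws V z, v ∈ kq V y → dt e (D.π w₁) = dt e (D.π v) → False := by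
    intro v hv hvK hvd
    apply hw₁K
    have h1 : w₁ * v⁻¹ ∈ ws V y := by
      rw [mem_ws_iff h D hy hy1 hyz (mul_mem hw₁ (inv_mem hv))]
      refine exists_smul_of_dt he0 ?_
      have h3 : dt e (D.π w₁ - D.π v) = dt e (D.π w₁) - dt e (D.π v) := by
        unfold dt; simp only [Pi.sub_apply]; ring
      rw [D.map_div hw₁ hv, h3, hvd, sub_self]
    have h2 := mul_mem (ws_le_kq h D hy hy1 h1) hvK
    rwa [inv_mul_cancel_right] at h2
  have hq := hnE w₀ hw₀ hw₀K
  have hq2 := hnE _ hq.1 hq.2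
  rcases field_four h D hy hy1 hyz hω0 hω1 (dt e (D.π w₁) / δ) with e1 | e1 | e1 | e1
  · rw [div_eq_zero_iff] at e1
    have e2 := e1.resolve_right hδ0
    refine hall 1 (one_mem _) (one_mem _) ?_
    rw [e2, D.map_one]
    unfold dt; simp
  · rw [div_eq_one_iff_eq hδ0] at e1
    exact hall w₀ hw₀ hw₀K e1
  · rw [div_eq_iff hδ0] at e1
    refine hall _ hq2.1 hq2.2 ?_
    rw [e1, hndt' _ hq.1, hndt' _ hw₀, ← hδ]
    linear_combination (-ω * δ) * hω3
  · rw [div_eq_iff hδ0] at e1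
    refine hall _ hq.1 hq.2 ?_
    rw [e1, hndt' _ hw₀, ← hδ, hωω]

/-- `|F| = 4` -/
theorem card_eq_four [Finite F] [CharP F 2] {y : G} (hy : y ∈ V) (hy1 : y ≠ 1) (hyz : y ≠ z)
    (h4 : 4 ≤ Nat.card F) : Nat.card F = 4 ∧ ∃ c : F, c ≠ 0 ∧ c ≠ 1 := by
  classical
  have hex : ∃ c : F, c ≠ 0 ∧ c ≠ 1 := by
    by_contra hcon
    push Not at hcon
    have h1 : Nat.card F ≤ 2 := by
      have h2 : Function.Surjective (![0, 1] : Fin 2 → F) := by
        intro c
        by_cases hc : c = 0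
        · exact ⟨0, by rw [hc]; rfl⟩
        · exact ⟨1, by rw [hcon c hc]; rfl⟩
      have h3 := Nat.card_le_card_of_surjective _ h2
      rwa [Nat.card_fin] at h3
    omega
  refine ⟨le_antisymm ?_ h4, hex⟩
  obtain ⟨c, hc0, hc1⟩ := hex
  have h2 : Function.Surjective (![0, 1, c, c + 1] : Fin 4 → F) := by
    intro d
    rcases field_four h D hy hy1 hyz hc0 hc1 d with e | e | e | e
    · exact ⟨0, by rw [e]; rfl⟩
    · exact ⟨1, by rw [e]; rfl⟩
    · exact ⟨2, by rw [e]; rfl⟩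
    · exact ⟨3, by rw [e]; rfl⟩
  have h3 := Nat.card_le_card_of_surjective _ h2
  rwa [Nat.card_fin] at h3

omit h in
/-- the action on the five lines -/
theorem exists_rho [Finite F] {ln : (Fin 2 → F) → Fin 5}
    (hl : ∀ x x', x ≠ 0 → x' ≠ 0 → (ln x = ln x' ↔ ∃ c : F, x' = c • x)) (hs : ∀ i, ∃ x, x ≠ 0 ∧ ln x = i) :
    ∃ ρ : centralizer ({z} : Set G) →* S5, ∀ (c : centralizer ({z} : Set G)) (x : Fin 2 → F), x ≠ 0 →
      ρ c (ln x) = ln (D.act c x) := by
  choose r hr0 hr using hs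
  have hne : ∀ (c : centralizer ({z} : Set G)) (x : Fin 2 → F), x ≠ 0 → D.act c x ≠ 0 := by
    intro c x hx e
    apply hx
    have h1 := D.act_inv_act c.2 x
    rw [e, D.act_zero (inv_mem c.2)] at h1
    exact h1.symm
  have hla : ∀ (c : centralizer ({z} : Set G)) (x x' : Fin 2 → F), x ≠ 0 → x' ≠ 0 → ln x = ln x' →
      ln (D.act c x) = ln (D.act c x') := by
    intro c x x' hx hx' e
    obtain ⟨a, rfl⟩ := (hl x x' hx hx').mp e
    obtain ⟨s, hs⟩ := D.exists_semi c.2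
    rw [hl _ _ (hne c x hx) (hne c _ hx')]
    exact ⟨s a, hs a x⟩
  have hmul : ∀ (c d : centralizer ({z} : Set G)) (i : Fin 5),
      ln (D.act c (r (ln (D.act d (r i))))) = ln (D.act ((c * d : centralizer ({z} : Set G)) : G) (r i)) := by
    intro c d i
    have e : ((c * d : centralizer ({z} : Set G)) : G) = c * d := rfl
    rw [e, D.act_mul c.2 d.2]
    exact hla c _ _ (hr0 _) (hne d _ (hr0 i)) (hr _)
  have hone : ∀ i, ln (D.act ((1 : centralizer ({z} : Set G)) : G) (r i)) = i := fun i => by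
    have e : ((1 : centralizer ({z} : Set G)) : G) = 1 := rfl
    rw [e, D.act_one, hr]
  let f : centralizer ({z} : Set G) → S5 := fun c =>
    { toFun := fun i => ln (D.act c (r i))
      invFun := fun i => ln (D.act ((c⁻¹ : centralizer ({z} : Set G)) : G) (r i))
      left_inv := fun i => by
        beta_reduce
        rw [hmul, inv_mul_cancel]; exact hone i
      right_inv := fun i => by
        beta_reduce
        rw [hmul, mul_inv_cancel]; exact hone i }
  refine ⟨MonoidHom.mk' f ?_, ?_⟩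
  · intro c d
    ext1 i
    exact (hmul c d i).symm
  · intro c x hx
    change ln (D.act c (r (ln x))) = _
    exact hla c _ _ (hr0 _) hx (hr _)

/-- `ρ` describes the action on the lines -/
def IsRho (D : SQ1.FFOne.NatSec F (centralizer ({z} : Set G)) (ws V z) (zpowers z)) (ln : (Fin 2 → F) → Fin 5)
    (ρ : centralizer ({z} : Set G) →* S5) : Prop :=
  (∀ x x', x ≠ 0 → x' ≠ 0 → (ln x = ln x' ↔ ∃ c : F, x' = c • x)) ∧ (∀ i, ∃ x, x ≠ 0 ∧ ln x = i) ∧
  ∀ (c : centralizer ({z} : Set G)) (x : Fin 2 → F), x ≠ 0 → ρ c (ln x) = ln (D.act c x)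

theorem indep {e u : Fin 2 → F} (hu : dt e u = 1) {a b a' b' : F} (hab : a • e + b • u = a' • e + b' • u) :
    a = a' ∧ b = b' := by
  have hee : dt e e = 0 := by unfold dt; ring
  have huu : dt u u = 0 := by unfold dt; ring
  have hue : dt u e = -1 := by rw [← hu]; unfold dt; ring
  constructor
  · have h1 := congrArg (dt u) hab
    simp only [dt_add, dt_smul, huu, hue] at h1
    linear_combination (-1 : F) * h1
  · have h1 := congrArg (dt e) hab
    simp only [dt_add, dt_smul, hee, hu] at h1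
    linear_combination h1

omit h in
theorem rho_ne {c : centralizer ({z} : Set G)} {x : Fin 2 → F} (hx : x ≠ 0) : D.act c x ≠ 0 := by
  intro e
  apply hx
  have h1 := D.act_inv_act c.2 x
  rw [e, D.act_zero (inv_mem c.2)] at h1
  exact h1.symm

theorem rho_one [Finite F] [CharP F 2] {y : G} (hy : y ∈ V) (hy1 : y ≠ 1) (hyz : y ≠ z)
    {ln : (Fin 2 → F) → Fin 5} {ρ : centralizer ({z} : Set G) →* S5} (hρ : IsRho D ln ρ)
    (c : centralizer ({z} : Set G)) : ρ c = 1 ↔ ∀ x, D.act c x = x := by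
  obtain ⟨hl, hs, hr⟩ := hρ
  constructor
  · intro h1
    have h2 : ∀ x, x ≠ 0 → ∃ a : F, D.act c x = a • x := by
      intro x hx
      have h3 := hr c x hx
      rw [h1, Equiv.Perm.one_apply] at h3
      exact (hl _ _ hx (rho_ne D hx)).mp h3
    have he0 : (D.π y) ≠ 0 := pi_ne h D (y_mem h hy) hy1 hyz
    set e := D.π y with he
    obtain ⟨u, hu⟩ := exists_dt he0
    have hee : dt e e = 0 := by unfold dt; ring
    have hu0 : u ≠ 0 := by
      intro e1
      rw [e1] at hu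
      have : dt e (0 : Fin 2 → F) = 0 := by unfold dt; simp
      rw [this] at hu
      exact zero_ne_one hu
    obtain ⟨α, hα⟩ := h2 e he0
    obtain ⟨β, hβ⟩ := h2 u hu0
    obtain ⟨s, hs⟩ := D.exists_semi c.2
    have hsum : ∀ t : F, e + t • u ≠ 0 := by
      intro t e1
      have h3 : (1 : F) • e + t • u = (0 : F) • e + (0 : F) • u := by
        rw [one_smul, e1, zero_smul, zero_smul, add_zero]
      exact one_ne_zero (indep h D hu h3).1
    have h3 : ∀ t : F, s t * β = t * α := by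
      intro t
      obtain ⟨γ, hγ⟩ := h2 _ (hsum t)
      rw [D.act_add c.2, hs, hα, hβ, smul_smul, smul_add, smul_smul] at hγ
      obtain ⟨h4, h5⟩ := indep h D hu hγ
      rw [h5, h4, mul_comm]
    have hαβ : β = α := by
      have := h3 1
      rwa [map_one, one_mul, one_mul] at this
    have hα0 : α ≠ 0 := by
      intro e1
      rw [e1, zero_smul] at hα
      exact rho_ne D he0 hα
    have hs1 : ∀ t, s t = t := by
      intro t
      have := h3 t
      rw [hαβ] at this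
      exact mul_right_cancel₀ hα0 this
    have h4 : ∀ x, D.act c x = α • x := by
      intro x
      obtain ⟨a, b, rfl⟩ := exists_comb (by rw [hu]; exact one_ne_zero : dt e u ≠ 0) x
      rw [D.act_add c.2, hs, hs, hs1, hs1, hα, hβ, hαβ, smul_add, smul_comm a α, smul_comm b α]
    have h5 := scalar_one h D hy hy1 hyz c.2 h4
    intro x
    rw [h4, h5, one_smul]
  · intro h1
    ext1 i
    obtain ⟨x, hx, rfl⟩ := hs i
    rw [hr c x hx, h1, Equiv.Perm.one_apply]

omit h in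
theorem transv_sq [CharP F 2] {e : Fin 2 → F} (he0 : e ≠ 0) {B : Matrix.SpecialLinearGroup (Fin 2) F}
    (hB : ap B e = e) (x : Fin 2 → F) : ap B (ap B x) = x := by
  obtain ⟨t, ht⟩ := exists_transv he0 hB
  have hee : dt e e = 0 := by unfold dt; ring
  rw [ht (ap B x), ht x, dt_add, dt_smul, hee, mul_zero, add_zero, add_assoc, ← add_smul,
    CharTwo.add_self_eq_zero, zero_smul, add_zero]

/-- the four-groups are induced by transvections -/
theorem rho_k4 [Finite F] [CharP F 2] {y : G} (hy : y ∈ V) (hy1 : y ≠ 1) (hyz : y ≠ z)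
    {ln : (Fin 2 → F) → Fin 5} {ρ : centralizer ({z} : Set G) →* S5} (hρ : IsRho D ln ρ) {m : Fin 5} {g : S5}
    (hg : K4 m g) : ∃ c : centralizer ({z} : Set G), (∃ B, D.Ind c B) ∧ ρ c = g := by
  by_cases hg1 : g = 1
  · exact ⟨1, ⟨1, D.ind_one⟩, by rw [map_one, hg1]⟩
  have h1 := rho_one h D hy hy1 hyz hρ
  obtain ⟨hl, hs, hr⟩ := hρ
  obtain ⟨e, he0, hem⟩ := hs m
  obtain ⟨j, hj⟩ : ∃ j : Fin 5, j ≠ m := exists_ne m
  obtain ⟨x, hx0, hxj⟩ := hs j
  obtain ⟨hk1, hk2⟩ := s5_k4_move m g hg hg1 j hj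
  obtain ⟨x', hx0', hxk⟩ := hs (g j)
  have hdt : ∀ {x : Fin 2 → F}, x ≠ 0 → ln x ≠ m → dt e x ≠ 0 := by
    intro x hx hxm e1
    apply hxm
    rw [← hem]
    exact ((hl e x he0 hx).mpr (exists_smul_of_dt he0 e1)).symm
  have hd := hdt hx0 (by rw [hxj]; exact hj)
  have hd' := hdt hx0' (by rw [hxk]; exact hk2)
  obtain ⟨B, hB, hBx⟩ := exists_basis' (w := e) (x := x) (w' := e) (x' := (dt e x / dt e x') • x') hd
    (by rw [dt_smul, div_mul_cancel₀ _ hd'])
  obtain ⟨c, hc, hcB⟩ := D.lift B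
  have hact : ∀ x, D.act c x = ap B x := (D.ind_iff hc).mp hcB
  refine ⟨⟨c, hc⟩, ⟨B, hcB⟩, ?_⟩
  have e1 : ρ ⟨c, hc⟩ m = m := by
    rw [← hem, hr _ _ he0]
    change ln (D.act c e) = ln e
    rw [hact, hB]
  have e2 : ρ ⟨c, hc⟩ j = g j := by
    rw [← hxj, hr _ _ hx0, hxj, ← hxk]
    change ln (D.act c x) = ln x'
    rw [hact, hBx]
    have h3 : (dt e x / dt e x') • x' ≠ 0 := smul_ne_zero (div_ne_zero hd hd') hx0'
    exact ((hl _ _ hx0' h3).mpr ⟨_, rfl⟩).symm
  have e3 : ρ ⟨c, hc⟩ * ρ ⟨c, hc⟩ = 1 := by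
    rw [← map_mul, h1]
    intro v
    change D.act (c * c) v = v
    rw [D.act_mul hc hc, hact, hact, transv_sq D he0 hB]
  obtain ⟨t, ht⟩ := exists_transv he0 hB
  have hee : dt e e = 0 := by unfold dt; ring
  have e4 : ∀ i, i ≠ m → ρ ⟨c, hc⟩ i ≠ i := by
    intro i hi e5
    obtain ⟨v, hv0, rfl⟩ := hs i
    have hdv := hdt hv0 hi
    rw [hr _ _ hv0] at e5
    change ln (D.act c v) = ln v at e5
    have hv' : D.act c v ≠ 0 := rho_ne D (c := ⟨c, hc⟩) hv0
    obtain ⟨a, ha⟩ := (hl _ _ hv0 hv').mp e5.symm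
    rw [hact, ht] at ha
    have h3 := congrArg (dt e) ha
    rw [dt_add, dt_smul, dt_smul, hee, mul_zero, add_zero] at h3
    have ha1 : a = 1 := by
      have h4 : (1 : F) * dt e v = a * dt e v := by rw [one_mul]; exact h3
      exact (mul_right_cancel₀ hdv h4).symm
    rw [ha1, one_smul] at ha
    have h5 := add_eq_left.mp ha
    rcases smul_eq_zero.mp h5 with h6 | h6
    · have ht0 := (mul_eq_zero.mp h6).resolve_right hdv
      apply hk1
      rw [← e2, ← hxj, hr _ _ hx0]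
      change ln (D.act c x) = ln x
      rw [hact, ht, ht0, zero_mul, zero_smul, add_zero]
    · exact he0 h6
  exact s5_k4_eq m _ (s5_k4 m _ e1 e3 e4) _ hg j hj e2

theorem rho_even [Finite F] [CharP F 2] {y : G} (hy : y ∈ V) (hy1 : y ≠ 1) (hyz : y ≠ z)
    {ln : (Fin 2 → F) → Fin 5} {ρ : centralizer ({z} : Set G) →* S5} (hρ : IsRho D ln ρ) {g : S5}
    (hg : Equiv.Perm.sign g = 1) : ∃ c : centralizer ({z} : Set G), (∃ B, D.Ind c B) ∧ ρ c = g := by
  obtain ⟨m, a, ha, n, hb⟩ := s5_gen g hg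
  obtain ⟨c, ⟨B, hB⟩, hc⟩ := rho_k4 h D hy hy1 hyz hρ ha
  obtain ⟨d, ⟨B', hB'⟩, hd⟩ := rho_k4 h D hy hy1 hyz hρ hb
  exact ⟨c * d, ⟨B * B', D.ind_mul c.2 d.2 hB hB'⟩, by rw [map_mul, hc, hd, mul_inv_cancel_left]⟩

theorem rho_fpf [Finite F] [CharP F 2] {y : G} (hy : y ∈ V) (hy1 : y ≠ 1) (hyz : y ≠ z)
    {ln : (Fin 2 → F) → Fin 5} {ρ : centralizer ({z} : Set G) →* S5} (hρ : IsRho D ln ρ)
    {c : centralizer ({z} : Set G)} (hc : O3 (ρ c)) {x : Fin 2 → F} (hx : D.act c x = x) : x = 0 := by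
  by_contra hx0
  obtain ⟨d, ⟨B, hB⟩, hd⟩ := rho_even h D hy hy1 hyz hρ hc.sign
  have h1 : ∀ v, D.act c v = ap B v := by
    intro v
    have h2 : ρ (c * d⁻¹) = 1 := by rw [map_mul, map_inv, hd, mul_inv_cancel]
    have h3 := (rho_one h D hy hy1 hyz hρ _).mp h2 (D.act d v)
    have e : ((c * d⁻¹ : centralizer ({z} : Set G)) : G) = c * (d : G)⁻¹ := rfl
    rw [e, D.act_mul c.2 (inv_mem d.2), D.act_inv_act d.2] at h3
    rw [h3, (D.ind_iff d.2).mp hB]
  have h2 : ap B x = x := by rw [← h1]; exact hx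
  have h3 : ρ c * ρ c = 1 := by
    rw [← map_mul, rho_one h D hy hy1 hyz hρ]
    intro v
    change D.act ((c : G) * c) v = v
    rw [D.act_mul c.2 c.2, h1, h1, transv_sq D hx0 h2]
  have h4 := hc.1
  rw [h3, one_mul] at h4
  exact hc.2 h4

theorem card_ws [Finite F] (h4 : Nat.card F = 4) : Nat.card (ws V z) = 32 := by
  have hzW := z_mem_ws h
  have hle : zpowers z ≤ ws V z := (zpowers_le).mpr hzW
  let f : ws V z →* Multiplicative (Fin 2 → F) :=
    { toFun := fun w => Multiplicative.ofAdd (D.π w)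
      map_one' := by
        change Multiplicative.ofAdd (D.π 1) = 1
        rw [D.map_one]; rfl
      map_mul' := fun v w => by
        change Multiplicative.ofAdd (D.π ((v : G) * w)) = _
        rw [D.map_mul v v.2 w w.2]; rfl }
  have hf : Function.Surjective f := by
    intro x
    obtain ⟨w, hw, e⟩ := D.surj (Multiplicative.toAdd x)
    exact ⟨⟨w, hw⟩, by change Multiplicative.ofAdd (D.π w) = x; rw [e]; rfl⟩
  have h1 := Subgroup.card_eq_card_quotient_mul_card_subgroup f.ker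
  have h2 := Nat.card_congr (QuotientGroup.quotientKerEquivOfSurjective f hf).toEquiv
  have h3 : Nat.card (Multiplicative (Fin 2 → F)) = 16 := by
    rw [Nat.card_congr Multiplicative.toAdd, Nat.card_fun, h4, Nat.card_fin]
    norm_num
  have h5 : Nat.card f.ker = 2 := by
    have h6 : f.ker = (zpowers z).subgroupOf (ws V z) := by
      ext w
      rw [MonoidHom.mem_ker, mem_subgroupOf]
      change Multiplicative.ofAdd (D.π w) = 1 ↔ _
      rw [← D.ker w w.2]
      rfl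
    rw [h6, Nat.card_congr (subgroupOfEquivOfLe hle).toEquiv, Nat.card_zpowers]
    exact orderOf_eq_prime (by rw [pow_two]; exact h.ln.zz) h.ln.z_ne
  rw [h1, h2, h3, h5]

/-- **the Ru shape** -/
theorem exists_loc [Finite F] [CharP F 2] (h4 : 4 ≤ Nat.card F) : ∃ ρ, Loc (ws V z) z ρ := by
  obtain ⟨y, hy, hy1, hyz⟩ := h.ln.exists_y
  obtain ⟨hF, -⟩ := card_eq_four h D hy hy1 hyz h4
  obtain ⟨ln, hl, hs⟩ := exists_ln hF
  obtain ⟨ρ, hr⟩ := exists_rho D hl hs
  have hρ : IsRho D ln ρ := ⟨hl, hs, hr⟩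
  have hcg : ∀ v ∈ ws V z, ∀ w ∈ ws V z, (Cg z v w ↔ D.π v = D.π w) := by
    intro v hv w hw
    have hzw : w * z = z * w := h.comm h.ln.z_mem h.ln.z_ne w hw z (z_mem_ws h)
    rw [D.eq_iff hv hw, zpz h]
    unfold Cg
    rw [mul_inv_eq_one, mul_inv_eq_iff_eq_mul, hzw]
  refine ⟨ρ, ?_⟩
  exact
    { x_ne := h.ln.z_ne
      x_mem := z_mem_ws h
      comm := h.comm h.ln.z_mem h.ln.z_ne
      sq := h.sq h.ln.z_mem h.ln.z_ne
      norm := fun c hc w hw => D.Vn c hc w hw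
      card := card_ws h D hF
      even := fun g hg => by
        obtain ⟨c, _, hc⟩ := rho_even h D hy hy1 hyz hρ hg
        exact ⟨c, hc⟩
      ker := fun c => by
        rw [rho_one h D hy hy1 hyz hρ]
        constructor
        · intro h1 w hw
          rw [hcg _ (D.Vn c c.2 w hw) _ hw, ← D.act_π c.2 hw, h1]
        · intro h1 x
          obtain ⟨w, hw, rfl⟩ := D.surj x
          rw [D.act_π c.2 hw]
          exact (hcg _ (D.Vn c c.2 w hw) _ hw).mp (h1 w hw)
      fpf := fun c hc w hw hw' => by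
        rw [hcg _ (D.Vn c c.2 w hw) _ hw, ← D.act_π c.2 hw] at hw'
        have h1 := rho_fpf h D hy hy1 hyz hρ hc hw'
        exact (zpz h).mp ((D.ker w hw).mp h1) }

end One

end Cfsg.Agent.Omega.RuShape.NatB
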