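import Mathlib
import Cfsg.Agent.Omega.RuShape.NatB
import Cfsg.Agent.Omega.RuShape.Base
import Cfsg.Agent.Omega.NO3S.TwoOne.Plane

/-!
# From `One T V z` with `W_z/⟨z⟩` natural to the Ru configuration
-/

set_option autoImplicit false
set_option linter.unusedSectionVars false

namespace Cfsg.Agent.Omega.RuShape.OfOne

open Subgroup Cfsg Cfsg.Agent.ZN Cfsg.Agent.MinSimple.Geo Cfsg.Agent.Omega.CaseL
open Cfsg.Agent.Omega.NO3S.TwoOne Cfsg.Agent.Omega.RuShape.Base

universe u

variable {G : Type u} [Group G] [Finite G] {T V : Subgroup G} {z : G} {F : Type*} [Field F]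

/-- centralisers of involutions have characteristic 2 -/
theorem c2_of (hc : IsCharacteristicTwoType G) {v : G} (hv : v * v = 1) (hv1 : v ≠ 1) :
    ∃ O : Subgroup G, IsPGroup 2 O ∧ O ≤ centralizer ({v} : Set G) ∧
      centralizer ({v} : Set G) ≤ normalizer (O : Set G) ∧
      ∀ c ∈ centralizer ({v} : Set G), c ∈ centralizer (O : Set G) → c ∈ O :=
  ⟨o2 (centralizer ({v} : Set G)), isPGroup_o2 _, o2_le _, le_normalizer_o2 _, fun _ hc1 hc2 =>
    inf_centralizer_o2_le hc (isTwoLocal_centralizer hv hv1) ⟨hc1, hc2⟩⟩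

/-- sections 0 and 1 of helper881's text #12858 -/
theorem ru_of_one [Finite F] [CharP F 2] (h : One T V z)
    (core : ∀ U : Subgroup G, IsPGroup 2 U → normalizer (V : Set G) ≤ normalizer (U : Set G) →
      centralizer ({z} : Set G) ≤ normalizer (U : Set G) → U = ⊥)
    (D : SQ1.FFOne.NatSec F (centralizer ({z} : Set G)) (ws V z) (zpowers z)) (h4 : 4 ≤ Nat.card F) :
    Ru V z where
  card_V := h.ln.card_V
  sq := h.ln.sq
  z_mem := h.ln.z_mem
  trans := h.ln.trans
  move := by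
    obtain ⟨y, hy, hy1, hyz⟩ := h.ln.exists_y
    obtain ⟨k, hk, hk1⟩ := h.exists_mover h.ln.z_mem h.ln.z_ne
    exact ⟨k, kq_le_centralizer V z hk, y, hy, by
      rw [h.move h.ln.z_mem h.ln.z_ne hy hy1 hyz hk hk1, h.ln.comm h.ln.z_mem hy], hy1, hyz⟩
  loc := NatB.exists_loc h D h4
  core := core
  noncomm := fun v hv hv1 hvz => h.exists_nc h.ln.z_mem h.ln.z_ne hv hv1 hvz
  c2 := fun v hv hv1 => c2_of h.ln.charTwo hv hv1

end Cfsg.Agent.Omega.RuShape.OfOne
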