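import Mathlib
import Cfsg.Agent.ZN.Facts
import Cfsg.Agent.Omega.RuShape.Base

/-!
# The Ru configuration: `C_G(W_x)`, `C_G(V)`, `K_x` are 2-groups

helper881's text #12858, (2.1): the subgroup `ob V x` generated by the elements of odd order of `C_G(W_x)` is the same
for collinear points.

* `Ru.odd_eq_one`: an element of odd order of `C_G(x)` which fixes an element of `W_x` outside `⟨x⟩` modulo `⟨x⟩` is
  trivial;
* `Ru.exists_three`, `Ru.star'`, `Ru.star`: lifts of order three.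
-/

set_option autoImplicit false
set_option linter.dupNamespace false
set_option linter.unusedSectionVars false

namespace Cfsg.Agent.Omega.RuShape.Base

open Subgroup Cfsg Cfsg.Agent.ZN Cfsg.Agent.MinSimple.Geo Cfsg.Agent.MinSimple.OddBase
open Cfsg.Agent.OddCyclic Cfsg.Agent.OddCyclic.GamPerm Cfsg.Agent.OddCyclic.GamMod Cfsg.Agent.OddCyclic.GamLoc
open Cfsg.Agent.OddCyclic.GamBase (cc cc_surj cg_conj loc_conj ws_cj' lines_cj')
open Cfsg.Agent.ZN.Block (conj_mem_of_normalizer conj_mem_of_normalizer' le_normalizer_of_forall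
  mem_normalizer_of)

universe u

variable {G : Type u} [Group G]

theorem s5_odd : ∀ i : Fin 5, ∀ g : S5, g i = i → g ^ 15 = 1 → g * g * g = 1 := by decide +kernel

theorem s5_pow {g : S5} (hg : Odd (orderOf g)) : g ^ 15 = 1 := by
  rw [← orderOf_dvd_iff_pow_eq_one]
  have h1 : orderOf g ∣ 8 * 15 := by
    have h2 : orderOf g ∣ Fintype.card S5 := orderOf_dvd_card
    have h3 : Fintype.card S5 = 120 := by
      rw [Fintype.card_perm]; rfl
    rwa [h3] at h2
  refine (Nat.Coprime.dvd_of_dvd_mul_left ?_ h1)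
  have h4 : Nat.Coprime (orderOf g) 2 := Nat.coprime_two_right.mpr hg
  exact Nat.Coprime.pow_right 3 h4

theorem odd_comm {g a : G} (hg : Odd (orderOf g)) (h : g * g * a = a * (g * g)) : g * a = a * g := by
  obtain ⟨k, hk⟩ := hg
  have e : g = (g * g) ^ (k + 1) := by
    have h1 := pow_orderOf_eq_one g
    rw [hk] at h1
    have h2 : (g * g) ^ (k + 1) = g ^ (2 * k + 1) * g := by
      rw [← pow_two, ← pow_mul, ← pow_succ]
      congr 1
    rw [h2, h1, one_mul]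
  have h3 : Commute (g * g) a := h
  have h4 := h3.pow_left (k + 1)
  rw [← e] at h4
  exact h4

/-- an element of odd order which acts trivially modulo `⟨x⟩` acts trivially -/
theorem odd_cg {x g a : G} (hx : x * x = 1) (hgx : g * x = x * g) (hg : Odd (orderOf g))
    (h : Cg x (g * a * g⁻¹) a) : g * a = a * g := by
  apply odd_comm hg
  have hgx' : g * x * g⁻¹ = x := by rw [hgx, mul_inv_cancel_right]
  rcases h with e | e
  · have h1 : g * a = a * g := mul_inv_eq_iff_eq_mul.mp e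
    calc g * g * a = g * (g * a) := by group
      _ = g * (a * g) := by rw [h1]
      _ = g * a * g := by group
      _ = a * g * g := by rw [h1]
      _ = a * (g * g) := by group
  · apply mul_inv_eq_iff_eq_mul.mp
    calc g * g * a * (g * g)⁻¹ = g * (g * a * g⁻¹) * g⁻¹ := by group
      _ = g * (a * x) * g⁻¹ := by rw [e]
      _ = (g * a * g⁻¹) * (g * x * g⁻¹) := by group
      _ = a := by rw [e, hgx', mul_assoc, hx, mul_one]

theorem isPGroup_of_odd [Finite G] {K : Subgroup G} (h : ∀ g ∈ K, Odd (orderOf g) → g = 1) :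
    IsPGroup 2 K := by
  rintro ⟨g, hg⟩
  obtain ⟨k, m, hm, e⟩ := Nat.exists_eq_two_pow_mul_odd (orderOf_pos g).ne'
  refine ⟨k, Subtype.ext ?_⟩
  change g ^ 2 ^ k = 1
  refine h _ (pow_mem hg _) ?_
  have h1 : orderOf (g ^ 2 ^ k) = m := by
    rw [orderOf_pow' g (pow_ne_zero k two_ne_zero), e, Nat.gcd_eq_right (Dvd.intro m rfl)]
    exact Nat.mul_div_cancel_left m (by positivity)
  rw [h1]; exact hm

/-- powers acting as the element itself -/
theorem conj_pow_three {c p : G} (hc : c ^ 3 * p = p * c ^ 3) (m : ℕ) :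
    c ^ (3 * m + 1) * p * (c ^ (3 * m + 1))⁻¹ = c * p * c⁻¹ := by
  have h1 : (c ^ 3) ^ m * p = p * (c ^ 3) ^ m := by
    have : Commute (c ^ 3) p := hc
    exact this.pow_left m
  have e : c ^ (3 * m + 1) = c * (c ^ 3) ^ m := by rw [← pow_mul, pow_succ']
  rw [e, mul_inv_rev, mul_assoc c, h1]
  group

/-- the subgroup generated by the elements of odd order of the centraliser of `ws V x` -/
def ob (V : Subgroup G) (x : G) : Subgroup G :=
  closure {g | (∀ w ∈ ws V x, g * w = w * g) ∧ Odd (orderOf g)}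

theorem orderOf_conj' (g a : G) : orderOf (g * a * g⁻¹) = orderOf a := by
  have e : g * a * g⁻¹ = MulAut.conj g a := by simp
  rw [e]
  exact orderOf_injective (MulAut.conj g).toMonoidHom (MulAut.conj g).injective a

theorem cj_ob_le (V : Subgroup G) (g x : G) : cj g (ob V x) ≤ ob V (g * x * g⁻¹) := by
  rw [cj_le_iff]
  unfold ob
  rw [closure_le]
  rintro a ⟨ha, ha2⟩
  rw [SetLike.mem_coe, mem_cj, inv_inv]
  apply Subgroup.subset_closure
  refine ⟨?_, by rw [orderOf_conj']; exact ha2⟩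
  intro w hw
  rw [← cj_ws, mem_cj] at hw
  have h1 := ha _ hw
  calc g * a * g⁻¹ * w = g * (a * (g⁻¹ * w * g)) * g⁻¹ := by group
    _ = g * ((g⁻¹ * w * g) * a) * g⁻¹ := by rw [h1]
    _ = w * (g * a * g⁻¹) := by group

theorem cj_ob (V : Subgroup G) (g x : G) : cj g (ob V x) = ob V (g * x * g⁻¹) := by
  apply le_antisymm (cj_ob_le V g x)
  have h1 := cj_ob_le V g⁻¹ (g * x * g⁻¹)
  have e : g⁻¹ * (g * x * g⁻¹) * g⁻¹⁻¹ = x := by group
  rw [e] at h1
  have h2 := cj_mono (g := g) h1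
  rwa [cj_cj_inv] at h2

theorem ob_comm {V : Subgroup G} {x k w : G} (hk : k ∈ ob V x) (hw : w ∈ ws V x) : k * w = w * k := by
  have h1 : ob V x ≤ centralizer ({w} : Set G) := by
    unfold ob
    rw [closure_le]
    rintro a ⟨ha, _⟩
    exact mem_centralizer_singleton_iff.mpr (ha w hw)
  exact mem_centralizer_singleton_iff.mp (h1 hk)

namespace Ru

variable {V : Subgroup G} {z : G}

/-- an element of odd order of `C_G(p)` which fixes an element outside `⟨p⟩` modulo `⟨p⟩` centralises `ws V p` -/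
theorem odd_cent (h : Ru V z) {p : G} (hp : Pt z p) {g : G} (hg : Odd (orderOf g)) (hgp : g * p = p * g)
    {w : G} (hw : w ∈ ws V p) (hw1 : w ≠ 1) (hwp : w ≠ p) (hgw : Cg p (g * w * g⁻¹) w) {a : G}
    (ha : a ∈ ws V p) : g * a = a * g := by
  obtain ⟨ρ, hρ⟩ := h.loc_pt hp
  have hgC : g ∈ centralizer ({p} : Set G) := mem_centralizer_singleton_iff.mpr hgp
  obtain ⟨i, hi⟩ := hρ.exists_pg hw
  have h1 : ρ ⟨g, hgC⟩ i = i := hρ.idx_fix hi hw1 hwp (c := ⟨g, hgC⟩) hgw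
  have h2 : Odd (orderOf (ρ ⟨g, hgC⟩)) := by
    have h3 : orderOf (ρ ⟨g, hgC⟩) ∣ orderOf g := by
      have h4 := orderOf_map_dvd ρ ⟨g, hgC⟩
      rwa [Subgroup.orderOf_mk] at h4
    exact hg.of_dvd_nat h3
  have h3 := s5_odd i _ h1 (s5_pow h2)
  have h4 : ρ ⟨g, hgC⟩ = 1 := by
    by_contra hne
    rcases hρ.fpf ⟨g, hgC⟩ ⟨h3, hne⟩ w hw hgw with e | e
    · exact hw1 e
    · exact hwp e
  exact odd_cg hρ.xx hgp hg ((hρ.ker _).mp h4 a ha)

/-- the elements of odd order in `C_G(ws V x)` are the same for collinear points -/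
theorem ob_le (h : Ru V z) {x p : G} (hx : Pt z x) (hp : p ∈ ws V x) (hp1 : p ≠ 1) :
    ob V x ≤ ob V p := by
  by_cases hpx : p = x
  · rw [hpx]
  have hpp := h.pt hx hp hp1
  have hxp := h.mem_symm hx hp hp1
  conv_lhs => unfold ob
  rw [closure_le]
  rintro g ⟨hg, hg2⟩
  refine Subgroup.subset_closure ⟨?_, hg2⟩
  intro a ha
  refine h.odd_cent hpp hg2 (hg p hp) hxp (h.ne_one hx) (fun e => hpx e.symm) (Or.inl ?_) ha
  rw [hg x (h.self_mem hx), mul_inv_cancel_right]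

theorem ob_eq (h : Ru V z) {x p : G} (hx : Pt z x) (hp : p ∈ ws V x) (hp1 : p ≠ 1) :
    ob V x = ob V p :=
  le_antisymm (h.ob_le hx hp hp1) (h.ob_le (h.pt hx hp hp1) (h.mem_symm hx hp hp1) (h.ne_one hx))

theorem V_le_ws (h : Ru V z) : V ≤ ws V z := le_ws (⟨⟨1, (cj_one V).symm⟩, h.z_mem⟩ : V ∈ lines V z)

/-- (2.1) -/
theorem ob_eq_bot [Finite G] (h : Ru V z) : ob V z = ⊥ := by
  have hzp := Pt.refl z
  set K := ob V z with hK
  have hN : normalizer (V : Set G) ≤ normalizer (K : Set G) := by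
    intro g hg
    rw [mem_normalizer_iff_cj, hK, cj_ob]
    have h1 : g * z * g⁻¹ ∈ V := (mem_normalizer_iff.mp hg z).mp h.z_mem
    exact (h.ob_eq hzp (h.V_le_ws h1) (conj_ne_one h.z_ne)).symm
  have hC : centralizer ({z} : Set G) ≤ normalizer (K : Set G) := by
    intro g hg
    rw [mem_normalizer_iff_cj, hK, cj_ob]
    have h1 := mem_centralizer_singleton_iff.mp hg
    rw [h1, mul_inv_cancel_right]
  have hbot : o2 K = ⊥ := h.core _ (isPGroup_o2 K) (hN.trans (normalizer_le_normalizer_o2 K))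
    (hC.trans (normalizer_le_normalizer_o2 K))
  obtain ⟨O, hO2, hOC, hCO, hO⟩ := h.c2 z (h.xx hzp) h.z_ne
  have hKC : K ≤ centralizer ({z} : Set G) := fun k hk =>
    mem_centralizer_singleton_iff.mpr (ob_comm hk (h.self_mem hzp))
  have hI : K ⊓ O ≤ o2 K := by
    refine le_o2 inf_le_left (hO2.to_le inf_le_right) ?_
    refine le_normalizer_of_forall ?_
    rintro k hk o ⟨ho, ho'⟩
    refine ⟨K.mul_mem (K.mul_mem hk ho) (K.inv_mem hk), ?_⟩
    exact (mem_normalizer_iff.mp (hCO (hKC hk)) o).mp ho'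
  have hKO : K ≤ O := by
    intro k hk
    refine hO k (hKC hk) ?_
    rw [mem_centralizer_iff]
    intro o ho
    have h1 : k * o * k⁻¹ * o⁻¹ ∈ K ⊓ O := by
      constructor
      · have h2 : o * k⁻¹ * o⁻¹ ∈ K := (mem_normalizer_iff.mp (hC (hOC ho)) _).mp (K.inv_mem hk)
        have e : k * o * k⁻¹ * o⁻¹ = k * (o * k⁻¹ * o⁻¹) := by group
        rw [e]; exact K.mul_mem hk h2
      · have h2 : k * o * k⁻¹ ∈ O := (mem_normalizer_iff.mp (hCO (hKC hk)) o).mp ho
        exact O.mul_mem h2 (O.inv_mem ho)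
    have h2 := hI h1
    rw [hbot, mem_bot] at h2
    have h3 : k * o * k⁻¹ = o := mul_inv_eq_one.mp h2
    exact (mul_inv_eq_iff_eq_mul.mp h3).symm
  have h3 : K ≤ o2 K := le_o2 le_rfl (hO2.to_le hKO) le_normalizer
  rw [hbot] at h3
  exact le_bot_iff.mp h3

theorem ob_eq_bot' [Finite G] (h : Ru V z) {x : G} (hx : Pt z x) : ob V x = ⊥ := by
  obtain ⟨g, rfl⟩ := hx
  rw [← cj_ob, h.ob_eq_bot]
  exact Subgroup.map_bot _

/-- (2.1): an element of odd order of `C_G(x)` which fixes an element of `W_x` outside `⟨x⟩` modulo `⟨x⟩` is trivial -/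
theorem odd_eq_one [Finite G] (h : Ru V z) {x : G} (hx : Pt z x) {g : G} (hg : Odd (orderOf g))
    (hgx : g * x = x * g) {w : G} (hw : w ∈ ws V x) (hw1 : w ≠ 1) (hwx : w ≠ x)
    (hgw : Cg x (g * w * g⁻¹) w) : g = 1 := by
  have h1 : g ∈ ob V x := Subgroup.subset_closure ⟨fun a ha => h.odd_cent hx hg hgx hw hw1 hwx hgw ha, hg⟩
  rwa [h.ob_eq_bot' hx, mem_bot] at h1

/-- `C_G(x, w)` is a 2-group -/
theorem isPGroup_pair [Finite G] (h : Ru V z) {x : G} (hx : Pt z x) {w : G} (hw : w ∈ ws V x)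
    (hw1 : w ≠ 1) (hwx : w ≠ x) {K : Subgroup G} (hKx : ∀ k ∈ K, k * x = x * k)
    (hKw : ∀ k ∈ K, Cg x (k * w * k⁻¹) w) : IsPGroup 2 K :=
  isPGroup_of_odd fun g hg ho => h.odd_eq_one hx ho (hKx g hg) hw hw1 hwx (hKw g hg)

theorem exists_v (h : Ru V z) : ∃ v ∈ V, v ≠ 1 ∧ v ≠ z := by
  obtain ⟨_, _, v, hv, _, h1, h2⟩ := h.move
  exact ⟨v, hv, h1, h2⟩

theorem exists_ws (h : Ru V z) {x : G} (hx : Pt z x) : ∃ w ∈ ws V x, w ≠ 1 ∧ w ≠ x := by
  obtain ⟨g, rfl⟩ := hx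
  obtain ⟨v, hv, hv1, hvz⟩ := h.exists_v
  refine ⟨g * v * g⁻¹, ?_, conj_ne_one hv1, fun e => hvz (conj_inj e)⟩
  rw [← cj_ws]; exact conj_mem_cj (h.V_le_ws hv)

/-- the kernel of the action on `ws V x/⟨x⟩` is a 2-group -/
theorem isPGroup_ker [Finite G] (h : Ru V z) {x : G} (hx : Pt z x) {ρ : centralizer ({x} : Set G) →* S5}
    (hρ : Loc (ws V x) x ρ) : IsPGroup 2 ρ.ker := by
  obtain ⟨w, hw, hw1, hwx⟩ := h.exists_ws hx
  have h1 : IsPGroup 2 (ρ.ker.map (centralizer ({x} : Set G)).subtype) := by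
    refine h.isPGroup_pair hx hw hw1 hwx ?_ ?_
    · rintro _ ⟨k, _, rfl⟩
      exact mem_centralizer_singleton_iff.mp k.2
    · rintro _ ⟨k, hk, rfl⟩
      exact (hρ.ker k).mp hk w hw
  exact h1.of_equiv (ρ.ker.equivMapOfInjective _ (subtype_injective _)).symm

/-- the centraliser of `ws V x` is a 2-group -/
theorem isPGroup_cw [Finite G] (h : Ru V z) {x : G} (hx : Pt z x) :
    IsPGroup 2 (centralizer (ws V x : Set G)) := by
  obtain ⟨w, hw, hw1, hwx⟩ := h.exists_ws hx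
  have hc : ∀ k ∈ centralizer (ws V x : Set G), ∀ a ∈ ws V x, k * a = a * k := fun k hk a ha =>
    (mem_centralizer_iff.mp hk a ha).symm
  exact h.isPGroup_pair hx hw hw1 hwx (fun k hk => hc k hk x (h.self_mem hx)) fun k hk => Or.inl (by
    rw [hc k hk w hw, mul_inv_cancel_right])

/-- the kernel has no elements of order three -/
theorem ker_three [Finite G] (h : Ru V z) {x : G} (hx : Pt z x) {ρ : centralizer ({x} : Set G) →* S5}
    (hρ : Loc (ws V x) x ρ) {k : centralizer ({x} : Set G)} (hk : ρ k = 1) (hk3 : (k : G) ^ 3 = 1) :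
    (k : G) = 1 := by
  obtain ⟨w, hw, hw1, hwx⟩ := h.exists_ws hx
  refine h.odd_eq_one hx ?_ (mem_centralizer_singleton_iff.mp k.2) hw hw1 hwx ((hρ.ker k).mp hk w hw)
  have h1 : orderOf (k : G) ∣ 3 := orderOf_dvd_iff_pow_eq_one.mpr hk3
  exact (by decide : Odd 3).of_dvd_nat h1

variable [Finite G]

/-- lifts of order three -/
theorem exists_three (h : Ru V z) {x : G} (hx : Pt z x) {ρ : centralizer ({x} : Set G) →* S5}
    (hρ : Loc (ws V x) x ρ) {c : centralizer ({x} : Set G)} (hc : O3 (ρ c)) :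
    ∃ m : ℕ, (c : G) ^ ((3 * m + 1) * 3) = 1 ∧ ρ (c ^ (3 * m + 1)) = ρ c := by
  have hcop : Nat.Coprime (Nat.card ρ.ker) 3 := by
    rw [Nat.coprime_comm, Nat.Prime.coprime_iff_not_dvd Nat.prime_three]
    intro hd
    have : Fact (Nat.Prime 3) := ⟨Nat.prime_three⟩
    obtain ⟨k, hk⟩ := exists_prime_orderOf_dvd_card' (G := ρ.ker) 3 hd
    have h1 : ((k : centralizer ({x} : Set G)) : G) ^ 3 = 1 := by
      have := pow_orderOf_eq_one k
      rw [hk] at this
      exact congrArg (fun t : ρ.ker => ((t : centralizer ({x} : Set G)) : G)) this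
    have h2 := h.ker_three hx hρ (k := k.1) k.2 h1
    have h3 : k = 1 := Subtype.ext (Subtype.ext h2)
    rw [h3, orderOf_one] at hk
    exact absurd hk (by norm_num)
  obtain ⟨e, he1, he2⟩ := Nat.chineseRemainder hcop 0 1
  obtain ⟨m, rfl⟩ : ∃ m, e = 3 * m + 1 := by
    have : e % 3 = 1 := he2
    exact ⟨e / 3, by omega⟩
  have hc3 : ρ c ^ 3 = 1 := by rw [pow_succ, pow_two]; exact hc.1
  refine ⟨m, ?_, ?_⟩
  · have h1 : c ^ 3 ∈ ρ.ker := by rw [MonoidHom.mem_ker, map_pow, hc3]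
    have h2 : Nat.card ρ.ker ∣ 3 * m + 1 := (Nat.modEq_zero_iff_dvd.mp he1)
    have h3 : (⟨c ^ 3, h1⟩ : ρ.ker) ^ (3 * m + 1) = 1 := by
      obtain ⟨k, hk⟩ := h2
      rw [hk, pow_mul, pow_card_eq_one', one_pow]
    have h4 : (c ^ 3) ^ (3 * m + 1) = 1 := congrArg Subtype.val h3
    have h5 : ((c : G) ^ 3) ^ (3 * m + 1) = 1 := congrArg Subtype.val h4
    rw [mul_comm, pow_mul]; exact h5
  · rw [map_pow, pow_succ, pow_mul, hc3, one_pow, one_mul]

/-- an element of order three modulo the kernel which rotates `p, q, pq` modulo `r` lifts to an element of order three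
which rotates `p, q, pq` -/
theorem star' (h : Ru V z) {r : G} (hr : Pt z r) {ρ : centralizer ({r} : Set G) →* S5}
    (hρ : Loc (ws V r) r ρ) {p q : G} (hp : p ∈ ws V r) (hq : q ∈ ws V r)
    (hp1 : p ≠ 1) (hpr : p ≠ r) (hq1 : q ≠ 1) (hqr : q ≠ r) (hpq : p ≠ q) (hpqr : p * q ≠ r)
    {c : centralizer ({r} : Set G)} (hc : O3 (ρ c)) (h1 : Cg r ((c : G) * p * (c : G)⁻¹) q)
    (h2 : Cg r ((c : G) * q * (c : G)⁻¹) (p * q)) :
    ∃ d : centralizer ({r} : Set G), ρ d = ρ c ∧ (d : G) ^ 3 = 1 ∧ (d : G) * p * (d : G)⁻¹ = q ∧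
      (d : G) * q * (d : G)⁻¹ = p * q := by
  have hrc : ∀ k : centralizer ({r} : Set G), (k : G) * r * (k : G)⁻¹ = r := fun k => by
    rw [mem_centralizer_singleton_iff.mp k.2, mul_inv_cancel_right]
  obtain ⟨e, he, h1'⟩ : ∃ e, (e = 1 ∨ e = r) ∧ (c : G) * p * (c : G)⁻¹ = q * e := by
    rcases h1 with h1 | h1
    · exact ⟨1, Or.inl rfl, by rw [h1, mul_one]⟩
    · exact ⟨r, Or.inr rfl, h1⟩
  obtain ⟨f, hf, h2'⟩ : ∃ f, (f = 1 ∨ f = r) ∧ (c : G) * q * (c : G)⁻¹ = p * q * f := by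
    rcases h2 with h2 | h2
    · exact ⟨1, Or.inl rfl, by rw [h2, mul_one]⟩
    · exact ⟨r, Or.inr rfl, h2⟩
  have hpq1 : p * q ≠ 1 := fun e => hpq (by rw [mul_eq_one_iff_eq_inv.mp e, hρ.inv hq])
  have hqpq : q * (p * q) = p := by
    rw [hρ.comm p hp q hq, ← mul_assoc, hρ.sq q hq, one_mul]
  obtain ⟨k, hk, h3, h4⟩ := h.exists_hom hr hρ hq (mul_mem hp hq) hq1 hqr hpq1 hpqr
    (fun e => hp1 (by simpa using e.symm)) (by rw [hqpq]; exact hpr) he hf
  have hee : ∀ e : G, (e = 1 ∨ e = r) → e * e = 1 ∧ (k : G) * e * (k : G)⁻¹ = e := by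
    rintro e (rfl | rfl)
    · simp
    · exact ⟨hρ.xx, hrc k⟩
  have a1 : (k : G) * c * p * ((k : G) * c)⁻¹ = q := by
    calc (k : G) * c * p * ((k : G) * c)⁻¹ = (k : G) * ((c : G) * p * (c : G)⁻¹) * (k : G)⁻¹ := by group
      _ = ((k : G) * q * (k : G)⁻¹) * ((k : G) * e * (k : G)⁻¹) := by rw [h1']; group
      _ = q := by rw [h3, (hee e he).2, mul_assoc, (hee e he).1, mul_one]
  have a2 : (k : G) * c * q * ((k : G) * c)⁻¹ = p * q := by
    calc (k : G) * c * q * ((k : G) * c)⁻¹ = (k : G) * ((c : G) * q * (c : G)⁻¹) * (k : G)⁻¹ := by group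
      _ = ((k : G) * (p * q) * (k : G)⁻¹) * ((k : G) * f * (k : G)⁻¹) := by rw [h2']; group
      _ = p * q := by rw [h4, (hee f hf).2, mul_assoc, (hee f hf).1, mul_one]
  have hO : O3 (ρ (k * c)) := by rw [map_mul, hk, one_mul]; exact hc
  obtain ⟨m, hm, hm2⟩ := h.exists_three hr hρ hO
  have e1 : ((k * c : centralizer ({r} : Set G)) : G) = (k : G) * c := rfl
  rw [e1] at hm
  set d : G := (k : G) * c with hd
  have a3 : d * (p * q) * d⁻¹ = p := by
    calc d * (p * q) * d⁻¹ = (d * p * d⁻¹) * (d * q * d⁻¹) := by group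
      _ = p := by rw [a1, a2, hqpq]
  have d3 : ∀ t : G, d ^ 3 * t * (d ^ 3)⁻¹ = d * (d * (d * t * d⁻¹) * d⁻¹) * d⁻¹ := fun t => by
    simp only [pow_succ, pow_zero, one_mul]; group
  have c1 : d ^ 3 * p = p * d ^ 3 := by
    have := d3 p
    rw [a1, a2, a3] at this
    exact mul_inv_eq_iff_eq_mul.mp this
  have c2 : d ^ 3 * q = q * d ^ 3 := by
    have := d3 q
    rw [a2, a3, a1] at this
    exact mul_inv_eq_iff_eq_mul.mp this
  have e2 : (((k * c) ^ (3 * m + 1) : centralizer ({r} : Set G)) : G) = d ^ (3 * m + 1) := rfl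
  refine ⟨(k * c) ^ (3 * m + 1), ?_, ?_, ?_, ?_⟩
  · rw [hm2, map_mul, hk, one_mul]
  · rw [e2, ← pow_mul]; exact hm
  · rw [e2, conj_pow_three c1, a1]
  · rw [e2, conj_pow_three c2, a2]

/-- a four-subgroup of `ws V r` avoiding `r` is rotated by an element of order three of `C_G(r)` -/
theorem star (h : Ru V z) {r : G} (hr : Pt z r) {p q : G} (hp : p ∈ ws V r) (hq : q ∈ ws V r)
    (hp1 : p ≠ 1) (hpr : p ≠ r) (hq1 : q ≠ 1) (hqr : q ≠ r) (hpq : p ≠ q) (hpqr : p * q ≠ r) :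
    ∃ c : G, c * r = r * c ∧ c ^ 3 = 1 ∧ c * p * c⁻¹ = q ∧ c * q * c⁻¹ = p * q := by
  obtain ⟨ρ, hρ⟩ := h.loc_pt hr
  obtain ⟨c, hc, h1, h2⟩ := hρ.exists_cyc hp hq hp1 hpr hq1 hqr hpq hpqr
  obtain ⟨d, _, h3, h4, h5⟩ := h.star' hr hρ hp hq hp1 hpr hq1 hqr hpq hpqr hc h1 h2
  exact ⟨d, mem_centralizer_singleton_iff.mp d.2, h3, h4, h5⟩

end Ru

end Cfsg.Agent.Omega.RuShape.Base
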