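import Mathlib
import Cfsg.Agent.Omega.RuShape.Odd

/-!
# The Ru configuration: `pair_trans`, `act_ne`

`act_ne`: `ws V u` acts nontrivially on `ws V x/⟨x⟩` for all collinear `x ≠ u` (after helper794's `OddCyclic.GamFar`).
-/

set_option autoImplicit false
set_option linter.dupNamespace false
set_option linter.unusedSectionVars false

namespace Cfsg.Agent.Omega.RuShape.Base

open Subgroup Cfsg Cfsg.Agent.ZN Cfsg.Agent.MinSimple.Geo Cfsg.Agent.MinSimple.OddBase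
open Cfsg.Agent.OddCyclic Cfsg.Agent.OddCyclic.GamPerm Cfsg.Agent.OddCyclic.GamMod Cfsg.Agent.OddCyclic.GamLoc
open Cfsg.Agent.OddCyclic.GamBase (cc cc_surj cg_conj loc_conj ws_cj' lines_cj')
open Cfsg.Agent.ZN.Block (conj_mem_of_normalizer conj_mem_of_normalizer' le_normalizer_of_forall
  mem_normalizer_of)

universe u

variable {G : Type u} [Group G]

namespace Ru

variable {V : Subgroup G} {z : G}

/-- one of two noncommuting groups acts nontrivially -/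
theorem act_or (h : Ru V z) {p q : G} (hp : Pt z p) (hq : Pt z q) (hne : p ≠ q)
    {a b : G} (ha : a ∈ ws V p) (hb : b ∈ ws V q) (hab : a * b ≠ b * a) :
    ¬ Cg q (a * b * a⁻¹) b ∨ ¬ Cg p (b * a * b⁻¹) a := by
  by_contra hcon
  push Not at hcon
  obtain ⟨h1, h2⟩ := hcon
  rcases h1 with e | e
  · exact hab (mul_inv_eq_iff_eq_mul.mp e)
  rcases h2 with e' | e'
  · exact hab (mul_inv_eq_iff_eq_mul.mp e').symm
  · -- `a b a⁻¹ = b q`, `b a b⁻¹ = a p`
    apply hne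
    have ha' := h.inv_ws hp ha
    have hb' := h.inv_ws hq hb
    have e1 : a * b * a⁻¹ * b⁻¹ = q := by
      rw [e]
      have : b * q = q * b := h.comm hq hb (h.self_mem hq)
      rw [this, mul_inv_cancel_right]
    have e2 : b * a * b⁻¹ * a⁻¹ = p := by
      rw [e']
      have : a * p = p * a := h.comm hp ha (h.self_mem hp)
      rw [this, mul_inv_cancel_right]
    have e3 : b * a * b⁻¹ * a⁻¹ = (a * b * a⁻¹ * b⁻¹)⁻¹ := by group
    rw [e2, e1] at e3
    rw [e3]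
    exact inv_eq_of_mul_eq_one_left (h.xx hq)

/-- `G` is transitive on ordered pairs of collinear points -/
theorem pair_trans (h : Ru V z) {x u x' u' : G} (hx : Pt z x) (hu : u ∈ ws V x) (hu1 : u ≠ 1)
    (hux : u ≠ x) (hx' : Pt z x') (hu' : u' ∈ ws V x') (hu1' : u' ≠ 1) (hux' : u' ≠ x') :
    ∃ g : G, g * x * g⁻¹ = x' ∧ g * u * g⁻¹ = u' := by
  obtain ⟨k, hk⟩ := hx.symm.trans hx'
  have hku : k * u * k⁻¹ ∈ ws V x' := by
    rw [hk, ← cj_ws]; exact conj_mem_cj hu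
  obtain ⟨c, hc, hcu⟩ := h.trans_ws hx' hku hu' (conj_ne_one hu1) (fun e => hux (conj_inj (e.trans hk)))
    hu1' hux'
  refine ⟨c * k, ?_, ?_⟩
  · calc c * k * x * (c * k)⁻¹ = c * (k * x * k⁻¹) * c⁻¹ := by group
      _ = x' := by rw [← hk, hc, mul_inv_cancel_right]
  · calc c * k * u * (c * k)⁻¹ = c * (k * u * k⁻¹) * c⁻¹ := by group
      _ = u' := hcu

/-- `ws V u` acts nontrivially on `ws V x/⟨x⟩` for all collinear `x ≠ u` -/
theorem act_ne (h : Ru V z) {x u : G} (hx : Pt z x) (hu : u ∈ ws V x) (hu1 : u ≠ 1) (hux : u ≠ x) :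
    ∃ b ∈ ws V u, ∃ w ∈ ws V x, ¬ Cg x (b * w * b⁻¹) w := by
  have key : ∃ x u, Pt z x ∧ u ∈ ws V x ∧ u ≠ 1 ∧ u ≠ x ∧ ∃ b ∈ ws V u, ∃ w ∈ ws V x,
      ¬ Cg x (b * w * b⁻¹) w := by
    obtain ⟨y, hyV, hy1, hyx⟩ := h.exists_v
    obtain ⟨a, ha, b, hb, hab⟩ := h.noncomm y hyV hy1 hyx
    have hx := Pt.refl z
    have hy := h.V_le_ws hyV
    have hyp := h.pt hx hy hy1
    have hxy : z ∈ ws V y := h.mem_symm hx hy hy1
    rcases h.act_or hx hyp hyx.symm ha hb hab with h3 | h3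
    · exact ⟨y, z, hyp, hxy, h.ne_one hx, hyx.symm, a, ha, b, hb, h3⟩
    · exact ⟨z, y, hx, hy, hy1, hyx, b, hb, a, ha, h3⟩
  obtain ⟨x', u', hx', hu', hu1', hux', b, hb, w, hw, hn⟩ := key
  obtain ⟨g, rfl, rfl⟩ := h.pair_trans hx' hu' hu1' hux' hx hu hu1 hux
  refine ⟨g * b * g⁻¹, ?_, g * w * g⁻¹, ?_, ?_⟩
  · rw [← cj_ws]; exact conj_mem_cj hb
  · rw [← cj_ws]; exact conj_mem_cj hw
  · intro hc
    apply hn
    rw [cg_conj] at hc
    convert hc using 1 <;> group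

end Ru

end Cfsg.Agent.Omega.RuShape.Base
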