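import Mathlib
import Cfsg.Agent.Omega.RuShape.Far

/-!
# The Ru configuration: planes (after helper794's `OddCyclic.GamPlane`)

* `cx_eq_inf`, `plane_eq`: `ws V x ⊓ ws V u` is the `F₄`-point of `ws V x/⟨x⟩` which contains `u`;
* `Pl V z E`: planes; `Pl.eq_inf`, `Pl.card`, `Pl.comm`, `Pl.exists_rot`;
-/

set_option autoImplicit false
set_option linter.dupNamespace false
set_option linter.unusedSectionVars false

namespace Cfsg.Agent.Omega.RuShape.Base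

open Subgroup Cfsg Cfsg.Agent.ZN Cfsg.Agent.MinSimple.Geo Cfsg.Agent.MinSimple.OddBase
open Cfsg.Agent.OddCyclic Cfsg.Agent.OddCyclic.GamPerm Cfsg.Agent.OddCyclic.GamMod Cfsg.Agent.OddCyclic.GamLoc
open Cfsg.Agent.OddCyclic.GamBase (cc cc_surj cg_conj loc_conj ws_cj' lines_cj')
open Cfsg.Agent.ZN.Block (conj_mem_of_normalizer conj_mem_of_normalizer' le_normalizer_of_forall
  mem_normalizer_of)

universe u

variable {G : Type u} [Group G]

namespace Ru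

variable {V : Subgroup G} {z : G} [Finite G]

/-- elements of `ws V u` centralise `x` for collinear `x`, `u` -/
theorem comm_x (h : Ru V z) {x u : G} (hx : Pt z x) (hu : u ∈ ws V x) (hu1 : u ≠ 1) {b : G}
    (hb : b ∈ ws V u) : b * x = x * b :=
  h.comm (h.pt hx hu hu1) hb (h.mem_symm hx hu hu1)

/-- elements of `ws V u` as elements of `C_G(x)` -/
def el' (h : Ru V z) {x u : G} (hx : Pt z x) (hu : u ∈ ws V x) (hu1 : u ≠ 1) {b : G}
    (hb : b ∈ ws V u) : centralizer ({x} : Set G) :=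
  ⟨b, mem_centralizer_singleton_iff.mpr (h.comm_x hx hu hu1 hb)⟩

theorem el'_sq (h : Ru V z) {x u : G} (hx : Pt z x) (hu : u ∈ ws V x) (hu1 : u ≠ 1) {b : G}
    (hb : b ∈ ws V u) (ρ : centralizer ({x} : Set G) →* S5) :
    ρ (h.el' hx hu hu1 hb) * ρ (h.el' hx hu hu1 hb) = 1 := by
  rw [← map_mul]
  have : h.el' hx hu hu1 hb * h.el' hx hu hu1 hb = 1 := Subtype.ext (h.sq_ws (h.pt hx hu hu1) hb)
  rw [this, map_one]

/-- commutators of `ws V u` and `ws V x` -/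
theorem comm_mem_inf (h : Ru V z) {x u : G} (hx : Pt z x) (hu : u ∈ ws V x) (hu1 : u ≠ 1) {b w : G}
    (hb : b ∈ ws V u) (hw : w ∈ ws V x) : b * w * b⁻¹ * w ∈ ws V x ⊓ ws V u := by
  have hup := h.pt hx hu hu1
  refine ⟨mul_mem (h.norm hx (h.comm_x hx hu hu1 hb) hw) hw, ?_⟩
  have h1 : w * b⁻¹ * w⁻¹ ∈ ws V u := h.norm hup (h.comm hx hw hu) (inv_mem hb)
  rw [h.inv_ws hx hw] at h1
  have e : b * w * b⁻¹ * w = b * (w * b⁻¹ * w) := by group
  rw [e]; exact mul_mem hb h1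

theorem cx_eq_inf (h : Ru V z) {x u : G} (hx : Pt z x) {ρ : centralizer ({x} : Set G) →* S5}
    (hρ : Loc (ws V x) x ρ) (hu : u ∈ ws V x) (hu1 : u ≠ 1) {b : G}
    (hb : b ∈ ws V u) (hne : ρ (h.el' hx hu hu1 hb) ≠ 1) :
    hρ.cx (h.el' hx hu hu1 hb) = ws V x ⊓ ws V u := by
  have hup := h.pt hx hu hu1
  have hxu := h.mem_symm hx hu hu1
  set c := h.el' hx hu hu1 hb with hc
  have hcb : (c : G) = b := rfl
  have hcc : ρ c * ρ c = 1 := h.el'_sq hx hu hu1 hb ρ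
  apply le_antisymm
  · intro w hw
    obtain ⟨v, hv, hwv⟩ := hρ.exists_comm hcc hne hw
    have h1 := h.comm_mem_inf hx hu hu1 hb hv
    rw [hcb] at hwv
    rcases hwv with e | e
    · rw [e]; exact h1
    · rw [e]; exact mul_mem h1 ⟨hρ.x_mem, hxu⟩
  · rintro w ⟨hw, hw'⟩
    rw [hρ.mem_cx]
    refine ⟨hw, Or.inl ?_⟩
    rw [hcb, h.comm hup hb hw', mul_inv_cancel_right]

/-- lifts fixing `u` -/
theorem fix_lift (h : Ru V z) {x u : G} (hx : Pt z x) {ρ : centralizer ({x} : Set G) →* S5}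
    (hρ : Loc (ws V x) x ρ) (hu : u ∈ ws V x) (hu1 : u ≠ 1) (hux : u ≠ x)
    {c : centralizer ({x} : Set G)} (hc : Cg x ((c : G) * u * (c : G)⁻¹) u) :
    ∃ d, ρ d = ρ c ∧ (d : G) * u = u * d := by
  rcases hc with e | e
  · exact ⟨c, rfl, mul_inv_eq_iff_eq_mul.mp e⟩
  · obtain ⟨k, hk, hk2⟩ := h.exists_neg hx hρ hu hu1 hux
    refine ⟨k * c, by rw [map_mul, hk, one_mul], ?_⟩
    have hxk : (k : G) * x * (k : G)⁻¹ = x := by
      rw [mem_centralizer_singleton_iff.mp k.2, mul_inv_cancel_right]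
    apply mul_inv_eq_iff_eq_mul.mp
    change (k : G) * c * u * ((k : G) * c)⁻¹ = u
    calc (k : G) * c * u * ((k : G) * c)⁻¹ = (k : G) * ((c : G) * u * (c : G)⁻¹) * (k : G)⁻¹ := by group
      _ = ((k : G) * u * (k : G)⁻¹) * ((k : G) * x * (k : G)⁻¹) := by rw [e]; group
      _ = u := by rw [hk2, hxk, mul_assoc, hρ.xx, mul_one]

theorem exists_act (h : Ru V z) {x u : G} (hx : Pt z x) {ρ : centralizer ({x} : Set G) →* S5}
    (hρ : Loc (ws V x) x ρ) (hu : u ∈ ws V x) (hu1 : u ≠ 1) (hux : u ≠ x) :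
    ∃ b, ∃ hb : b ∈ ws V u, ρ (h.el' hx hu hu1 hb) ≠ 1 := by
  obtain ⟨b, hb, w, hw, hn⟩ := h.act_ne hx hu hu1 hux
  exact ⟨b, hb, fun e => hn ((hρ.ker _).mp e w hw)⟩

theorem plane_eq (h : Ru V z) {x u : G} (hx : Pt z x) {ρ : centralizer ({x} : Set G) →* S5}
    (hρ : Loc (ws V x) x ρ) (hu1 : u ≠ 1) (hux : u ≠ x) {i : Fin 5} (hi : u ∈ hρ.pg i) :
    ws V x ⊓ ws V u = hρ.pg i := by
  have hu : u ∈ ws V x := hρ.pg_le i hi
  have hup := h.pt hx hu hu1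
  have hxu := h.mem_symm hx hu hu1
  obtain ⟨b, hb, hne⟩ := h.exists_act hx hρ hu hu1 hux
  by_cases hK : K4 i (ρ (h.el' hx hu hu1 hb))
  · rw [← h.cx_eq_inf hx hρ hu hu1 hb hne, hρ.cx_eq_pg hK hne]
  · have hbu : Cg x (((h.el' hx hu hu1 hb : centralizer ({x} : Set G)) : G) * u *
        ((h.el' hx hu hu1 hb : centralizer ({x} : Set G)) : G)⁻¹) u := by
      left
      change b * u * b⁻¹ = u
      rw [h.comm hup hb (h.self_mem hup), mul_inv_cancel_right]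
    have hfix := hρ.idx_fix hi hu1 hux hbu
    obtain ⟨g, hg, hg2, hg3⟩ := exists_comm_k4 i _ hfix (h.el'_sq hx hu hu1 hb ρ) hK
    obtain ⟨d, rfl⟩ := hρ.even g hg.2.1
    obtain ⟨d', hd', hd'u⟩ := h.fix_lift hx hρ hu hu1 hux (hρ.fix_of_k4 hg hi)
    have hb' : b * ((d' : G) * b⁻¹ * (d' : G)⁻¹) ∈ ws V u := mul_mem hb (h.norm hup hd'u (inv_mem hb))
    have e : h.el' hx hu hu1 hb' = h.el' hx hu hu1 hb * d' * (h.el' hx hu hu1 hb)⁻¹ * d'⁻¹ := by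
      apply Subtype.ext
      change b * ((d' : G) * b⁻¹ * (d' : G)⁻¹) = b * d' * b⁻¹ * (d' : G)⁻¹
      group
    have e2 : ρ (h.el' hx hu hu1 hb') = ρ (h.el' hx hu hu1 hb) * ρ d * (ρ (h.el' hx hu hu1 hb))⁻¹ * (ρ d)⁻¹ := by
      rw [e, map_mul, map_mul, map_mul, map_inv, map_inv, hd']
    have hne' : ρ (h.el' hx hu hu1 hb') ≠ 1 := by rw [e2]; exact hg3
    rw [← h.cx_eq_inf hx hρ hu hu1 hb' hne', hρ.cx_eq_pg (by rw [e2]; exact hg2) hne']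

theorem plane_same (h : Ru V z) {x u u' : G} (hx : Pt z x) (hu : u ∈ ws V x) (hu1 : u ≠ 1)
    (hux : u ≠ x) (hu' : u' ∈ ws V x ⊓ ws V u) (hu1' : u' ≠ 1) (hux' : u' ≠ x) :
    ws V x ⊓ ws V u' = ws V x ⊓ ws V u := by
  obtain ⟨ρ, hρ⟩ := h.loc_pt hx
  obtain ⟨i, hi⟩ := hρ.exists_pg hu
  have h1 := h.plane_eq hx hρ hu1 hux hi
  rw [h1] at hu' ⊢
  exact h.plane_eq hx hρ hu1' hux' hu'

end Ru

/-- planes -/
def Pl (V : Subgroup G) (z : G) (E : Subgroup G) : Prop :=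
  ∃ x u, Pt z x ∧ u ∈ ws V x ∧ u ≠ 1 ∧ u ≠ x ∧ E = ws V x ⊓ ws V u

namespace Pl

variable {V : Subgroup G} {z : G} [Finite G] {E : Subgroup G}

theorem conj (hE : Pl V z E) (g : G) : Pl V z (cj g E) := by
  obtain ⟨x, u, hx, hu, hu1, hux, rfl⟩ := hE
  refine ⟨g * x * g⁻¹, g * u * g⁻¹, hx.conj g, ?_, conj_ne_one hu1, fun e => hux (conj_inj e), ?_⟩
  · rw [← cj_ws]; exact conj_mem_cj hu
  · rw [cj_inf, cj_ws, cj_ws]

theorem pt (hE : Pl V z E) (h : Ru V z) {a : G} (ha : a ∈ E) (ha1 : a ≠ 1) : Pt z a := by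
  obtain ⟨x, u, hx, hu, hu1, hux, rfl⟩ := hE
  exact h.pt hx ha.1 ha1

theorem eq_inf (hE : Pl V z E) (h : Ru V z) {a b : G} (ha : a ∈ E) (ha1 : a ≠ 1) (hb : b ∈ E)
    (hb1 : b ≠ 1) (hab : a ≠ b) : E = ws V a ⊓ ws V b := by
  obtain ⟨x, u, hx, hu, hu1, hux, rfl⟩ := hE
  by_cases hax : a = x
  · subst hax
    exact (h.plane_same hx hu hu1 hux hb hb1 hab.symm).symm
  by_cases hbx : b = x
  · subst hbx
    rw [inf_comm (ws V a) (ws V b)]
    exact (h.plane_same hx hu hu1 hux ha ha1 hax).symm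
  · have h1 := h.plane_same hx hu hu1 hux ha ha1 hax
    rw [← h1, inf_comm (ws V x) (ws V a)] at hb ⊢
    have hap := h.pt hx ha.1 ha1
    have hxa := h.mem_symm hx ha.1 ha1
    exact (h.plane_same hap hxa (h.ne_one hx) (fun e => hax e.symm) hb hb1 (fun e => hab e.symm)).symm

theorem le_ws (hE : Pl V z E) (h : Ru V z) {a : G} (ha : a ∈ E) (ha1 : a ≠ 1) : E ≤ ws V a := by
  obtain ⟨x, u, hx, hu, hu1, hux, hEE⟩ := hE
  have hE : Pl V z E := ⟨x, u, hx, hu, hu1, hux, hEE⟩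
  by_cases hax : a = x
  · rw [hEE, hax]; exact inf_le_left
  · have hxE : x ∈ E := by rw [hEE]; exact ⟨h.self_mem hx, h.mem_symm hx hu hu1⟩
    rw [hE.eq_inf h ha ha1 hxE (h.ne_one hx) hax]
    exact inf_le_left

theorem comm (hE : Pl V z E) (h : Ru V z) {a b : G} (ha : a ∈ E) (hb : b ∈ E) : a * b = b * a := by
  obtain ⟨x, u, hx, hu, hu1, hux, rfl⟩ := hE
  exact h.comm hx ha.1 hb.1

theorem sq (hE : Pl V z E) (h : Ru V z) {a : G} (ha : a ∈ E) : a * a = 1 := by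
  obtain ⟨x, u, hx, hu, hu1, hux, rfl⟩ := hE
  exact h.sq_ws hx ha.1

theorem inv (hE : Pl V z E) (h : Ru V z) {a : G} (ha : a ∈ E) : a⁻¹ = a :=
  inv_eq_of_mul_eq_one_left (hE.sq h ha)

theorem card (hE : Pl V z E) (h : Ru V z) : Nat.card E = 8 := by
  obtain ⟨x, u, hx, hu, hu1, hux, rfl⟩ := hE
  obtain ⟨ρ, hρ⟩ := h.loc_pt hx
  obtain ⟨i, hi⟩ := hρ.exists_pg hu
  rw [h.plane_eq hx hρ hu1 hux hi, hρ.card_pg]

/-- the plane as an `F₄`-point of one of its points -/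
theorem exists_pg (hE : Pl V z E) (h : Ru V z) {a : G} (ha : a ∈ E) (ha1 : a ≠ 1)
    {ρ : centralizer ({a} : Set G) →* S5} (hρ : Loc (ws V a) a ρ) : ∃ i, E = hρ.pg i := by
  have : ∃ b ∈ E, b ≠ 1 ∧ b ≠ a := by
    by_contra hcon
    push Not at hcon
    have h1 : (E : Set G) ⊆ {1, a} := by
      intro t ht
      by_cases ht1 : t = 1
      · exact Or.inl ht1
      · exact Or.inr (hcon t ht ht1)
    have h2 := Set.ncard_le_ncard h1 (Set.toFinite _)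
    have h3 : (E : Set G).ncard = 8 := by rw [← hE.card h]; rfl
    rw [h3, Set.ncard_pair ha1.symm] at h2
    omega
  obtain ⟨b, hb, hb1, hba⟩ := this
  have hbW := hE.le_ws h ha ha1 hb
  obtain ⟨i, hi⟩ := hρ.exists_pg hbW
  exact ⟨i, by rw [← h.plane_eq (hE.pt h ha ha1) hρ hb1 hba hi]
               exact hE.eq_inf h ha ha1 hb hb1 hba.symm⟩

/-- `[ws V a, C_G(E)] ≤ E` -/
theorem comm_mem (hE : Pl V z E) (h : Ru V z) {a : G} (ha : a ∈ E) (ha1 : a ≠ 1) {c : G}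
    (hc : ∀ e ∈ E, c * e = e * c) {w : G} (hw : w ∈ ws V a) : c * w * c⁻¹ * w ∈ E := by
  have hap := hE.pt h ha ha1
  obtain ⟨ρ, hρ⟩ := h.loc_pt hap
  obtain ⟨i, rfl⟩ := hE.exists_pg h ha ha1 hρ
  have hca : c ∈ centralizer ({a} : Set G) := mem_centralizer_singleton_iff.mpr (hc a ha)
  have hK : K4 i (ρ ⟨c, hca⟩) := hρ.k4_of_pg fun w hw => Or.inl (by
    change c * w * c⁻¹ = w
    rw [hc w hw, mul_inv_cancel_right])
  exact hρ.quot_of_k4 hK hw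

/-- elements of `ws V b`, `b ∈ E`, centralise `E` -/
theorem ws_comm (hE : Pl V z E) (h : Ru V z) {b : G} (hb : b ∈ E) (hb1 : b ≠ 1) {w : G}
    (hw : w ∈ ws V b) {e : G} (he : e ∈ E) : w * e = e * w :=
  h.comm (hE.pt h hb hb1) hw (hE.le_ws h hb hb1 he)

/-- an element which rotates a line of `E` normalises `E` -/
theorem cj_eq (hE : Pl V z E) (h : Ru V z) {a b c : G} (ha : a ∈ E) (ha1 : a ≠ 1) (hb : b ∈ E)
    (hb1 : b ≠ 1) (hab : a ≠ b) (ha' : c * a * c⁻¹ ∈ E) (hb' : c * b * c⁻¹ ∈ E) : cj c E = E := by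
  conv_lhs => rw [hE.eq_inf h ha ha1 hb hb1 hab]
  rw [cj_inf, cj_ws, cj_ws]
  exact (hE.eq_inf h ha' (conj_ne_one ha1) hb' (conj_ne_one hb1) (fun e => hab (conj_inj e))).symm

end Pl

namespace Ru

variable {V : Subgroup G} {z : G} [Finite G]

theorem pl (_ : Ru V z) {x u : G} (hx : Pt z x) (hu : u ∈ ws V x) (hu1 : u ≠ 1) (hux : u ≠ x) :
    Pl V z (ws V x ⊓ ws V u) := ⟨x, u, hx, hu, hu1, hux, rfl⟩

end Ru

end Cfsg.Agent.Omega.RuShape.Base
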