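import Mathlib
import Cfsg.Agent.Omega.RuShape.Pl

/-!
# The Ru configuration: the subgroup `L_x = ⟨W_y : y ∈ W_x - x⟩`

helper881's text #12858, (2.2): `ll V x` is normal in `C_G(x)`, covers `A₅`, contains `W_x` and all elements of order
three of `C_G(x)`, and centralises `C_G(W_x)/W_x` (`ll_comm`).
-/

set_option autoImplicit false
set_option linter.dupNamespace false
set_option linter.unusedSectionVars false

namespace Cfsg.Agent.Omega.RuShape.Base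

open Subgroup Cfsg Cfsg.Agent.ZN Cfsg.Agent.MinSimple.Geo Cfsg.Agent.MinSimple.OddBase
open Cfsg.Agent.OddCyclic Cfsg.Agent.OddCyclic.GamPerm Cfsg.Agent.OddCyclic.GamMod Cfsg.Agent.OddCyclic.GamLoc
open Cfsg.Agent.OddCyclic.GamBase (cc cc_surj cg_conj loc_conj ws_cj' lines_cj')
open Cfsg.Agent.ZN.Block (conj_mem_of_normalizer conj_mem_of_normalizer' le_normalizer_of_forall
  mem_normalizer_of)

universe u

variable {G : Type u} [Group G]

theorem s5_conj_o3 : ∃ g₀ : S5, O3 g₀ ∧ ∀ g : S5, O3 g → ∃ s : S5, Equiv.Perm.sign s = 1 ∧ s * g₀ * s⁻¹ = g := by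
  refine ⟨c[0, 1, 2], by decide, ?_⟩
  decide +kernel

theorem s5_o3_conj {g h : S5} (hg : O3 g) (hh : O3 h) : ∃ s : S5, Equiv.Perm.sign s = 1 ∧ s * g * s⁻¹ = h := by
  obtain ⟨g₀, _, h0⟩ := s5_conj_o3
  obtain ⟨s, hs, rfl⟩ := h0 g hg
  obtain ⟨t, ht, rfl⟩ := h0 h hh
  refine ⟨t * s⁻¹, ?_, by group⟩
  rw [map_mul, map_inv, hs, ht]; rfl

/-- `L_x = ⟨W_y : y ∈ W_x - x⟩` -/
def ll (V : Subgroup G) (x : G) : Subgroup G :=
  closure {g | ∃ y ∈ ws V x, y ≠ 1 ∧ y ≠ x ∧ g ∈ ws V y}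

theorem cj_ll_le (V : Subgroup G) (g x : G) : cj g (ll V x) ≤ ll V (g * x * g⁻¹) := by
  rw [cj_le_iff]
  unfold ll
  rw [closure_le]
  rintro a ⟨y, hy, hy1, hyx, ha⟩
  rw [SetLike.mem_coe, mem_cj, inv_inv]
  apply Subgroup.subset_closure
  refine ⟨g * y * g⁻¹, ?_, conj_ne_one hy1, fun e => hyx (conj_inj e), ?_⟩
  · rw [← cj_ws]; exact conj_mem_cj hy
  · rw [← cj_ws]; exact conj_mem_cj ha

theorem cj_ll (V : Subgroup G) (g x : G) : cj g (ll V x) = ll V (g * x * g⁻¹) := by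
  apply le_antisymm (cj_ll_le V g x)
  have h1 := cj_ll_le V g⁻¹ (g * x * g⁻¹)
  have e : g⁻¹ * (g * x * g⁻¹) * g⁻¹⁻¹ = x := by group
  rw [e] at h1
  have h2 := cj_mono (g := g) h1
  rwa [cj_cj_inv] at h2

theorem ws_le_ll' {V : Subgroup G} {x y : G} (hy : y ∈ ws V x) (hy1 : y ≠ 1) (hyx : y ≠ x) :
    ws V y ≤ ll V x := fun _ hg => Subgroup.subset_closure ⟨y, hy, hy1, hyx, hg⟩

namespace Ru

variable {V : Subgroup G} {z : G} [Finite G]

theorem ll_le (h : Ru V z) {x : G} (hx : Pt z x) : ll V x ≤ centralizer ({x} : Set G) := by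
  unfold ll
  rw [closure_le]
  rintro a ⟨y, hy, hy1, _, ha⟩
  exact mem_centralizer_singleton_iff.mpr (h.comm_x hx hy hy1 ha)

theorem ll_conj (_ : Ru V z) {x c l : G} (hc : c * x = x * c) (hl : l ∈ ll V x) :
    c * l * c⁻¹ ∈ ll V x := by
  have := conj_mem_cj (g := c) hl
  rwa [cj_ll, hc, mul_inv_cancel_right] at this

theorem ws_le_ll (h : Ru V z) {x : G} (hx : Pt z x) : ws V x ≤ ll V x := by
  have h1 : ∀ y ∈ ws V x, y ≠ 1 → y ≠ x → y ∈ ll V x := fun y hy hy1 hyx =>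
    ws_le_ll' hy hy1 hyx (h.self_mem (h.pt hx hy hy1))
  intro y hy
  by_cases hy1 : y = 1
  · rw [hy1]; exact one_mem _
  by_cases hyx : y = x
  · obtain ⟨w, hw, hw1, hwx⟩ := h.exists_ws hx
    have hxx := h.xx hx
    have hwx1 : w * x ≠ 1 := fun e => hwx (by
      rw [mul_eq_one_iff_eq_inv.mp e]; exact inv_eq_of_mul_eq_one_left hxx)
    have hwx2 : w * x ≠ x := fun e => hw1 (by simpa using e)
    have h2 : y = w * (w * x) := by rw [← mul_assoc, h.sq_ws hx hw, one_mul, hyx]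
    rw [h2]
    exact mul_mem (h1 w hw hw1 hwx) (h1 _ (mul_mem hw (h.self_mem hx)) hwx1 hwx2)
  · exact h1 y hy hy1 hyx

/-- (2.2): `L_x` centralises `C_G(W_x)/W_x` -/
theorem ll_comm (h : Ru V z) {x : G} (hx : Pt z x) {l : G} (hl : l ∈ ll V x) {c : G}
    (hc : ∀ w ∈ ws V x, c * w = w * c) : c * l * c⁻¹ * l⁻¹ ∈ ws V x := by
  obtain ⟨ρ, hρ⟩ := h.loc_pt hx
  have h1 : ∀ l ∈ ll V x, ∀ c : G, (∀ w ∈ ws V x, c * w = w * c) → c * l * c⁻¹ * l⁻¹ ∈ ws V x := by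
    intro l hl
    unfold ll at hl
    induction hl using Subgroup.closure_induction with
    | mem b hb =>
      obtain ⟨u, hu, hu1, hux, hb⟩ := hb
      intro c hc
      have hup := h.pt hx hu hu1
      have h1 := (h.pl hx hu hu1 hux).comm_mem h (a := u) ⟨hu, h.self_mem hup⟩ hu1 (c := c)
        (fun e he => hc e he.1) hb
      rw [h.inv_ws hup hb]
      exact h1.1
    | one => intro c _; simp [one_mem]
    | mul a b ha hb iha ihb =>
      intro c hc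
      have ha' : a * x = x * a := mem_centralizer_singleton_iff.mp (h.ll_le hx ha)
      have e : c * (a * b) * c⁻¹ * (a * b)⁻¹ = (c * a * c⁻¹ * a⁻¹) * (a * (c * b * c⁻¹ * b⁻¹) * a⁻¹) := by
        group
      rw [e]
      exact mul_mem (iha c hc) (h.norm hx ha' (ihb c hc))
    | inv a ha iha =>
      intro c hc
      have ha' : a * x = x * a := mem_centralizer_singleton_iff.mp (h.ll_le hx ha)
      have ha2 : a⁻¹ * x = x * a⁻¹ := by
        have := mem_centralizer_singleton_iff.mp (inv_mem (h.ll_le hx ha))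
        exact this
      have e : c * a⁻¹ * c⁻¹ * a⁻¹⁻¹ = a⁻¹ * (c * a * c⁻¹ * a⁻¹)⁻¹ * a⁻¹⁻¹ *
          (a⁻¹ * (c * a * c⁻¹ * a⁻¹) * a⁻¹⁻¹ * (c * a⁻¹ * c⁻¹ * a⁻¹⁻¹)) := by group
      have e2 : c * a⁻¹ * c⁻¹ * a⁻¹⁻¹ = a⁻¹ * (a * (c * a⁻¹ * c⁻¹)) * a⁻¹⁻¹ := by group
      have e3 : a * (c * a⁻¹ * c⁻¹) = (c * a * c⁻¹ * a⁻¹)⁻¹ := by group
      rw [e2, e3]
      exact h.norm hx ha2 (inv_mem (iha c hc))
  exact h1 l hl c hc

/-- an element of order three of `C_G(x)` in `L_x` -/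
theorem exists_o3_ll (h : Ru V z) {x : G} (hx : Pt z x) {ρ : centralizer ({x} : Set G) →* S5}
    (hρ : Loc (ws V x) x ρ) : ∃ q : centralizer ({x} : Set G), (q : G) ∈ ll V x ∧ O3 (ρ q) := by
  obtain ⟨u, hu, hu1, hux⟩ := h.exists_ws hx
  obtain ⟨b, hb, hne⟩ := h.exists_act hx hρ hu hu1 hux
  obtain ⟨g, hg, h3⟩ := exists_conj_o3 _ (h.el'_sq hx hu hu1 hb ρ) hne
  obtain ⟨d, rfl⟩ := hρ.even g hg
  have hbL : b ∈ ll V x := ws_le_ll' hu hu1 hux hb
  refine ⟨h.el' hx hu hu1 hb * (d * h.el' hx hu hu1 hb * d⁻¹), ?_, ?_⟩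
  · change b * ((d : G) * b * (d : G)⁻¹) ∈ ll V x
    exact mul_mem hbL (h.ll_conj (mem_centralizer_singleton_iff.mp d.2) hbL)
  · rw [map_mul, map_mul, map_mul, map_inv]; exact h3

/-- all elements of order three of `C_G(x)` are in `L_x` -/
theorem three_mem_ll (h : Ru V z) {x : G} (hx : Pt z x) {y : G} (hy : y * x = x * y) (hy3 : y ^ 3 = 1) :
    y ∈ ll V x := by
  obtain ⟨ρ, hρ⟩ := h.loc_pt hx
  have hyC : y ∈ centralizer ({x} : Set G) := mem_centralizer_singleton_iff.mpr hy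
  by_cases h1 : ρ ⟨y, hyC⟩ = 1
  · have := h.ker_three hx hρ h1 hy3
    change y = 1 at this
    rw [this]; exact one_mem _
  have hO : O3 (ρ ⟨y, hyC⟩) := by
    refine ⟨?_, h1⟩
    rw [← map_mul, ← map_mul]
    have : (⟨y, hyC⟩ * ⟨y, hyC⟩ * ⟨y, hyC⟩ : centralizer ({x} : Set G)) = 1 := by
      apply Subtype.ext
      change y * y * y = 1
      rw [← hy3]; simp only [pow_succ, pow_zero, one_mul]
    rw [this, map_one]
  obtain ⟨q, hq, hqO⟩ := h.exists_o3_ll hx hρ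
  obtain ⟨s, hs, hsq⟩ := s5_o3_conj hqO hO
  obtain ⟨d, rfl⟩ := hρ.even s hs
  set l : centralizer ({x} : Set G) := d * q * d⁻¹ with hl
  have hlL : (l : G) ∈ ll V x := h.ll_conj (mem_centralizer_singleton_iff.mp d.2) hq
  set k : centralizer ({x} : Set G) := l⁻¹ * ⟨y, hyC⟩ with hk
  have hk1 : ρ k = 1 := by
    rw [hk, map_mul, map_inv, hl, map_mul, map_mul, map_inv, hsq, inv_mul_cancel]
  let L : Subgroup (centralizer ({x} : Set G)) := (ll V x).subgroupOf (centralizer ({x} : Set G))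
  have hLn : L.Normal := by
    constructor
    intro n hn g
    rw [mem_subgroupOf] at hn ⊢
    exact h.ll_conj (mem_centralizer_singleton_iff.mp g.2) hn
  obtain ⟨n, hn⟩ := h.isPGroup_ker hx hρ ⟨k, hk1⟩
  have hn' : k ^ 2 ^ n = 1 := congrArg Subtype.val hn
  have h2 : QuotientGroup.mk' L ⟨y, hyC⟩ = QuotientGroup.mk' L k := by
    have e : (⟨y, hyC⟩ : centralizer ({x} : Set G)) = l * k := by rw [hk]; group
    have e2 : QuotientGroup.mk' L l = 1 := by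
      rw [← MonoidHom.mem_ker, QuotientGroup.ker_mk', mem_subgroupOf]; exact hlL
    rw [e, map_mul, e2, one_mul]
  have h3 : (QuotientGroup.mk' L ⟨y, hyC⟩) ^ 2 ^ n = 1 := by rw [h2, ← map_pow, hn', map_one]
  have h4 : (QuotientGroup.mk' L ⟨y, hyC⟩) ^ 3 = 1 := by
    rw [← map_pow]
    have : (⟨y, hyC⟩ : centralizer ({x} : Set G)) ^ 3 = 1 := Subtype.ext hy3
    rw [this, map_one]
  have h5 : orderOf (QuotientGroup.mk' L ⟨y, hyC⟩) ∣ Nat.gcd (2 ^ n) 3 :=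
    Nat.dvd_gcd (orderOf_dvd_of_pow_eq_one h3) (orderOf_dvd_of_pow_eq_one h4)
  have h6 : Nat.gcd (2 ^ n) 3 = 1 := Nat.Coprime.pow_left n (by norm_num)
  rw [h6, Nat.dvd_one, orderOf_eq_one_iff, ← MonoidHom.mem_ker, QuotientGroup.ker_mk', mem_subgroupOf] at h5
  exact h5

/-- `[C_G(ws V x), y] ≤ ws V x` for `y ∈ C_G(x)` of order three -/
theorem cent_three (h : Ru V z) {x : G} (hx : Pt z x) {c y : G} (hc : ∀ w ∈ ws V x, c * w = w * c)
    (hy : y * x = x * y) (hy3 : y ^ 3 = 1) : c * y * c⁻¹ * y⁻¹ ∈ ws V x :=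
  h.ll_comm hx (h.three_mem_ll hx hy hy3) hc

end Ru

end Cfsg.Agent.Omega.RuShape.Base
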