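import Mathlib
import Cfsg.Agent.Omega.RuShape.Lx

/-!
# The Ru configuration: the subgroups `bb V u v = ws V u ⊓ kq V v` of index two in `ws V u`

For points `u ≠ v` of a plane `E`: `card_bb`, `bb_same`, `bb_inf`, `bb_comm`, `bb_act` (after helper794's
`OddCyclic.GamFlag`).
-/

set_option autoImplicit false
set_option linter.dupNamespace false
set_option linter.unusedSectionVars false

namespace Cfsg.Agent.Omega.RuShape.Base

open Subgroup Cfsg Cfsg.Agent.ZN Cfsg.Agent.MinSimple.Geo Cfsg.Agent.MinSimple.OddBase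
open Cfsg.Agent.OddCyclic Cfsg.Agent.OddCyclic.GamPerm Cfsg.Agent.OddCyclic.GamMod Cfsg.Agent.OddCyclic.GamLoc
open Cfsg.Agent.OddCyclic.GamBase (cc cc_surj cg_conj loc_conj ws_cj' lines_cj')
open Cfsg.Agent.ZN.Block (conj_mem_of_normalizer conj_mem_of_normalizer' le_normalizer_of_forall
  mem_normalizer_of)

universe u

variable {G : Type u} [Group G]

theorem mul_mem_of_two {B W : Subgroup G} (hle : B ≤ W) (hcard : Nat.card W = 2 * Nat.card B)
    (hpos : 0 < Nat.card B) {a b : G}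
    (ha : a ∈ W) (hb : b ∈ W) (ha' : a ∉ B) (hb' : b ∉ B) : a * b ∈ B := by
  have hidx : (B.subgroupOf W).index = 2 := by
    have h1 := Subgroup.card_mul_index (B.subgroupOf W)
    have h2 : Nat.card (B.subgroupOf W) = Nat.card B := Nat.card_congr (subgroupOfEquivOfLe hle).toEquiv
    rw [h2, hcard, mul_comm 2] at h1
    exact Nat.eq_of_mul_eq_mul_left hpos h1
  have h3 := (Subgroup.mul_mem_iff_of_index_two hidx (a := ⟨a, ha⟩) (b := ⟨b, hb⟩))
  have h4 : (⟨a, ha⟩ * ⟨b, hb⟩ : W) ∈ B.subgroupOf W := by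
    rw [h3, mem_subgroupOf, mem_subgroupOf]
    exact ⟨fun h => absurd h ha', fun h => absurd h hb'⟩
  exact mem_subgroupOf.mp h4

theorem kq_le (V : Subgroup G) (x : G) : kq V x ≤ centralizer ({x} : Set G) := fun _ hc => hc.1

theorem mem_kq_iff {V : Subgroup G} {x : G} {ρ : centralizer ({x} : Set G) →* S5}
    (hρ : Loc (ws V x) x ρ) {c : centralizer ({x} : Set G)} : (c : G) ∈ kq V x ↔ ρ c = 1 := by
  have key : ∀ (c : centralizer ({x} : Set G)) (w : G), w ∈ ws V x →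
      ((c : G) * w * (c : G)⁻¹ * w⁻¹ ∈ zpowers x ↔ Cg x ((c : G) * w * (c : G)⁻¹) w) := by
    intro c w hw
    rw [Cfsg.Agent.MinSimple.Sec.mem_zpowers hρ.xx]
    unfold Cg
    have hxw : x * w = w * x := hρ.comm x hρ.x_mem w hw
    constructor
    · rintro (e | e)
      · left; exact mul_inv_eq_one.mp e
      · right; rw [← hxw]; exact mul_inv_eq_iff_eq_mul.mp e
    · rintro (e | e)
      · left; rw [e, mul_inv_cancel]
      · right; rw [e, ← hxw, mul_inv_cancel_right]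
  rw [mem_kq', hρ.ker]
  constructor
  · rintro ⟨_, h1, _⟩ w hw
    exact (key c w hw).mp (h1 w hw)
  · intro h1
    refine ⟨c.2, fun w hw => (key c w hw).mpr (h1 w hw), fun w hw => ?_⟩
    have h2 : ∀ w ∈ ws V x, Cg x (((c⁻¹ : centralizer ({x} : Set G)) : G) * w *
        ((c⁻¹ : centralizer ({x} : Set G)) : G)⁻¹) w := by
      rw [← hρ.ker, map_inv, inv_eq_one]
      exact (hρ.ker c).mpr h1
    have h3 := (key c⁻¹ w hw).mpr (h2 w hw)
    have e : ((c⁻¹ : centralizer ({x} : Set G)) : G) = (c : G)⁻¹ := rfl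
    rw [e, inv_inv] at h3
    exact h3

/-- `ws V u ⊓ kq V v` -/
def bb (V : Subgroup G) (u v : G) : Subgroup G := ws V u ⊓ kq V v

theorem cj_bb (V : Subgroup G) (g u v : G) : cj g (bb V u v) = bb V (g * u * g⁻¹) (g * v * g⁻¹) := by
  unfold bb
  rw [cj_inf, cj_ws, cj_kq]

theorem bb_le (V : Subgroup G) (u v : G) : bb V u v ≤ ws V u := inf_le_left

theorem mem_bb {V : Subgroup G} {u v g : G} : g ∈ bb V u v ↔ g ∈ ws V u ∧ g ∈ kq V v := Iff.rfl

namespace Ru

variable {V : Subgroup G} {z : G} [Finite G]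

/-- the action of `kq V x` -/
theorem kq_act (h : Ru V z) {x : G} (hx : Pt z x) {c w : G} (hc : c ∈ kq V x) (hw : w ∈ ws V x) :
    c * w * c⁻¹ = w ∨ c * w * c⁻¹ = w * x := by
  obtain ⟨ρ, hρ⟩ := h.loc_pt hx
  have h1 := (mem_kq_iff hρ (c := ⟨c, kq_le V x hc⟩)).mp hc
  exact (hρ.ker _).mp h1 w hw

theorem ws_le_kq (h : Ru V z) {x : G} (hx : Pt z x) : ws V x ≤ kq V x := by
  intro w hw
  obtain ⟨ρ, hρ⟩ := h.loc_pt hx
  refine (mem_kq_iff hρ (c := ⟨w, hρ.le_centralizer hw⟩)).mpr ?_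
  rw [hρ.ker]
  intro v hv
  left
  change w * v * w⁻¹ = v
  rw [hρ.comm w hw v hv, mul_inv_cancel_right]

theorem kq_conj (_ : Ru V z) {x : G} (_ : Pt z x) {c k : G} (hc : c * x = x * c) (hk : k ∈ kq V x) :
    c * k * c⁻¹ ∈ kq V x := by
  have := conj_mem_cj (g := c) hk
  rwa [cj_kq, hc, mul_inv_cancel_right] at this

end Ru

/-- three independent elements of a plane -/
structure Ind (E : Subgroup G) (u v w : G) : Prop where
  u_mem : u ∈ E
  v_mem : v ∈ E
  w_mem : w ∈ E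
  u_ne : u ≠ 1
  v_ne : v ≠ 1
  w_ne : w ≠ 1
  uv : u ≠ v
  uw : u ≠ w
  vw : v ≠ w
  uvw : u * v ≠ w

namespace Pl

variable {V : Subgroup G} {z : G} [Finite G] {E : Subgroup G}

theorem eq_mul (hE : Pl V z E) (h : Ru V z) {a b c : G} (ha : a ∈ E) (e : a * b = c) :
    b = a * c := by
  rw [← e, ← mul_assoc, hE.sq h ha, one_mul]

/-- permutations of independent triples -/
theorem ind_swap (hE : Pl V z E) (h : Ru V z) {u v w : G} (hi : Ind E u v w) : Ind E v u w :=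
  ⟨hi.v_mem, hi.u_mem, hi.w_mem, hi.v_ne, hi.u_ne, hi.w_ne, hi.uv.symm, hi.vw, hi.uw, by
    rw [hE.comm h hi.v_mem hi.u_mem]; exact hi.uvw⟩

theorem ind_rot (hE : Pl V z E) (h : Ru V z) {u v w : G} (hi : Ind E u v w) : Ind E v w u :=
  ⟨hi.v_mem, hi.w_mem, hi.u_mem, hi.v_ne, hi.w_ne, hi.u_ne, hi.vw, hi.uv.symm, hi.uw.symm, fun e => by
    apply hi.uvw
    have := hE.eq_mul h hi.v_mem e
    rw [this, hE.comm h hi.u_mem hi.v_mem]⟩

theorem ind_mul (hE : Pl V z E) (h : Ru V z) {u v w : G} (hi : Ind E u v w) : Ind E u v (u * w) := by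
  refine ⟨hi.u_mem, hi.v_mem, mul_mem hi.u_mem hi.w_mem, hi.u_ne, hi.v_ne, ?_, hi.uv, ?_, ?_, ?_⟩
  · intro e
    apply hi.uw
    have := hE.eq_mul h hi.u_mem e
    rw [this, mul_one]
  · intro e; exact hi.w_ne (by simpa using e.symm)
  · intro e
    apply hi.uvw
    rw [e, ← mul_assoc, hE.sq h hi.u_mem, one_mul]
  · intro e
    exact hi.vw (mul_left_cancel e)

/-- there is a third independent element -/
theorem exists_third (hE : Pl V z E) (h : Ru V z) {u v : G} (hu : u ∈ E) (hv : v ∈ E) (hu1 : u ≠ 1)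
    (hv1 : v ≠ 1) (huv : u ≠ v) : ∃ w, Ind E u v w := by
  have h0 : ∃ w ∈ E, w ≠ 1 ∧ w ≠ u ∧ w ≠ v ∧ w ≠ u * v := by
    by_contra hcon
    push Not at hcon
    have h1 : (E : Set G) ⊆ {1, u, v, u * v} := by
      intro t ht
      by_cases ht1 : t = 1
      · exact Or.inl ht1
      by_cases ht2 : t = u
      · exact Or.inr (Or.inl ht2)
      by_cases ht3 : t = v
      · exact Or.inr (Or.inr (Or.inl ht3))
      · exact Or.inr (Or.inr (Or.inr (hcon t ht ht1 ht2 ht3)))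
    have h2 := Set.ncard_le_ncard h1 (Set.toFinite _)
    have h3 : (E : Set G).ncard = 8 := by rw [← hE.card h]; rfl
    have h4 : ({1, u, v, u * v} : Set G).ncard ≤ 4 := by
      refine (Set.ncard_insert_le _ _).trans ?_
      have := Set.ncard_insert_le u ({v, u * v} : Set G)
      have := Set.ncard_insert_le v ({u * v} : Set G)
      rw [Set.ncard_singleton] at this
      omega
    omega
  obtain ⟨w, hw, h1, h2, h3, h4⟩ := h0
  exact ⟨w, hu, hv, hw, hu1, hv1, h1, huv, h2.symm, h3.symm, h4.symm⟩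

/-- rotation of a line of `E`, fixing a point of `E` -/
theorem exists_rot (hE : Pl V z E) (h : Ru V z) {u v w : G} (hi : Ind E u v w) :
    ∃ c : G, c * u = u * c ∧ c ^ 3 = 1 ∧ c * v * c⁻¹ = w ∧ c * w * c⁻¹ = v * w ∧ cj c E = E := by
  have hle := hE.le_ws h hi.u_mem hi.u_ne
  have hi' := hE.ind_rot h hi
  obtain ⟨c, h1, h2, h3, h4⟩ := h.star (hE.pt h hi.u_mem hi.u_ne) (hle hi.v_mem) (hle hi.w_mem)
    hi.v_ne hi.uv.symm hi.w_ne hi.uw.symm hi.vw hi'.uvw
  refine ⟨c, h1, h2, h3, h4, ?_⟩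
  exact hE.cj_eq h hi.v_mem hi.v_ne hi.w_mem hi.w_ne hi.vw (by rw [h3]; exact hi.w_mem)
    (by rw [h4]; exact mul_mem hi.v_mem hi.w_mem)

theorem le_bb (hE : Pl V z E) (h : Ru V z) {u v : G} (hu : u ∈ E) (hv : v ∈ E) (hu1 : u ≠ 1)
    (hv1 : v ≠ 1) : E ≤ bb V u v :=
  le_inf (hE.le_ws h hu hu1) ((hE.le_ws h hv hv1).trans (h.ws_le_kq (hE.pt h hv hv1)))

/-- a transvection of `E` in `kq V v` -/
theorem exists_trv (hE : Pl V z E) (h : Ru V z) {u v w : G} (hi : Ind E u v w) :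
    ∃ k ∈ kq V v, k * u = u * k ∧ k * w * k⁻¹ = w * v := by
  have hv := hE.pt h hi.v_mem hi.v_ne
  obtain ⟨ρ, hρ⟩ := h.loc_pt hv
  have hle := hE.le_ws h hi.v_mem hi.v_ne
  have huwv : u * w ≠ v := by
    intro e
    apply hi.uvw
    have := hE.eq_mul h hi.u_mem e
    exact this.symm
  obtain ⟨k, hk, h1, h2⟩ := h.exists_hom hv hρ (hle hi.u_mem) (hle hi.w_mem) hi.u_ne hi.uv hi.w_ne
    hi.vw.symm hi.uw huwv (Or.inl rfl) (Or.inr rfl)
  refine ⟨k, (mem_kq_iff hρ).mpr hk, ?_, h2⟩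
  rw [mul_one] at h1
  exact mul_inv_eq_iff_eq_mul.mp h1

/-- ... it acts nontrivially on `ws V u/E` -/
theorem act_quot (hE : Pl V z E) (h : Ru V z) {u v w : G} (hi : Ind E u v w) {k : G}
    (hku : k * u = u * k) (hkv : k * v = v * k) (hkw : k * w * k⁻¹ = w * v) :
    ∃ g ∈ ws V u, k * g * k⁻¹ * g ∉ E := by
  by_contra hcon
  push Not at hcon
  have hu := hE.pt h hi.u_mem hi.u_ne
  obtain ⟨ρ, hρ⟩ := h.loc_pt hu
  obtain ⟨i, hEi⟩ := hE.exists_pg h hi.u_mem hi.u_ne hρ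
  have hkC : k ∈ centralizer ({u} : Set G) := mem_centralizer_singleton_iff.mpr hku
  have h1 : ρ ⟨k, hkC⟩ i = i := by
    refine hρ.idx_fix (w := v) (by rw [← hEi]; exact hi.v_mem) hi.v_ne hi.uv.symm (Or.inl ?_)
    change k * v * k⁻¹ = v
    rw [hkv, mul_inv_cancel_right]
  have h2 : K4 i (ρ ⟨k, hkC⟩) := hρ.k4_of_quot h1 fun g hg => by
    rw [← hEi]; exact hcon g hg
  have h3 := hρ.fix_of_k4 h2 (w := w) (by rw [← hEi]; exact hi.w_mem)
  change Cg u (k * w * k⁻¹) w at h3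
  rw [hkw] at h3
  rcases h3 with e | e
  · exact hi.v_ne (by simpa using e)
  · exact hi.uv.symm (mul_left_cancel e)

theorem card_bb (hE : Pl V z E) (h : Ru V z) {u v : G} (hu : u ∈ E) (hv : v ∈ E) (hu1 : u ≠ 1)
    (hv1 : v ≠ 1) (huv : u ≠ v) : Nat.card (bb V u v) = 16 := by
  obtain ⟨w, hi⟩ := hE.exists_third h hu hv hu1 hv1 huv
  have hup := hE.pt h hu hu1
  have hvp := hE.pt h hv hv1
  obtain ⟨ρu, hρu⟩ := h.loc_pt hup
  obtain ⟨ρ, hρ⟩ := h.loc_pt hvp
  have h32 : Nat.card (ws V u) = 32 := hρu.card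
  have h8 := hE.card h
  have hle := hE.le_bb h hu hv hu1 hv1
  have h1 : Nat.card (bb V u v) ∣ 32 := by rw [← h32]; exact card_dvd_of_le inf_le_left
  have h2 : 8 ∣ Nat.card (bb V u v) := by rw [← h8]; exact card_dvd_of_le hle
  have h3 : Nat.card (bb V u v) ≠ 32 := by
    intro e
    have e2 : bb V u v = ws V u := Subgroup.eq_of_le_of_card_ge inf_le_left (by rw [e, h32])
    obtain ⟨b, hb, hne⟩ := h.exists_act hvp hρ (hE.le_ws h hv hv1 hu) hu1 huv
    apply hne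
    rw [← mem_kq_iff hρ]
    rw [← e2] at hb
    exact hb.2
  have h4 : Nat.card (bb V u v) ≠ 8 := by
    intro e
    have e2 : E = bb V u v := Subgroup.eq_of_le_of_card_ge hle (by rw [e, h8])
    obtain ⟨k, hk, hku, hkw⟩ := hE.exists_trv h hi
    have hkv : k * v = v * k := mem_centralizer_singleton_iff.mp (kq_le V v hk)
    obtain ⟨g, hg, hgE⟩ := hE.act_quot h hi hku hkv hkw
    apply hgE
    rw [e2]
    refine ⟨mul_mem (h.norm hup hku hg) hg, ?_⟩
    have hgv : g * v = v * g := h.comm hup hg (hE.le_ws h hu hu1 hv)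
    have h5 := h.kq_conj hvp (c := g) hgv (inv_mem hk)
    rw [h.inv_ws hup hg] at h5
    have e3 : k * g * k⁻¹ * g = k * (g * k⁻¹ * g) := by group
    rw [e3]; exact mul_mem hk h5
  have h6 : Nat.card (bb V u v) ≤ 32 := Nat.le_of_dvd (by norm_num) h1
  interval_cases (Nat.card (bb V u v)) <;> omega

theorem bb_same (hE : Pl V z E) (h : Ru V z) {u v : G} (hu : u ∈ E) (hv : v ∈ E) (hu1 : u ≠ 1)
    (hv1 : v ≠ 1) (huv : u ≠ v) : bb V u (u * v) = bb V u v := by
  obtain ⟨w, hi⟩ := hE.exists_third h hu hv hu1 hv1 huv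
  have hup := hE.pt h hu hu1
  have hvp := hE.pt h hv hv1
  have huv1 : u * v ≠ 1 := fun e => huv (by rw [mul_eq_one_iff_eq_inv.mp e, hE.inv h hv])
  have huvu : u ≠ u * v := fun e => hv1 (by simpa using e.symm)
  have huvE := mul_mem hu hv
  obtain ⟨ρu, hρu⟩ := h.loc_pt hup
  obtain ⟨k, hk, hku, hkw⟩ := hE.exists_trv h hi
  have hkv : k * v = v * k := mem_centralizer_singleton_iff.mp (kq_le V v hk)
  obtain ⟨g, hg, hgE⟩ := hE.act_quot h hi hku hkv hkw
  have hgv : g * v = v * g := h.comm hup hg (hE.le_ws h hu hu1 hv)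
  have c1 := hE.card_bb h hu hv hu1 hv1 huv
  have c2 := hE.card_bb h hu huvE hu1 huv1 huvu
  have c0 : Nat.card (ws V u) = 32 := hρu.card
  -- `t = [k, g]` in both
  have ht1 : k * g * k⁻¹ * g ∈ bb V u v := by
    refine ⟨mul_mem (h.norm hup hku hg) hg, ?_⟩
    have h5 := h.kq_conj hvp (c := g) hgv (inv_mem hk)
    rw [h.inv_ws hup hg] at h5
    have e3 : k * g * k⁻¹ * g = k * (g * k⁻¹ * g) := by group
    rw [e3]; exact mul_mem hk h5
  have hcj : cj k (bb V u (u * v)) = bb V u (u * v) := by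
    rw [cj_bb]
    have e1 : k * u * k⁻¹ = u := by rw [hku, mul_inv_cancel_right]
    have e2 : k * v * k⁻¹ = v := by rw [hkv, mul_inv_cancel_right]
    have e3 : k * (u * v) * k⁻¹ = u * v := by
      calc k * (u * v) * k⁻¹ = (k * u * k⁻¹) * (k * v * k⁻¹) := by group
        _ = u * v := by rw [e1, e2]
    rw [e1, e3]
  have hkm : ∀ {t : G}, k * t * k⁻¹ ∈ bb V u (u * v) ↔ t ∈ bb V u (u * v) := by
    intro t
    conv_lhs => rw [← hcj]
    rw [mem_cj]
    have : k⁻¹ * (k * t * k⁻¹) * k = t := by group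
    rw [this]
  have ht2 : k * g * k⁻¹ * g ∈ bb V u (u * v) := by
    by_cases hgb : g ∈ bb V u (u * v)
    · exact mul_mem (hkm.mpr hgb) hgb
    · exact mul_mem_of_two (bb_le V _ _) (by rw [c0, c2]) (by rw [c2]; norm_num)
        (h.norm hup hku hg) hg (fun e => hgb (hkm.mp e)) hgb
  -- the intersection
  have hle : E ≤ bb V u v ⊓ bb V u (u * v) :=
    le_inf (hE.le_bb h hu hv hu1 hv1) (hE.le_bb h hu huvE hu1 huv1)
  have d1 : Nat.card (bb V u v ⊓ bb V u (u * v) : Subgroup G) ∣ 16 := by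
    rw [← c1]; exact card_dvd_of_le inf_le_left
  have d2 : Nat.card E ∣ Nat.card (bb V u v ⊓ bb V u (u * v) : Subgroup G) := card_dvd_of_le hle
  rw [hE.card h] at d2
  have d3 : Nat.card (bb V u v ⊓ bb V u (u * v) : Subgroup G) ≠ 8 := by
    intro e
    have e2 : E = bb V u v ⊓ bb V u (u * v) := Subgroup.eq_of_le_of_card_ge hle (by rw [e, hE.card h])
    exact hgE (by rw [e2]; exact ⟨ht1, ht2⟩)
  have d4 : Nat.card (bb V u v ⊓ bb V u (u * v) : Subgroup G) = 16 := by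
    have d5 := Nat.le_of_dvd (by norm_num) d1
    interval_cases (Nat.card (bb V u v ⊓ bb V u (u * v) : Subgroup G)) <;> omega
  have e1 : bb V u v ⊓ bb V u (u * v) = bb V u v :=
    Subgroup.eq_of_le_of_card_ge inf_le_left (by rw [d4, c1])
  have e2 : bb V u v ⊓ bb V u (u * v) = bb V u (u * v) :=
    Subgroup.eq_of_le_of_card_ge inf_le_right (by rw [d4, c2])
  rw [← e2, e1]

/-- the three subgroups `bb V u v` (`v ∈ E`) are different -/
theorem bb_inf (hE : Pl V z E) (h : Ru V z) {u v w : G} (hi : Ind E u v w) {g : G}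
    (hg1 : g ∈ bb V u v) (hg2 : g ∈ bb V u w) : g ∈ E := by
  have hup := hE.pt h hi.u_mem hi.u_ne
  obtain ⟨ρ, hρ⟩ := h.loc_pt hup
  have c0 : Nat.card (ws V u) = 32 := hρ.card
  have c1 := hE.card_bb h hi.u_mem hi.v_mem hi.u_ne hi.v_ne hi.uv
  have c2 := hE.card_bb h hi.u_mem hi.w_mem hi.u_ne hi.w_ne hi.uw
  obtain ⟨c, hcu, hc3, hcv, hcw, hcE⟩ := hE.exists_rot h hi
  have hcu' : c * u * c⁻¹ = u := by rw [hcu, mul_inv_cancel_right]
  have hcj : cj c (bb V u v) = bb V u w := by rw [cj_bb, hcu', hcv]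
  have hne : bb V u v ≠ bb V u w := by
    intro e
    have hkm : ∀ {t : G}, c * t * c⁻¹ ∈ bb V u v ↔ t ∈ bb V u v := by
      intro t
      conv_lhs => rw [e, ← hcj]
      rw [mem_cj]
      have : c⁻¹ * (c * t * c⁻¹) * c = t := by group
      rw [this]
    obtain ⟨t, ht, htb⟩ : ∃ t ∈ ws V u, t ∉ bb V u v := by
      by_contra hcon
      push Not at hcon
      have : Nat.card (ws V u) ≤ Nat.card (bb V u v) := Subgroup.card_le_of_le hcon
      rw [c0, c1] at this; omega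
    have h1 : c * t * c⁻¹ ∉ bb V u v := fun e => htb (hkm.mp e)
    have h2 : c * (c * t * c⁻¹) * c⁻¹ ∉ bb V u v := fun e => h1 (hkm.mp e)
    have h3 : t * (c * t * c⁻¹) ∈ bb V u v :=
      mul_mem_of_two (bb_le V _ _) (by rw [c0, c1]) (by rw [c1]; norm_num)
        ht (h.norm hup hcu ht) htb h1
    have hcC : c ∈ centralizer ({u} : Set G) := mem_centralizer_singleton_iff.mpr hcu
    have hO : O3 (ρ ⟨c, hcC⟩) := by
      constructor
      · rw [← map_mul, ← map_mul]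
        have : (⟨c, hcC⟩ * ⟨c, hcC⟩ * ⟨c, hcC⟩ : centralizer ({u} : Set G)) = 1 := by
          apply Subtype.ext
          change c * c * c = 1
          rw [← hc3]; simp only [pow_succ, pow_zero, one_mul]
        rw [this, map_one]
      · intro e1
        have h4 := (hρ.ker _).mp e1 v (hE.le_ws h hi.u_mem hi.u_ne hi.v_mem)
        change Cg u (c * v * c⁻¹) v at h4
        rw [hcv] at h4
        rcases h4 with e4 | e4
        · exact hi.vw e4.symm
        · apply hi.uvw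
          rw [e4, hE.comm h hi.v_mem hi.u_mem]
    have h5 : t * (c * t * c⁻¹) * (c * (c * t * c⁻¹) * c⁻¹) ∈ bb V u v := by
      have huE : u ∈ bb V u v := hE.le_bb h hi.u_mem hi.v_mem hi.u_ne hi.v_ne hi.u_mem
      rcases hρ.three_sum hO ht with e5 | e5
      · change t * (c * t * c⁻¹) * (c * (c * t * c⁻¹) * c⁻¹) = 1 at e5
        rw [e5]; exact one_mem _
      · change t * (c * t * c⁻¹) * (c * (c * t * c⁻¹) * c⁻¹) = u at e5
        rw [e5]; exact huE
    exact h2 ((Subgroup.mul_mem_cancel_left _ h3).mp h5)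
  have hle : E ≤ bb V u v ⊓ bb V u w :=
    le_inf (hE.le_bb h hi.u_mem hi.v_mem hi.u_ne hi.v_ne) (hE.le_bb h hi.u_mem hi.w_mem hi.u_ne hi.w_ne)
  have d1 : Nat.card (bb V u v ⊓ bb V u w : Subgroup G) ∣ 16 := by
    rw [← c1]; exact card_dvd_of_le inf_le_left
  have d2 : Nat.card E ∣ Nat.card (bb V u v ⊓ bb V u w : Subgroup G) := card_dvd_of_le hle
  rw [hE.card h] at d2
  have d3 : Nat.card (bb V u v ⊓ bb V u w : Subgroup G) ≠ 16 := by
    intro e
    apply hne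
    have e1 : bb V u v ⊓ bb V u w = bb V u v :=
      Subgroup.eq_of_le_of_card_ge inf_le_left (by rw [e, c1])
    have e2 : bb V u v ⊓ bb V u w = bb V u w :=
      Subgroup.eq_of_le_of_card_ge inf_le_right (by rw [e, c2])
    rw [← e2, e1]
  have d4 : Nat.card (bb V u v ⊓ bb V u w : Subgroup G) = 8 := by
    have d5 := Nat.le_of_dvd (by norm_num) d1
    interval_cases (Nat.card (bb V u v ⊓ bb V u w : Subgroup G)) <;> omega
  have e3 : E = bb V u v ⊓ bb V u w := Subgroup.eq_of_le_of_card_ge hle (by rw [d4, hE.card h])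
  rw [e3]; exact ⟨hg1, hg2⟩

/-- `[bb V u v, bb V v u] = 1` -/
theorem bb_comm (hE : Pl V z E) (h : Ru V z) {u v : G} (hu : u ∈ E) (hv : v ∈ E) (hu1 : u ≠ 1)
    (hv1 : v ≠ 1) (huv : u ≠ v) {a b : G} (ha : a ∈ bb V u v) (hb : b ∈ bb V v u) : a * b = b * a := by
  have hup := hE.pt h hu hu1
  have hvp := hE.pt h hv hv1
  rcases h.kq_act hvp ha.2 hb.1 with e | e
  · exact mul_inv_eq_iff_eq_mul.mp e
  rcases h.kq_act hup hb.2 ha.1 with e' | e'
  · exact (mul_inv_eq_iff_eq_mul.mp e').symm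
  · exfalso
    apply huv
    have e1 : a * b * a⁻¹ * b⁻¹ = v := by
      rw [e, h.comm hvp hb.1 (h.self_mem hvp), mul_inv_cancel_right]
    have e2 : b * a * b⁻¹ * a⁻¹ = u := by
      rw [e', h.comm hup ha.1 (h.self_mem hup), mul_inv_cancel_right]
    have e3 : b * a * b⁻¹ * a⁻¹ = (a * b * a⁻¹ * b⁻¹)⁻¹ := by group
    rw [e1, e2] at e3
    rw [e3, hE.inv h hv]

/-- elements of `bb V v u` outside `E` act on `ws V u` as a transvection with axis `bb V u v` -/
theorem bb_act (hE : Pl V z E) (h : Ru V z) {u v : G} (hu : u ∈ E) (hv : v ∈ E) (hu1 : u ≠ 1)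
    (hv1 : v ≠ 1) (huv : u ≠ v) {a b : G} (ha : a ∈ ws V u) (ha' : a ∉ bb V u v) (hb : b ∈ bb V v u)
    (hbE : b ∉ E) : b * a * b⁻¹ = a * u := by
  have hup := hE.pt h hu hu1
  have hvp := hE.pt h hv hv1
  rcases h.kq_act hup hb.2 ha with e | e
  · exfalso
    obtain ⟨ρ, hρ⟩ := h.loc_pt hvp
    have huv' : u ∈ ws V v := hE.le_ws h hv hv1 hu
    have hne : ρ (h.el' hvp huv' hu1 ha) ≠ 1 := by
      intro e1
      exact ha' ⟨ha, (mem_kq_iff hρ (c := h.el' hvp huv' hu1 ha)).mpr e1⟩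
    have h1 := h.cx_eq_inf hvp hρ huv' hu1 ha hne
    rw [← hE.eq_inf h hv hv1 hu hu1 huv.symm] at h1
    apply hbE
    rw [← h1, hρ.mem_cx]
    refine ⟨hb.1, Or.inl ?_⟩
    change a * b * a⁻¹ = b
    rw [← mul_inv_eq_iff_eq_mul.mp e, mul_inv_cancel_right]
  · exact e

end Pl

end Cfsg.Agent.Omega.RuShape.Base
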