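import Mathlib
import Cfsg.Agent.Omega.RuShape.Flag

/-!
# The Ru configuration: the product over a line (after helper794's `OddCyclic.GamTri`)

`Fl V E u v g`: `g ∈ bb V u v` outside `E`; `Tri V E u v g₁ g₂ g₃`: one such element for each point of the line
`⟨u, v⟩`. `Tri.cent`: the product centralises all `ws V x`, `x ∈ E`; `Tri.eq_mod`: modulo `E` it does not depend on the
line (lines through a common point).
-/

set_option autoImplicit false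
set_option linter.dupNamespace false
set_option linter.unusedSectionVars false

namespace Cfsg.Agent.Omega.RuShape.Base

open Subgroup Cfsg Cfsg.Agent.ZN Cfsg.Agent.MinSimple.Geo Cfsg.Agent.MinSimple.OddBase
open Cfsg.Agent.OddCyclic Cfsg.Agent.OddCyclic.GamPerm Cfsg.Agent.OddCyclic.GamMod Cfsg.Agent.OddCyclic.GamLoc
open Cfsg.Agent.OddCyclic.GamBase (cc cc_surj cg_conj loc_conj ws_cj' lines_cj')
open Cfsg.Agent.ZN.Block (conj_mem_of_normalizer conj_mem_of_normalizer' le_normalizer_of_forall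
  mem_normalizer_of)

universe u

variable {G : Type u} [Group G]

/-- `g ∈ bb V u v` outside `E` -/
structure Fl (V E : Subgroup G) (u v g : G) : Prop where
  mem : g ∈ bb V u v
  notMem : g ∉ E

/-- two points of a plane -/
structure Two (E : Subgroup G) (u v : G) : Prop where
  u_mem : u ∈ E
  v_mem : v ∈ E
  u_ne : u ≠ 1
  v_ne : v ≠ 1
  uv : u ≠ v

theorem Ind.two {E : Subgroup G} {u v w : G} (h : Ind E u v w) : Two E u v :=
  ⟨h.u_mem, h.v_mem, h.u_ne, h.v_ne, h.uv⟩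

theorem Two.swap {E : Subgroup G} {u v : G} (h : Two E u v) : Two E v u :=
  ⟨h.v_mem, h.u_mem, h.v_ne, h.u_ne, h.uv.symm⟩

theorem Fl.conj {V E : Subgroup G} {u v g : G} (h : Fl V E u v g) {c : G} (hc : cj c E = E) :
    Fl V E (c * u * c⁻¹) (c * v * c⁻¹) (c * g * c⁻¹) := by
  refine ⟨?_, ?_⟩
  · rw [← cj_bb]; exact conj_mem_cj h.mem
  · intro h1
    apply h.notMem
    rw [← hc, mem_cj] at h1
    have : c⁻¹ * (c * g * c⁻¹) * c = g := by group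
    rwa [this] at h1

namespace Pl

variable {V : Subgroup G} {z : G} [Finite G] {E : Subgroup G}

theorem two_mul (hE : Pl V z E) (h : Ru V z) {u v : G} (t : Two E u v) : Two E u (u * v) := by
  refine ⟨t.u_mem, mul_mem t.u_mem t.v_mem, t.u_ne, ?_, ?_⟩
  · intro e; exact t.uv (by rw [mul_eq_one_iff_eq_inv.mp e, hE.inv h t.v_mem])
  · intro e; exact t.v_ne (by simpa using e.symm)

theorem fl_comm_E (hE : Pl V z E) (h : Ru V z) {u v : G} (t : Two E u v) {g : G} (hg : Fl V E u v g)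
    {e : G} (he : e ∈ E) : g * e = e * g := hE.ws_comm h t.u_mem t.u_ne hg.mem.1 he

theorem fl_sq (hE : Pl V z E) (h : Ru V z) {u v : G} (t : Two E u v) {g : G} (hg : Fl V E u v g) :
    g * g = 1 := h.sq_ws (hE.pt h t.u_mem t.u_ne) hg.mem.1

theorem exists_fl (hE : Pl V z E) (h : Ru V z) {u v : G} (t : Two E u v) : ∃ g, Fl V E u v g := by
  by_contra hcon
  push Not at hcon
  have h1 : bb V u v ≤ E := fun g hg => by
    by_contra hgE
    exact hcon g ⟨hg, hgE⟩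
  have h2 := Subgroup.card_le_of_le h1
  rw [hE.card h, hE.card_bb h t.u_mem t.v_mem t.u_ne t.v_ne t.uv] at h2
  omega

theorem fl_eq (hE : Pl V z E) (h : Ru V z) {u v : G} (t : Two E u v) {g g' : G} (hg : Fl V E u v g)
    (hg' : Fl V E u v g') : ∃ e ∈ E, g' = g * e := by
  refine ⟨g * g', ?_, ?_⟩
  · exact mul_mem_of_two (hE.le_bb h t.u_mem t.v_mem t.u_ne t.v_ne)
      (by rw [hE.card h, hE.card_bb h t.u_mem t.v_mem t.u_ne t.v_ne t.uv]) (by rw [hE.card h]; norm_num)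
      hg.mem hg'.mem hg.notMem hg'.notMem
  · rw [← mul_assoc, hE.fl_sq h t hg, one_mul]

theorem fl_same (hE : Pl V z E) (h : Ru V z) {u v : G} (t : Two E u v) {g : G} :
    Fl V E u (u * v) g ↔ Fl V E u v g := by
  constructor
  · rintro ⟨h1, h2⟩
    exact ⟨by rwa [hE.bb_same h t.u_mem t.v_mem t.u_ne t.v_ne t.uv] at h1, h2⟩
  · rintro ⟨h1, h2⟩
    exact ⟨by rwa [hE.bb_same h t.u_mem t.v_mem t.u_ne t.v_ne t.uv], h2⟩

/-- the action of `Fl V E v u g` on `ws V u` -/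
theorem fl_act (hE : Pl V z E) (h : Ru V z) {u v : G} (t : Two E u v) {g a : G} (hg : Fl V E v u g)
    (ha : a ∈ ws V u) : (a ∈ bb V u v ∧ g * a = a * g) ∨ (a ∉ bb V u v ∧ g * a * g⁻¹ = a * u) := by
  by_cases h1 : a ∈ bb V u v
  · exact Or.inl ⟨h1, (hE.bb_comm h t.u_mem t.v_mem t.u_ne t.v_ne t.uv h1 hg.mem).symm⟩
  · exact Or.inr ⟨h1, hE.bb_act h t.u_mem t.v_mem t.u_ne t.v_ne t.uv ha h1 hg.mem hg.notMem⟩

/-- two of them on the same line act in the same way on the third -/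
theorem fl_act_two (hE : Pl V z E) (h : Ru V z) {u v : G} (t : Two E u v) {g g' a : G}
    (hg : Fl V E v u g) (hg' : Fl V E (u * v) u g') (ha : a ∈ ws V u) : g * g' * a = a * (g * g') := by
  have hup := hE.pt h t.u_mem t.u_ne
  have t' := hE.two_mul h t
  have e1 : bb V u (u * v) = bb V u v := hE.bb_same h t.u_mem t.v_mem t.u_ne t.v_ne t.uv
  have h1 := hE.fl_act h t hg ha
  have h2 := hE.fl_act h t' hg' ha
  rw [e1] at h2
  rcases h1 with ⟨h1, e2⟩ | ⟨h1, e2⟩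
  · rcases h2 with ⟨h2, e3⟩ | ⟨h2, e3⟩
    · rw [mul_assoc, e3, ← mul_assoc, e2, mul_assoc]
    · exact absurd h1 h2
  · rcases h2 with ⟨h2, e3⟩ | ⟨h2, e3⟩
    · exact absurd h2 h1
    · apply mul_inv_eq_iff_eq_mul.mp
      have hgu : g * u * g⁻¹ = u := by
        have hvp := hE.pt h t.v_mem t.v_ne
        rw [h.comm hvp hg.mem.1 (hE.le_ws h t.v_mem t.v_ne t.u_mem), mul_inv_cancel_right]
      calc g * g' * a * (g * g')⁻¹ = g * (g' * a * g'⁻¹) * g⁻¹ := by group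
        _ = (g * a * g⁻¹) * (g * u * g⁻¹) := by rw [e3]; group
        _ = a := by rw [e2, hgu, mul_assoc, h.xx hup, mul_one]

end Pl

/-- one element for each point of a line -/
structure Tri (V E : Subgroup G) (u v g₁ g₂ g₃ : G) : Prop where
  f1 : Fl V E u v g₁
  f2 : Fl V E v u g₂
  f3 : Fl V E (u * v) u g₃

namespace Pl

variable {V : Subgroup G} {z : G} [Finite G] {E : Subgroup G}

theorem exists_tri (hE : Pl V z E) (h : Ru V z) {u v : G} (t : Two E u v) :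
    ∃ g₁ g₂ g₃, Tri V E u v g₁ g₂ g₃ := by
  obtain ⟨g₁, h1⟩ := hE.exists_fl h t
  obtain ⟨g₂, h2⟩ := hE.exists_fl h t.swap
  obtain ⟨g₃, h3⟩ := hE.exists_fl h (hE.two_mul h t).swap
  exact ⟨g₁, g₂, g₃, h1, h2, h3⟩

/-- the third point with the second -/
theorem fl_third (hE : Pl V z E) (h : Ru V z) {u v : G} (t : Two E u v) {g : G} :
    Fl V E (u * v) u g ↔ Fl V E (u * v) v g := by
  have t' := (hE.two_mul h t).swap
  have e : u * v * u = v := by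
    rw [hE.comm h t.u_mem t.v_mem, mul_assoc, hE.sq h t.u_mem, mul_one]
  rw [← hE.fl_same h t', e]

theorem tri_comm (hE : Pl V z E) (h : Ru V z) {u v : G} (t : Two E u v) {g₁ g₂ g₃ : G}
    (T : Tri V E u v g₁ g₂ g₃) : g₁ * g₂ = g₂ * g₁ ∧ g₁ * g₃ = g₃ * g₁ ∧ g₂ * g₃ = g₃ * g₂ := by
  refine ⟨?_, ?_, ?_⟩
  · exact hE.bb_comm h t.u_mem t.v_mem t.u_ne t.v_ne t.uv T.f1.mem T.f2.mem
  · have t' := hE.two_mul h t
    exact hE.bb_comm h t'.u_mem t'.v_mem t'.u_ne t'.v_ne t'.uv ((hE.fl_same h t).mpr T.f1).mem T.f3.mem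
  · have t' := hE.two_mul h t.swap
    have e : v * u = u * v := hE.comm h t.v_mem t.u_mem
    rw [e] at t'
    refine hE.bb_comm h t'.u_mem t'.v_mem t'.u_ne t'.v_ne t'.uv ?_ ((hE.fl_third h t).mp T.f3).mem
    rw [← e]
    exact ((hE.fl_same h t.swap).mpr T.f2).mem

/-- the action of the product on the three points of the line -/
theorem tri_cent_line (hE : Pl V z E) (h : Ru V z) {u v : G} (t : Two E u v) {g₁ g₂ g₃ : G}
    (T : Tri V E u v g₁ g₂ g₃) {x : G} (hx : x = u ∨ x = v ∨ x = u * v) {a : G} (ha : a ∈ ws V x) :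
    g₁ * g₂ * g₃ * a = a * (g₁ * g₂ * g₃) := by
  have hup := hE.pt h t.u_mem t.u_ne
  have hvp := hE.pt h t.v_mem t.v_ne
  obtain ⟨c1, c2, c3⟩ := hE.tri_comm h t T
  have evu : v * u = u * v := hE.comm h t.v_mem t.u_mem
  rcases hx with rfl | rfl | rfl
  · have h1 : g₁ * a = a * g₁ := h.comm hup T.f1.mem.1 ha
    have h2 := hE.fl_act_two h t T.f2 T.f3 ha
    calc g₁ * g₂ * g₃ * a = g₁ * (g₂ * g₃ * a) := by group
      _ = g₁ * a * (g₂ * g₃) := by rw [h2]; group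
      _ = a * (g₁ * g₂ * g₃) := by rw [h1]; group
  · have h1 : g₂ * a = a * g₂ := h.comm hvp T.f2.mem.1 ha
    have h3 := hE.fl_act_two h t.swap T.f1 (g' := g₃) (by rw [evu]; exact (hE.fl_third h t).mp T.f3) ha
    calc g₁ * g₂ * g₃ * a = g₂ * (g₁ * g₃ * a) := by rw [c1]; group
      _ = (g₂ * a) * (g₁ * g₃) := by rw [h3]; group
      _ = a * (g₂ * g₁ * g₃) := by rw [h1]; group
      _ = a * (g₁ * g₂ * g₃) := by rw [c1]
  · have t' := (hE.two_mul h t).swap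
    have hwp := hE.pt h t'.u_mem t'.u_ne
    have h1 : g₃ * a = a * g₃ := h.comm hwp T.f3.mem.1 ha
    -- base point `u v`, other points `u` and `(u v) u = v`
    have e : u * v * u = v := by
      rw [← evu, mul_assoc, hE.sq h t.u_mem, mul_one]
    have h2 : g₁ * g₂ * a = a * (g₁ * g₂) := by
      refine hE.fl_act_two h t' (g := g₁) (g' := g₂) ((hE.fl_same h t).mpr T.f1) ?_ ha
      rw [e]
      have := (hE.fl_same h t.swap).mpr T.f2
      rwa [evu] at this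
    calc g₁ * g₂ * g₃ * a = g₁ * g₂ * (g₃ * a) := by group
      _ = (g₁ * g₂ * a) * g₃ := by rw [h1]; group
      _ = a * (g₁ * g₂ * g₃) := by rw [h2]; group

/-- the rotation of a line, modulo `E` -/
theorem tri_rot (hE : Pl V z E) (h : Ru V z) {u v : G} (t : Two E u v) {g₁ g₂ g₃ : G}
    (T : Tri V E u v g₁ g₂ g₃) {c : G} (hc : cj c E = E) (hcu : c * u * c⁻¹ = v)
    (hcv : c * v * c⁻¹ = u * v) :
    ∃ e₁ ∈ E, ∃ e₂ ∈ E, ∃ e₃ ∈ E, c * g₁ * c⁻¹ = g₂ * e₁ ∧ c * g₂ * c⁻¹ = g₃ * e₂ ∧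
      c * g₃ * c⁻¹ = g₁ * e₃ := by
  have evu : v * u = u * v := hE.comm h t.v_mem t.u_mem
  have hcw : c * (u * v) * c⁻¹ = u := by
    calc c * (u * v) * c⁻¹ = (c * u * c⁻¹) * (c * v * c⁻¹) := by group
      _ = v * (u * v) := by rw [hcu, hcv]
      _ = u := by rw [← evu, ← mul_assoc, hE.sq h t.v_mem, one_mul]
  have h1 : Fl V E v u (c * g₁ * c⁻¹) := by
    have := T.f1.conj hc
    rw [hcu, hcv, ← evu] at this
    exact (hE.fl_same h t.swap).mp this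
  have h2 : Fl V E (u * v) u (c * g₂ * c⁻¹) := by
    have := T.f2.conj hc
    rw [hcu, hcv] at this
    exact (hE.fl_third h t).mpr this
  have h3 : Fl V E u v (c * g₃ * c⁻¹) := by
    have := T.f3.conj hc
    rwa [hcu, hcw] at this
  obtain ⟨e₁, he₁, q1⟩ := hE.fl_eq h t.swap T.f2 h1
  obtain ⟨e₂, he₂, q2⟩ := hE.fl_eq h (hE.two_mul h t).swap T.f3 h2
  obtain ⟨e₃, he₃, q3⟩ := hE.fl_eq h t T.f1 h3
  exact ⟨e₁, he₁, e₂, he₂, e₃, he₃, q1, q2, q3⟩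

/-- elements of order three -/
theorem o3_of_rot (_ : Ru V z) {x p q c : G} (_ : Pt z x)
    {ρ : centralizer ({x} : Set G) →* S5} (hρ : Loc (ws V x) x ρ) (hp : p ∈ ws V x)
    (hc : c ∈ centralizer ({x} : Set G)) (hc3 : c ^ 3 = 1) (hcp : c * p * c⁻¹ = q)
    (hpq : p ≠ q) (hpqx : p * x ≠ q) : O3 (ρ ⟨c, hc⟩) := by
  constructor
  · rw [← map_mul, ← map_mul]
    have : (⟨c, hc⟩ * ⟨c, hc⟩ * ⟨c, hc⟩ : centralizer ({x} : Set G)) = 1 := by
      apply Subtype.ext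
      change c * c * c = 1
      rw [← hc3]; simp only [pow_succ, pow_zero, one_mul]
    rw [this, map_one]
  · intro e1
    have h4 := (hρ.ker _).mp e1 p hp
    change Cg x (c * p * c⁻¹) p at h4
    rw [hcp] at h4
    rcases h4 with e4 | e4
    · exact hpq e4.symm
    · exact hpqx e4.symm

/-- the action of the product on the points outside the line -/
theorem tri_cent_out (hE : Pl V z E) (h : Ru V z) {u v x : G} (hi : Ind E x u v) {g₁ g₂ g₃ : G}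
    (T : Tri V E u v g₁ g₂ g₃) {a : G} (ha : a ∈ ws V x) :
    g₁ * g₂ * g₃ * a = a * (g₁ * g₂ * g₃) := by
  have hi' := hE.ind_rot h hi
  have t := hi'.two
  have hxp := hE.pt h hi.u_mem hi.u_ne
  have hup := hE.pt h t.u_mem t.u_ne
  have hvp := hE.pt h t.v_mem t.v_ne
  have evu : v * u = u * v := hE.comm h t.v_mem t.u_mem
  obtain ⟨c1, c2, c3⟩ := hE.tri_comm h t T
  obtain ⟨ρ, hρ⟩ := h.loc_pt hxp
  obtain ⟨i, hEi⟩ := hE.exists_pg h hi.u_mem hi.u_ne hρ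
  obtain ⟨c, hcx, hc3, hcu, hcv, hcE⟩ := hE.exists_rot h hi
  obtain ⟨e₁, he₁, e₂, he₂, e₃, he₃, q1, q2, q3⟩ := hE.tri_rot h t T hcE hcu hcv
  have hcC : c ∈ centralizer ({x} : Set G) := mem_centralizer_singleton_iff.mpr hcx
  have huW := hE.le_ws h hi.u_mem hi.u_ne t.u_mem
  have hO : O3 (ρ ⟨c, hcC⟩) := o3_of_rot h hxp hρ huW hcC hc3 hcu t.uv (by
    rw [hE.comm h t.u_mem hi.u_mem]; exact hi.uvw)
  have hci : ρ ⟨c, hcC⟩ i = i := by
    by_contra hne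
    have h1 := hρ.conj_mem_pg (w := u) (i := i) (by rw [← hEi]; exact t.u_mem) ⟨c, hcC⟩
    change c * u * c⁻¹ ∈ _ at h1
    rw [hcu] at h1
    rcases hρ.pg_inf hne h1 (by rw [← hEi]; exact t.v_mem) with e | e
    · exact t.v_ne e
    · exact hi.uw e.symm
  have hgC : ∀ {p q g : G}, Two E p q → Fl V E p q g → g ∈ centralizer ({x} : Set G) :=
    fun {p q g} t hg => mem_centralizer_singleton_iff.mpr (hE.fl_comm_E h t hg hi.u_mem)
  have t3 := (hE.two_mul h t).swap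
  have hg1 := hgC t T.f1
  have hg2 := hgC t.swap T.f2
  have hg3 := hgC t3 T.f3
  have heC : ∀ {e : G}, e ∈ E → e ∈ centralizer ({x} : Set G) := fun {e} he =>
    mem_centralizer_singleton_iff.mpr (hE.comm h he hi.u_mem)
  have hρE : ∀ {e : G} (he : e ∈ E), ρ ⟨e, heC he⟩ = 1 := by
    intro e he
    rw [hρ.ker]
    intro w hw
    left
    change e * w * e⁻¹ = w
    rw [hρ.comm e (hE.le_ws h hi.u_mem hi.u_ne he) w hw, mul_inv_cancel_right]
  have hk4 : K4 i (ρ ⟨g₁, hg1⟩) := hρ.k4_of_pg fun w hw => Or.inl (by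
    change g₁ * w * g₁⁻¹ = w
    rw [hE.fl_comm_E h t T.f1 (by rw [hEi]; exact hw), mul_inv_cancel_right])
  have hk1 : ρ ⟨g₁, hg1⟩ ≠ 1 := by
    intro e
    have h1 : g₁ ∈ bb V u x := ⟨T.f1.mem.1, (mem_kq_iff hρ (c := ⟨g₁, hg1⟩)).mpr e⟩
    exact T.f1.notMem (hE.bb_inf h hi' T.f1.mem h1)
  have r2 : ρ ⟨g₂, hg2⟩ = ρ ⟨c, hcC⟩ * ρ ⟨g₁, hg1⟩ * (ρ ⟨c, hcC⟩)⁻¹ := by
    have h1 : (⟨g₂, hg2⟩ * ⟨e₁, heC he₁⟩ : centralizer ({x} : Set G)) =
        ⟨c, hcC⟩ * ⟨g₁, hg1⟩ * ⟨c, hcC⟩⁻¹ := Subtype.ext q1.symm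
    have h2 := congrArg ρ h1
    rw [map_mul, hρE he₁, mul_one, map_mul, map_mul, map_inv] at h2
    exact h2
  have r3 : ρ ⟨g₃, hg3⟩ = ρ ⟨c, hcC⟩ * ρ ⟨g₂, hg2⟩ * (ρ ⟨c, hcC⟩)⁻¹ := by
    have h1 : (⟨g₃, hg3⟩ * ⟨e₂, heC he₂⟩ : centralizer ({x} : Set G)) =
        ⟨c, hcC⟩ * ⟨g₂, hg2⟩ * ⟨c, hcC⟩⁻¹ := Subtype.ext q2.symm
    have h2 := congrArg ρ h1
    rw [map_mul, hρE he₂, mul_one, map_mul, map_mul, map_inv] at h2
    exact h2
  have hrot := k4_rot i _ hk4 hk1 _ hci hO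
  rw [← r2, ← r3] at hrot
  have hj1 : ρ (⟨g₁, hg1⟩ * ⟨g₂, hg2⟩ * ⟨g₃, hg3⟩) = 1 := by rw [map_mul, map_mul]; exact hrot
  set j : G := g₁ * g₂ * g₃ with hj
  have hjC : ((⟨g₁, hg1⟩ * ⟨g₂, hg2⟩ * ⟨g₃, hg3⟩ : centralizer ({x} : Set G)) : G) = j := rfl
  have hneg : ∀ w ∈ ws V x, j * w * j⁻¹ = w ∨ j * w * j⁻¹ = w * x := by
    intro w hw
    have := (hρ.ker _).mp hj1 w hw
    rw [hjC] at this
    exact this
  -- `c j c⁻¹ = j e`
  have hcomm1 : ∀ {e : G}, e ∈ E → g₁ * e = e * g₁ := fun he => hE.fl_comm_E h t T.f1 he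
  have hcomm2 : ∀ {e : G}, e ∈ E → g₂ * e = e * g₂ := fun he => hE.fl_comm_E h t.swap T.f2 he
  have hcomm3 : ∀ {e : G}, e ∈ E → g₃ * e = e * g₃ := fun he => hE.fl_comm_E h t3 T.f3 he
  have hcj : c * j * c⁻¹ = j * (e₁ * e₂ * e₃) := by
    have h1 : c * j * c⁻¹ = (c * g₁ * c⁻¹) * (c * g₂ * c⁻¹) * (c * g₃ * c⁻¹) := by rw [hj]; group
    rw [h1, q1, q2, q3]
    calc g₂ * e₁ * (g₃ * e₂) * (g₁ * e₃) = g₂ * (e₁ * g₃) * (e₂ * g₁) * e₃ := by group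
      _ = g₂ * (g₃ * e₁) * (g₁ * e₂) * e₃ := by rw [← hcomm3 he₁, ← hcomm1 he₂]
      _ = g₂ * g₃ * (e₁ * g₁) * e₂ * e₃ := by group
      _ = g₂ * g₃ * (g₁ * e₁) * e₂ * e₃ := by rw [← hcomm1 he₁]
      _ = g₂ * (g₃ * g₁) * e₁ * e₂ * e₃ := by group
      _ = (g₂ * g₁) * g₃ * e₁ * e₂ * e₃ := by rw [← c2]; group
      _ = j * (e₁ * e₂ * e₃) := by rw [← c1, hj]; group
  have heW : ∀ {e : G}, e ∈ E → ∀ w ∈ ws V x, e * w = w * e := fun {e} he w hw =>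
    hρ.comm e (hE.le_ws h hi.u_mem hi.u_ne he) w hw
  have hstep : ∀ w ∈ ws V x, j * w * j⁻¹ = w * x → j * (c * w * c⁻¹) * j⁻¹ = c * w * c⁻¹ * x := by
    intro w hw hwx
    have hcw := h.norm hxp hcx hw
    have he' : e₁ * e₂ * e₃ ∈ E := mul_mem (mul_mem he₁ he₂) he₃
    have h1 : c * (j * w * j⁻¹) * c⁻¹ = j * (c * w * c⁻¹) * j⁻¹ := by
      calc c * (j * w * j⁻¹) * c⁻¹ = (c * j * c⁻¹) * (c * w * c⁻¹) * (c * j * c⁻¹)⁻¹ := by group
        _ = j * ((e₁ * e₂ * e₃) * (c * w * c⁻¹)) * (e₁ * e₂ * e₃)⁻¹ * j⁻¹ := by rw [hcj]; group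
        _ = j * (c * w * c⁻¹) * j⁻¹ := by rw [heW he' _ hcw]; group
    have hcx' : c * x * c⁻¹ = x := by rw [hcx, mul_inv_cancel_right]
    rw [← h1, hwx]
    calc c * (w * x) * c⁻¹ = (c * w * c⁻¹) * (c * x * c⁻¹) := by group
      _ = _ := by rw [hcx']
  have hjx : j * x = x * j := by
    rw [← hjC]
    exact mem_centralizer_singleton_iff.mp
      (⟨g₁, hg1⟩ * ⟨g₂, hg2⟩ * ⟨g₃, hg3⟩ : centralizer ({x} : Set G)).2
  rcases hneg a ha with e | e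
  · exact mul_inv_eq_iff_eq_mul.mp e
  · exfalso
    have h1 := hstep a ha e
    have ha1 := h.norm hxp hcx ha
    have h2 := hstep _ ha1 h1
    have ha2 := h.norm hxp hcx ha1
    set s := a * (c * a * c⁻¹) * (c * (c * a * c⁻¹) * c⁻¹) with hs
    have hxx := hρ.xx
    have hxc : ∀ w ∈ ws V x, x * w = w * x := fun w hw => hρ.comm x hρ.x_mem w hw
    have h3 : j * s * j⁻¹ = s * x := by
      calc j * s * j⁻¹ = (j * a * j⁻¹) * (j * (c * a * c⁻¹) * j⁻¹) *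
            (j * (c * (c * a * c⁻¹) * c⁻¹) * j⁻¹) := by rw [hs]; group
        _ = (a * x) * ((c * a * c⁻¹) * x) * ((c * (c * a * c⁻¹) * c⁻¹) * x) := by rw [e, h1, h2]
        _ = a * (x * (c * a * c⁻¹)) * (x * (c * (c * a * c⁻¹) * c⁻¹)) * x := by group
        _ = a * ((c * a * c⁻¹) * x) * ((c * (c * a * c⁻¹) * c⁻¹) * x) * x := by
            rw [hxc _ ha1, hxc _ ha2]
        _ = a * (c * a * c⁻¹) * (x * (c * (c * a * c⁻¹) * c⁻¹)) * (x * x) := by group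
        _ = a * (c * a * c⁻¹) * ((c * (c * a * c⁻¹) * c⁻¹) * x) := by rw [hxc _ ha2, hxx, mul_one]
        _ = s * x := by rw [hs]; group
    have h4 : j * s * j⁻¹ = s := by
      have h5 := hρ.three_sum hO ha
      change s = 1 ∨ s = x at h5
      rcases h5 with e5 | e5
      · rw [e5]; group
      · rw [e5, hjx, mul_inv_cancel_right]
    rw [h4] at h3
    exact hρ.x_ne (by simpa using h3)

/-- the product centralises `ws V x` for all `x ∈ E` -/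
theorem tri_cent (hE : Pl V z E) (h : Ru V z) {u v x : G} (t : Two E u v) {g₁ g₂ g₃ : G}
    (T : Tri V E u v g₁ g₂ g₃) (hx : x ∈ E) (hx1 : x ≠ 1) {a : G} (ha : a ∈ ws V x) :
    g₁ * g₂ * g₃ * a = a * (g₁ * g₂ * g₃) := by
  by_cases hl : x = u ∨ x = v ∨ x = u * v
  · exact hE.tri_cent_line h t T hl ha
  · push Not at hl
    refine hE.tri_cent_out h (x := x) ⟨hx, t.u_mem, t.v_mem, hx1, t.u_ne, t.v_ne, hl.1, hl.2.1, t.uv, ?_⟩ T ha
    intro e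
    apply hl.2.2
    have : u * (x * u) = x := by
      rw [hE.comm h hx t.u_mem, ← mul_assoc, hE.sq h t.u_mem, one_mul]
    rw [← e, this]

/-- modulo `E`, the product is the same for lines through a common point -/
theorem tri_eq_mod (hE : Pl V z E) (h : Ru V z) {u v w : G} (hi : Ind E u v w) {g₁ g₂ g₃ k₁ k₂ k₃ : G}
    (T : Tri V E u v g₁ g₂ g₃) (K : Tri V E u w k₁ k₂ k₃) :
    ∃ e ∈ E, k₁ * k₂ * k₃ = g₁ * g₂ * g₃ * e := by
  have t := hi.two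
  have tw : Two E u w := ⟨hi.u_mem, hi.w_mem, hi.u_ne, hi.w_ne, hi.uw⟩
  have hup := hE.pt h t.u_mem t.u_ne
  obtain ⟨ρ, hρ⟩ := h.loc_pt hup
  obtain ⟨c, hcu, hc3, hcv, hcw, hcE⟩ := hE.exists_rot h hi
  have hcu' : c * u * c⁻¹ = u := by rw [hcu, mul_inv_cancel_right]
  have hcuv : c * (u * v) * c⁻¹ = u * w := by
    calc c * (u * v) * c⁻¹ = (c * u * c⁻¹) * (c * v * c⁻¹) := by group
      _ = u * w := by rw [hcu', hcv]
  set j : G := g₁ * g₂ * g₃ with hj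
  have hjc : ∀ x ∈ E, x ≠ 1 → ∀ a ∈ ws V x, j * a = a * j := fun x hx hx1 a ha => hE.tri_cent h t T hx hx1 ha
  -- `c j c⁻¹` agrees with the other product modulo `E`
  have h1 : Fl V E u w (c * g₁ * c⁻¹) := by
    have := T.f1.conj hcE
    rwa [hcu', hcv] at this
  have h2 : Fl V E w u (c * g₂ * c⁻¹) := by
    have := T.f2.conj hcE
    rwa [hcu', hcv] at this
  have h3 : Fl V E (u * w) u (c * g₃ * c⁻¹) := by
    have := T.f3.conj hcE
    rwa [hcu', hcuv] at this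
  obtain ⟨e₁, he₁, q1⟩ := hE.fl_eq h tw h1 K.f1
  obtain ⟨e₂, he₂, q2⟩ := hE.fl_eq h tw.swap h2 K.f2
  obtain ⟨e₃, he₃, q3⟩ := hE.fl_eq h (hE.two_mul h tw).swap h3 K.f3
  have hcomm2 : ∀ {e : G}, e ∈ E → (c * g₂ * c⁻¹) * e = e * (c * g₂ * c⁻¹) := fun he =>
    hE.fl_comm_E h tw.swap h2 he
  have hcomm3 : ∀ {e : G}, e ∈ E → (c * g₃ * c⁻¹) * e = e * (c * g₃ * c⁻¹) := fun he =>
    hE.fl_comm_E h (hE.two_mul h tw).swap h3 he
  have hkj : k₁ * k₂ * k₃ = c * j * c⁻¹ * (e₁ * e₂ * e₃) := by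
    rw [q1, q2, q3]
    calc c * g₁ * c⁻¹ * e₁ * (c * g₂ * c⁻¹ * e₂) * (c * g₃ * c⁻¹ * e₃) =
        c * g₁ * c⁻¹ * (e₁ * (c * g₂ * c⁻¹)) * (e₂ * (c * g₃ * c⁻¹)) * e₃ := by group
      _ = c * g₁ * c⁻¹ * ((c * g₂ * c⁻¹) * e₁) * ((c * g₃ * c⁻¹) * e₂) * e₃ := by
          rw [← hcomm2 he₁, ← hcomm3 he₂]
      _ = c * g₁ * c⁻¹ * (c * g₂ * c⁻¹) * (e₁ * (c * g₃ * c⁻¹)) * e₂ * e₃ := by group
      _ = c * g₁ * c⁻¹ * (c * g₂ * c⁻¹) * ((c * g₃ * c⁻¹) * e₁) * e₂ * e₃ := by rw [← hcomm3 he₁]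
      _ = c * j * c⁻¹ * (e₁ * e₂ * e₃) := by rw [hj]; group
  -- `c j c⁻¹ = t j` with `t ∈ E`
  have hw := h.cent_three hup (c := j) (hjc u t.u_mem t.u_ne) hcu hc3
  set s : G := c * j * c⁻¹ * j⁻¹ with hs
  have hsW : s ∈ ws V u := by
    have : s = (j * c * j⁻¹ * c⁻¹)⁻¹ := by rw [hs]; group
    rw [this]; exact inv_mem hw
  -- `s` centralises `ws V x` for all `x ∈ E`
  have hsc : ∀ x ∈ E, x ≠ 1 → ∀ a ∈ ws V x, s * a = a * s := by
    intro x hx hx1 a ha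
    have h4 : (c * j * c⁻¹) * a = a * (c * j * c⁻¹) := by
      have h5 : (k₁ * k₂ * k₃) * a = a * (k₁ * k₂ * k₃) := hE.tri_cent h tw K hx hx1 ha
      have h6 : (e₁ * e₂ * e₃) * a = a * (e₁ * e₂ * e₃) :=
        (hE.ws_comm h hx hx1 ha (mul_mem (mul_mem he₁ he₂) he₃)).symm
      have h7 : c * j * c⁻¹ = (k₁ * k₂ * k₃) * (e₁ * e₂ * e₃)⁻¹ := by rw [hkj]; group
      rw [h7]
      have c5 : Commute (k₁ * k₂ * k₃) a := h5
      have c6 : Commute (e₁ * e₂ * e₃) a := h6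
      exact (c5.mul_left c6.inv_left)
    have h5 := hjc x hx hx1 a ha
    have c4 : Commute (c * j * c⁻¹) a := h4
    have c5 : Commute j a := h5
    exact c4.mul_left c5.inv_left
  have hskq : ∀ x ∈ E, x ≠ 1 → s ∈ kq V x := by
    intro x hx hx1
    have hxp := hE.pt h hx hx1
    obtain ⟨ρx, hρx⟩ := h.loc_pt hxp
    have hsC : s ∈ centralizer ({x} : Set G) :=
      mem_centralizer_singleton_iff.mpr (hsc x hx hx1 x (h.self_mem hxp))
    refine (mem_kq_iff hρx (c := ⟨s, hsC⟩)).mpr ?_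
    rw [hρx.ker]
    intro a ha
    left
    change s * a * s⁻¹ = a
    rw [hsc x hx hx1 a ha, mul_inv_cancel_right]
  have hsE : s ∈ E := hE.bb_inf h hi ⟨hsW, hskq v hi.v_mem hi.v_ne⟩ ⟨hsW, hskq w hi.w_mem hi.w_ne⟩
  have hjs : j * s = s * j := hjc u t.u_mem t.u_ne s hsW
  refine ⟨s * (e₁ * e₂ * e₃), mul_mem hsE (mul_mem (mul_mem he₁ he₂) he₃), ?_⟩
  rw [hkj]
  calc c * j * c⁻¹ * (e₁ * e₂ * e₃) = (s * j) * (e₁ * e₂ * e₃) := by rw [hs]; group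
    _ = j * (s * (e₁ * e₂ * e₃)) := by rw [← hjs]; group

end Pl

end Cfsg.Agent.Omega.RuShape.Base
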