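import Mathlib
import Cfsg.Agent.OddCyclic.GamFar
import Cfsg.Agent.Omega.RuShape.Tri

/-!
# The Ru configuration: `L_x` is transitive on `W_x - ⟨x⟩`, `C_G(⟨L_x, L_y⟩) = 1`

helper881's text #12858, (2.3).

* `Pl.exists_ll_trv`: the transvections with centre `p` of a plane are induced by elements of `L_p`;
* `Ru.ll_even`: `L_x` covers `A₅`; `Ru.ll_trans`: `L_x` is transitive on `W_x - ⟨x⟩`;
* `Ru.ll_inf`: `C_G(⟨L_x, L_y⟩) = 1` for collinear points `x`, `y`.
-/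

set_option autoImplicit false
set_option linter.dupNamespace false
set_option linter.unusedSectionVars false

namespace Cfsg.Agent.Omega.RuShape.Base

open Subgroup Cfsg Cfsg.Agent.ZN Cfsg.Agent.MinSimple.Geo Cfsg.Agent.MinSimple.OddBase
open Cfsg.Agent.OddCyclic Cfsg.Agent.OddCyclic.GamPerm Cfsg.Agent.OddCyclic.GamMod Cfsg.Agent.OddCyclic.GamLoc
open Cfsg.Agent.OddCyclic.GamBase (cc cc_surj cg_conj loc_conj ws_cj' lines_cj')
open Cfsg.Agent.ZN.Block (conj_mem_of_normalizer conj_mem_of_normalizer' le_normalizer_of_forall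
  mem_normalizer_of)

universe u

variable {G : Type u} [Group G]

theorem s5_even : ∀ g : S5, Equiv.Perm.sign g = 1 → ∃ a : S5, (a = 1 ∨ O3 a) ∧ (a⁻¹ * g = 1 ∨ O3 (a⁻¹ * g)) := by
  decide +kernel

namespace Pl

variable {V : Subgroup G} {z : G} [Finite G] {E : Subgroup G}

/-- the transvections with centre `p` of a plane are induced by elements of `L_p ∩ K_p` -/
theorem exists_ll_trv (hE : Pl V z E) (h : Ru V z) {p u w : G} (hi : Ind E p u w) :
    ∃ l ∈ ll V p, l ∈ kq V p ∧ l * u * l⁻¹ = u * p ∧ l * w * l⁻¹ = w := by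
  have hp := hE.pt h hi.u_mem hi.u_ne
  obtain ⟨ρ, hρ⟩ := h.loc_pt hp
  have hle := hE.le_ws h hi.u_mem hi.u_ne
  have hi' := hE.ind_rot h hi
  obtain ⟨c, hcp, hc3, hcu, hcw, _⟩ := hE.exists_rot h hi
  obtain ⟨k, hk, hku, hkw⟩ := h.exists_hom hp hρ (hle hi.v_mem) (hle hi.w_mem) hi.v_ne hi.uv.symm hi.w_ne
    hi.uw.symm hi.vw hi'.uvw (e := p) (f := p) (Or.inr rfl) (Or.inr rfl)
  have hkp : (k : G) * p = p * k := mem_centralizer_singleton_iff.mp k.2
  have hkK : (k : G) ∈ kq V p := (mem_kq_iff hρ).mpr hk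
  have hpp := h.xx hp
  have comm : ∀ {a b : G}, a ∈ E → b ∈ E → a * b = b * a := fun ha hb => hE.comm h ha hb
  have hku2 : (k : G)⁻¹ * u * k = u * p := by
    calc (k : G)⁻¹ * u * k = (k : G)⁻¹ * (u * p * p) * k := by rw [mul_assoc u, hpp, mul_one]
      _ = (k : G)⁻¹ * ((k : G) * u * (k : G)⁻¹ * p) * k := by rw [hku]
      _ = u * ((k : G)⁻¹ * (p * k)) := by group
      _ = u * p := by rw [← hkp]; group
  have hkw2 : (k : G)⁻¹ * w * k = w * p := by
    calc (k : G)⁻¹ * w * k = (k : G)⁻¹ * (w * p * p) * k := by rw [mul_assoc w, hpp, mul_one]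
      _ = (k : G)⁻¹ * ((k : G) * w * (k : G)⁻¹ * p) * k := by rw [hkw]
      _ = w * ((k : G)⁻¹ * (p * k)) := by group
      _ = w * p := by rw [← hkp]; group
  have hcw2 : c⁻¹ * w * c = u := by rw [← hcu]; group
  have hcu2 : c⁻¹ * u * c = w * u := by
    have e1 : u = w * (u * w) := by
      rw [comm hi.v_mem hi.w_mem, ← mul_assoc, hE.sq h hi.w_mem, one_mul]
    calc c⁻¹ * u * c = c⁻¹ * (w * (u * w)) * c := by rw [← e1]
      _ = c⁻¹ * (c * u * c⁻¹ * (c * w * c⁻¹)) * c := by rw [hcu, hcw]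
      _ = u * w := by group
      _ = w * u := comm hi.v_mem hi.w_mem
  have hcp2 : c * p * c⁻¹ = p := by rw [hcp, mul_inv_cancel_right]
  have hkp2 : (k : G) * p * (k : G)⁻¹ = p := by rw [hkp, mul_inv_cancel_right]
  have hkp3 : (k : G)⁻¹ * p * (k : G) = p := by rw [mul_assoc, ← hkp, inv_mul_cancel_left]
  refine ⟨k * c * (k : G)⁻¹ * c⁻¹, ?_, ?_, ?_, ?_⟩
  · have hcL := h.three_mem_ll hp hcp hc3
    exact mul_mem (h.ll_conj hkp hcL) (inv_mem hcL)
  · have e : (k : G) * c * (k : G)⁻¹ * c⁻¹ = k * (c * (k : G)⁻¹ * c⁻¹) := by group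
    rw [e]
    exact mul_mem hkK (h.kq_conj hp hcp (inv_mem hkK))
  · calc (k : G) * c * (k : G)⁻¹ * c⁻¹ * u * ((k : G) * c * (k : G)⁻¹ * c⁻¹)⁻¹ =
        (k : G) * (c * ((k : G)⁻¹ * (c⁻¹ * u * c) * k) * c⁻¹) * (k : G)⁻¹ := by group
      _ = (k : G) * (c * (((k : G)⁻¹ * w * k) * ((k : G)⁻¹ * u * k)) * c⁻¹) * (k : G)⁻¹ := by
          rw [hcu2]; group
      _ = (k : G) * ((c * w * c⁻¹) * (c * u * c⁻¹)) * (k : G)⁻¹ := by
          rw [hkw2, hku2]
          have e1 : w * p * (u * p) = w * u := by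
            calc w * p * (u * p) = w * (p * u) * p := by group
              _ = w * u * (p * p) := by rw [comm hi.u_mem hi.v_mem]; group
              _ = w * u := by rw [hpp, mul_one]
          rw [e1]; group
      _ = (k : G) * u * (k : G)⁻¹ := by
          rw [hcw, hcu]
          have e1 : u * w * w = u := by rw [mul_assoc, hE.sq h hi.w_mem, mul_one]
          rw [e1]
      _ = u * p := hku
  · calc (k : G) * c * (k : G)⁻¹ * c⁻¹ * w * ((k : G) * c * (k : G)⁻¹ * c⁻¹)⁻¹ =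
        (k : G) * (c * ((k : G)⁻¹ * (c⁻¹ * w * c) * k) * c⁻¹) * (k : G)⁻¹ := by group
      _ = (k : G) * (c * (u * p) * c⁻¹) * (k : G)⁻¹ := by rw [hcw2, hku2]
      _ = (k : G) * ((c * u * c⁻¹) * (c * p * c⁻¹)) * (k : G)⁻¹ := by group
      _ = ((k : G) * w * (k : G)⁻¹) * ((k : G) * p * (k : G)⁻¹) := by rw [hcu, hcp2]; group
      _ = w := by rw [hkw, hkp2, mul_assoc, hpp, mul_one]

end Pl

theorem cg_symm {x a b : G} (hx : x * x = 1) (h : Cg x a b) : Cg x b a := by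
  rcases h with e | e
  · exact Or.inl e.symm
  · right; rw [e, mul_assoc, hx, mul_one]

theorem cg_trans {x a b c : G} (hx : x * x = 1) (h1 : Cg x a b) (h2 : Cg x b c) : Cg x a c := by
  rcases h1 with e | e
  · rw [e]; exact h2
  · rcases h2 with e2 | e2
    · right; rw [e, e2]
    · left; rw [e, e2, mul_assoc, hx, mul_one]

namespace Ru

variable {V : Subgroup G} {z : G} [Finite G]

/-- `L_x` covers `A₅` -/
theorem ll_even (h : Ru V z) {x : G} (hx : Pt z x) {ρ : centralizer ({x} : Set G) →* S5}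
    (hρ : Loc (ws V x) x ρ) {g : S5} (hg : Equiv.Perm.sign g = 1) :
    ∃ q : centralizer ({x} : Set G), (q : G) ∈ ll V x ∧ ρ q = g := by
  have h1 : ∀ a : S5, (a = 1 ∨ O3 a) → ∃ q : centralizer ({x} : Set G), (q : G) ∈ ll V x ∧ ρ q = a := by
    rintro a (rfl | ha)
    · exact ⟨1, one_mem _, map_one _⟩
    · obtain ⟨q, hq, hqO⟩ := h.exists_o3_ll hx hρ
      obtain ⟨s, hs, rfl⟩ := s5_o3_conj hqO ha
      obtain ⟨d, rfl⟩ := hρ.even s hs
      exact ⟨d * q * d⁻¹, h.ll_conj (mem_centralizer_singleton_iff.mp d.2) hq, by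
        rw [map_mul, map_mul, map_inv]⟩
  obtain ⟨a, ha, hb⟩ := s5_even g hg
  obtain ⟨q, hq, hqa⟩ := h1 a ha
  obtain ⟨r, hr, hrb⟩ := h1 _ hb
  exact ⟨q * r, mul_mem hq hr, by rw [map_mul, hqa, hrb]; group⟩

/-- `L_x` is transitive on `W_x - ⟨x⟩` -/
theorem ll_trans (h : Ru V z) {x : G} (hx : Pt z x) {u v : G} (hu : u ∈ ws V x) (hv : v ∈ ws V x)
    (hu1 : u ≠ 1) (hux : u ≠ x) (hv1 : v ≠ 1) (hvx : v ≠ x) :
    ∃ l ∈ ll V x, l * u * l⁻¹ = v := by
  obtain ⟨ρ, hρ⟩ := h.loc_pt hx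
  obtain ⟨c, hc, hcu⟩ := hρ.trans hu hv hu1 hux hv1 hvx
  obtain ⟨q, hq, hqc⟩ := h.ll_even hx hρ hc
  have h1 := cg_trans hρ.xx (hρ.congr hqc hu) hcu
  rcases h1 with e | e
  · exact ⟨q, hq, e⟩
  · have hE := h.pl hx hv hv1 hvx
    have t : Two (ws V x ⊓ ws V v) x v := ⟨⟨h.self_mem hx, h.mem_symm hx hv hv1⟩,
      ⟨hv, h.self_mem (h.pt hx hv hv1)⟩, h.ne_one hx, hv1, fun e => hvx e.symm⟩
    obtain ⟨w, hi⟩ := hE.exists_third h t.u_mem t.v_mem t.u_ne t.v_ne t.uv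
    obtain ⟨l, hl, _, hl1, _⟩ := hE.exists_ll_trv h hi
    refine ⟨l * q, mul_mem hl hq, ?_⟩
    have hlx : l * x * l⁻¹ = x := by
      rw [mem_centralizer_singleton_iff.mp (h.ll_le hx hl), mul_inv_cancel_right]
    calc l * q * u * (l * q)⁻¹ = l * (q * u * (q : G)⁻¹) * l⁻¹ := by group
      _ = l * (v * x) * l⁻¹ := by rw [e]
      _ = (l * v * l⁻¹) * (l * x * l⁻¹) := by group
      _ = v := by rw [hl1, hlx, mul_assoc, hρ.xx, mul_one]

/-- an element which centralises all `W_y`, `y` in the orbit of `q`, centralises `L_x` -/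
theorem ll_gen (h : Ru V z) {x q : G} (hx : Pt z x) (hq : q ∈ ws V x) (hq1 : q ≠ 1) (hqx : q ≠ x) {c : G}
    (hc : ∀ l ∈ ll V x, ∀ w ∈ ws V (l * q * l⁻¹), c * w = w * c) {l : G} (hl : l ∈ ll V x) :
    c * l = l * c := by
  have h1 : ll V x ≤ centralizer ({c} : Set G) := by
    conv_lhs => unfold ll
    rw [closure_le]
    rintro g ⟨y, hy, hy1, hyx, hg⟩
    obtain ⟨l, hl, rfl⟩ := h.ll_trans hx hq hy hq1 hqx hy1 hyx
    exact mem_centralizer_singleton_iff.mpr (hc l hl g hg).symm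
  exact (mem_centralizer_singleton_iff.mp (h1 hl)).symm

theorem ll_cj' (V : Subgroup G) (g x : G) : ll (cj g V) x = ll V x := by
  unfold ll
  simp only [ws_cj']

/-- the centraliser of `L_x` and `L_y` is normalised by `C_G(x)` -/
theorem norm_cent (h : Ru V z) {x y : G} (hx : Pt z x) (hy : y ∈ ws V x) (hy1 : y ≠ 1) (hyx : y ≠ x)
    {g : G} (hg : g ∈ centralizer ({x} : Set G)) :
    g ∈ normalizer (centralizer ((ll V x ⊔ ll V y : Subgroup G) : Set G) : Set G) := by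
  have hgx := mem_centralizer_singleton_iff.mp hg
  have hgy : g * y * g⁻¹ ∈ ws V x := h.norm hx hgx hy
  obtain ⟨l, hl, hly⟩ := h.ll_trans hx hy hgy hy1 hyx (conj_ne_one hy1) (fun e => hyx (by
    have e2 : y = g⁻¹ * (g * y * g⁻¹) * g := by group
    rw [e2, e, mul_assoc, ← hgx, inv_mul_cancel_left]))
  have hlx : l * x = x * l := mem_centralizer_singleton_iff.mp (h.ll_le hx hl)
  set c := l⁻¹ * g with hc
  have e0 : g = l * c := by rw [hc, mul_inv_cancel_left]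
  have hcx : c * x * c⁻¹ = x := by
    have e1 : l⁻¹ * x * l = x := by rw [mul_assoc, ← hlx, inv_mul_cancel_left]
    calc c * x * c⁻¹ = l⁻¹ * (g * x * g⁻¹) * l := by rw [hc]; group
      _ = x := by rw [hgx, mul_inv_cancel_right, e1]
  have hcy : c * y * c⁻¹ = y := by
    calc c * y * c⁻¹ = l⁻¹ * (g * y * g⁻¹) * l := by rw [hc]; group
      _ = l⁻¹ * (l * y * l⁻¹) * l := by rw [hly]
      _ = y := by group
  rw [e0]
  refine mul_mem ?_ ?_
  · -- `l` centralises the centraliser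
    refine mem_normalizer_of ?_ ?_
    · intro d hd
      have h1 := mem_centralizer_iff.mp hd l (mem_sup_left hl)
      have e1 : l * d * l⁻¹ = d := by rw [h1, mul_inv_cancel_right]
      rw [e1]; exact hd
    · intro d hd
      have h1 := mem_centralizer_iff.mp hd l (mem_sup_left hl)
      have e1 : l⁻¹ * d * l = d := by rw [mul_assoc, ← h1, inv_mul_cancel_left]
      rw [e1]; exact hd
  · have h1 : c ∈ normalizer ((ll V x ⊔ ll V y : Subgroup G) : Set G) := by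
      rw [mem_normalizer_iff_cj]
      have e1 : cj c (ll V x ⊔ ll V y) = cj c (ll V x) ⊔ cj c (ll V y) := Subgroup.map_sup _ _ _
      rw [e1, cj_ll, cj_ll, hcx, hcy]
    refine mem_normalizer_of ?_ ?_
    · intro d hd
      rw [mem_centralizer_iff] at hd ⊢
      intro a ha
      have h2 := hd (c⁻¹ * a * c) (conj_mem_of_normalizer' le_rfl h1 ha)
      calc a * (c * d * c⁻¹) = c * (c⁻¹ * a * c * d) * c⁻¹ := by group
        _ = c * (d * (c⁻¹ * a * c)) * c⁻¹ := by rw [h2]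
        _ = c * d * c⁻¹ * a := by group
    · intro d hd
      rw [mem_centralizer_iff] at hd ⊢
      intro a ha
      have h2 := hd (c * a * c⁻¹) (conj_mem_of_normalizer le_rfl h1 ha)
      calc a * (c⁻¹ * d * c) = c⁻¹ * (c * a * c⁻¹ * d) * c := by group
        _ = c⁻¹ * (d * (c * a * c⁻¹)) * c := by rw [h2]
        _ = c⁻¹ * d * c * a := by group

/-- (2.3) for points of `V` -/
theorem ll_inf_aux (h : Ru V z) {v : G} (hv : v ∈ V) (hv1 : v ≠ 1) (hvz : v ≠ z) :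
    centralizer ((ll V z ⊔ ll V v : Subgroup G) : Set G) = ⊥ := by
  have hzp := Pt.refl z
  have hvW := h.V_le_ws hv
  have hvp := h.pt hzp hvW hv1
  have hzW := h.mem_symm hzp hvW hv1
  set D := centralizer ((ll V z ⊔ ll V v : Subgroup G) : Set G) with hD
  have hz : centralizer ({z} : Set G) ≤ normalizer (D : Set G) := fun g hg =>
    h.norm_cent hzp hvW hv1 hvz hg
  have hv' : centralizer ({v} : Set G) ≤ normalizer (D : Set G) := fun g hg => by
    have := h.norm_cent hvp hzW h.z_ne (fun e => hvz e.symm) hg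
    rwa [sup_comm] at this
  have h2 : IsPGroup 2 D := by
    refine (h.isPGroup_cw hzp).to_le (centralizer_le ?_)
    exact ((h.ws_le_ll hzp).trans le_sup_left : ws V z ≤ ll V z ⊔ ll V v)
  refine h.core D h2 ?_ hz
  intro g hg
  have hgz : g * z * g⁻¹ ∈ V := (mem_normalizer_iff.mp hg z).mp h.z_mem
  have hvv := h.sq v hv
  have hzz := h.sq z h.z_mem
  have hzv : z * v = v * z := h.comm hzp (h.self_mem hzp) hvW
  obtain ⟨ρ, hρ⟩ := h.loc_pt hzp
  obtain ⟨k, _, hk⟩ := h.exists_neg hzp hρ hvW hv1 hvz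
  obtain ⟨ρ', hρ'⟩ := h.loc_pt hvp
  obtain ⟨k', _, hk'⟩ := h.exists_neg hvp hρ' hzW h.z_ne (fun e => hvz e.symm)
  have hcent : ∀ m : G, m * z * m⁻¹ = g * z * g⁻¹ → m ∈ normalizer (D : Set G) → g ∈ normalizer (D : Set G) := by
    intro m hm hm'
    have h3 : m⁻¹ * g ∈ centralizer ({z} : Set G) := by
      rw [mem_centralizer_singleton_iff, ← mul_inv_eq_iff_eq_mul]
      calc m⁻¹ * g * z * (m⁻¹ * g)⁻¹ = m⁻¹ * (g * z * g⁻¹) * m := by group
        _ = m⁻¹ * (m * z * m⁻¹) * m := by rw [hm]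
        _ = z := by group
    have e : g = m * (m⁻¹ * g) := by group
    rw [e]; exact mul_mem hm' (hz h3)
  rcases GamBase.mem_four h.card_V h.z_mem hv hzz hvv h.z_ne hv1 hvz.symm hgz with e | e | e | e
  · exact absurd e (conj_ne_one h.z_ne)
  · exact hcent 1 (by rw [e]; group) (one_mem _)
  · refine hcent (k * k') ?_ (mul_mem (hz k.2) (hv' k'.2))
    rw [e]
    have hkz : (k : G) * z * (k : G)⁻¹ = z := by
      rw [mem_centralizer_singleton_iff.mp k.2, mul_inv_cancel_right]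
    calc (k : G) * k' * z * ((k : G) * k')⁻¹ = (k : G) * ((k' : G) * z * (k' : G)⁻¹) * (k : G)⁻¹ := by group
      _ = ((k : G) * z * (k : G)⁻¹) * ((k : G) * v * (k : G)⁻¹) := by rw [hk']; group
      _ = v := by rw [hkz, hk, ← mul_assoc, hzv, mul_assoc, hzz, mul_one]
  · exact hcent k' (by rw [e, hk']) (hv' k'.2)

/-- (2.3): `C_G(⟨L_x, L_y⟩) = 1` -/
theorem ll_inf (h : Ru V z) {x y : G} (hx : Pt z x) (hy : y ∈ ws V x) (hy1 : y ≠ 1) (hyx : y ≠ x) {c : G}
    (h1 : ∀ l ∈ ll V x, c * l = l * c) (h2 : ∀ l ∈ ll V y, c * l = l * c) : c = 1 := by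
  obtain ⟨v, hv, hv1, hvz⟩ := h.exists_v
  obtain ⟨g, rfl, rfl⟩ := h.pair_trans (Pt.refl z) (h.V_le_ws hv) hv1 hvz hx hy hy1 hyx
  have h3 := (h.conj g).ll_inf_aux (conj_mem_cj hv) hy1 hyx
  rw [ll_cj', ll_cj'] at h3
  have h4 : c ∈ centralizer ((ll V (g * z * g⁻¹) ⊔ ll V (g * v * g⁻¹) : Subgroup G) : Set G) := by
    rw [Subgroup.sup_eq_closure, centralizer_closure, mem_centralizer_iff]
    rintro a (ha | ha)
    · exact (h1 a ha).symm
    · exact (h2 a ha).symm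
  rwa [h3, mem_bot] at h4

end Ru

end Cfsg.Agent.Omega.RuShape.Base
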