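import Mathlib
import Cfsg.Agent.Omega.RuShape.LTrans

/-!
# The Ru configuration: the commutator form of `Y_U` and `C_G(U)`

helper881's text #12858, section 3 (first lines) and (3.1).

* `Pl.rho_ne`: the three involutions `u_n` of `C_G(q)/K_q` (`n` a line of the plane on `q`) are distinct;
* `Pl.fl_tri`: `[g, g'] = p q w` for flag elements `g ∈ W_p ∩ K_w`, `g' ∈ W_q ∩ K_w`, `p, q, w` independent;
* `Pl.exists_cent`: `C_G(E) = Y_E C_G(W_p)`.
-/

set_option autoImplicit false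
set_option linter.dupNamespace false
set_option linter.unusedSectionVars false

namespace Cfsg.Agent.Omega.RuShape.Base

open Subgroup Cfsg Cfsg.Agent.ZN Cfsg.Agent.MinSimple.Geo Cfsg.Agent.MinSimple.OddBase
open Cfsg.Agent.OddCyclic Cfsg.Agent.OddCyclic.GamPerm Cfsg.Agent.OddCyclic.GamMod Cfsg.Agent.OddCyclic.GamLoc
open Cfsg.Agent.OddCyclic.GamBase (cc cc_surj cg_conj loc_conj ws_cj' lines_cj')
open Cfsg.Agent.ZN.Block (conj_mem_of_normalizer conj_mem_of_normalizer' le_normalizer_of_forall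
  mem_normalizer_of)

universe u

variable {G : Type u} [Group G]

namespace Pl

variable {V : Subgroup G} {z : G} [Finite G] {E : Subgroup G}

/-- the elements of a plane -/
theorem mem_eight (hE : Pl V z E) (h : Ru V z) {p q w t : G} (hi : Ind E p q w) (ht : t ∈ E) :
    (t = 1 ∨ t = q ∨ t = w ∨ t = q * w) ∨ (p * t = 1 ∨ p * t = q ∨ p * t = w ∨ p * t = q * w) := by
  have hq := hE.pt h hi.v_mem hi.v_ne
  have hle := hE.le_ws h hi.v_mem hi.v_ne
  obtain ⟨L, hL, hwL⟩ := h.exists_line hq (hle hi.w_mem) hi.w_ne hi.vw.symm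
  have hqL : q ∈ L := hL.2
  have hcard : Nat.card L = 4 := by
    obtain ⟨⟨g, rfl⟩, _⟩ := hL
    rw [card_cj, h.card_V]
  have hqq := hE.sq h hi.v_mem
  have hww := hE.sq h hi.w_mem
  have four : ∀ s ∈ L, s = 1 ∨ s = q ∨ s = w ∨ s = q * w := fun s hs =>
    GamBase.mem_four hcard hqL hwL hqq hww hi.v_ne hi.w_ne hi.vw hs
  have hLE : L ≤ E := by
    intro s hs
    rcases four s hs with e | e | e | e
    · rw [e]; exact one_mem _
    · rw [e]; exact hi.v_mem
    · rw [e]; exact hi.w_mem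
    · rw [e]; exact mul_mem hi.v_mem hi.w_mem
  have hpL : p ∉ L := by
    intro hp
    rcases four p hp with e | e | e | e
    · exact hi.u_ne e
    · exact hi.uv e
    · exact hi.uw e
    · apply hi.uvw
      rw [e, hE.comm h hi.v_mem hi.w_mem, mul_assoc, hqq, mul_one]
  by_cases htL : t ∈ L
  · exact Or.inl (four t htL)
  · exact Or.inr (four _ (mul_mem_of_two hLE (by rw [hE.card h, hcard]) (by rw [hcard]; norm_num)
      hi.u_mem ht hpL htL))

/-- elements of `ws V p` as elements of `C_G(q)` -/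
def elq (_ : Pl V z E) (_ : Ru V z) {q g : G} (hq : q ∈ E) (hg : ∀ e ∈ E, g * e = e * g) :
    centralizer ({q} : Set G) := ⟨g, mem_centralizer_singleton_iff.mpr (hg q hq)⟩

theorem k4_elq (hE : Pl V z E) (h : Ru V z) {q g : G} (hq : q ∈ E) (hg : ∀ e ∈ E, g * e = e * g)
    {ρ : centralizer ({q} : Set G) →* S5} (hρ : Loc (ws V q) q ρ) {i : Fin 5} (hi : E = hρ.pg i) :
    K4 i (ρ (hE.elq h hq hg)) :=
  hρ.k4_of_pg fun w hw => Or.inl (by
    change g * w * g⁻¹ = w
    rw [hg w (by rw [hi]; exact hw), mul_inv_cancel_right])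

/-- the images of `W_p` and `W_w` in `C_G(q)/K_q` are different -/
theorem rho_ne (hE : Pl V z E) (h : Ru V z) {p q w g k : G} (hi : Ind E q p w) (hg : g ∈ ws V p)
    (hgK : g ∉ kq V q) (hk : k ∈ ws V w) (hkK : k ∉ kq V q) {ρ : centralizer ({q} : Set G) →* S5}
    (hρ : Loc (ws V q) q ρ) (hgE : ∀ e ∈ E, g * e = e * g) (hkE : ∀ e ∈ E, k * e = e * k) :
    ρ (hE.elq h hi.u_mem hgE) ≠ ρ (hE.elq h hi.u_mem hkE) := by
  have hqp := hE.pt h hi.u_mem hi.u_ne
  have hwp := hE.pt h hi.w_mem hi.w_ne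
  obtain ⟨i, hEi⟩ := hE.exists_pg h hi.u_mem hi.u_ne hρ
  obtain ⟨c, hcq, hc3, hcp, hcw, hcE⟩ := hE.exists_rot h hi
  have hle := hE.le_ws h hi.u_mem hi.u_ne
  have hcC : c ∈ centralizer ({q} : Set G) := mem_centralizer_singleton_iff.mpr hcq
  have hO : O3 (ρ ⟨c, hcC⟩) := o3_of_rot h hqp hρ (hle hi.v_mem) hcC hc3 hcp hi.vw (by
    rw [hE.comm h hi.v_mem hi.u_mem]; exact hi.uvw)
  have hci : ρ ⟨c, hcC⟩ i = i := by
    by_contra hne
    have h1 := hρ.conj_mem_pg (w := p) (i := i) (by rw [← hEi]; exact hi.v_mem) ⟨c, hcC⟩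
    change c * p * c⁻¹ ∈ _ at h1
    rw [hcp] at h1
    rcases hρ.pg_inf hne h1 (by rw [← hEi]; exact hi.w_mem) with e | e
    · exact hi.w_ne e
    · exact hi.uw e.symm
  have hk4 := hE.k4_elq h hi.u_mem hgE hρ hEi
  have hg1 : ρ (hE.elq h hi.u_mem hgE) ≠ 1 := fun e => hgK ((mem_kq_iff hρ (c := hE.elq h hi.u_mem hgE)).mpr e)
  -- `c g c⁻¹` and `k` have the same image
  have hcg : c * g * c⁻¹ ∈ ws V w := by rw [← hcp, ← cj_ws]; exact conj_mem_cj hg
  have hcgK : c * g * c⁻¹ ∉ kq V q := by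
    intro e
    have h1 := conj_mem_cj (g := c⁻¹) e
    rw [cj_kq] at h1
    apply hgK
    have e1 : c⁻¹ * q * c⁻¹⁻¹ = q := by rw [inv_inv, mul_assoc, ← hcq, inv_mul_cancel_left]
    have e2 : c⁻¹ * (c * g * c⁻¹) * c⁻¹⁻¹ = g := by group
    rwa [e1, e2] at h1
  have hc1 := hE.card_bb h hi.w_mem hi.u_mem hi.w_ne hi.u_ne hi.uw.symm
  obtain ⟨ρw, hρw⟩ := h.loc_pt hwp
  have hkm : k * (c * g * c⁻¹) ∈ bb V w q :=
    mul_mem_of_two (bb_le V _ _) (by rw [hρw.card, hc1]) (by rw [hc1]; norm_num) hk hcg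
      (fun e => hkK e.2) (fun e => hcgK e.2)
  have hkm3 : ((hE.elq h hi.u_mem hkE * (⟨c, hcC⟩ * hE.elq h hi.u_mem hgE * ⟨c, hcC⟩⁻¹) :
      centralizer ({q} : Set G)) : G) ∈ kq V q := hkm.2
  have hkm2 : ρ (hE.elq h hi.u_mem hkE * (⟨c, hcC⟩ * hE.elq h hi.u_mem hgE * ⟨c, hcC⟩⁻¹)) = 1 :=
    (mem_kq_iff hρ).mp hkm3
  rw [map_mul, map_mul, map_mul, map_inv] at hkm2
  intro e
  rw [← e] at hkm2
  set a := ρ (hE.elq h hi.u_mem hgE) with ha
  set y := ρ ⟨c, hcC⟩ with hy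
  have haa : a * a = 1 := hk4.2.2
  have h1 : y * a * y⁻¹ = a := by
    have h2 : y * a * y⁻¹ = a⁻¹ := (inv_eq_of_mul_eq_one_right hkm2).symm
    rw [h2]; exact inv_eq_of_mul_eq_one_left haa
  have h2 := k4_rot i a hk4 hg1 y hci hO
  rw [h1, h1, haa, one_mul] at h2
  exact hg1 h2

/-- one half of the computation of `[g, a]` -/
theorem half (hE : Pl V z E) (h : Ru V z) {p q w g a : G} (hi : Ind E p q w) (hg : g ∈ ws V p)
    (hgK : g ∉ kq V q) (ha : Fl V E q w a) : g * a * g⁻¹ * a = p * w ∨ g * a * g⁻¹ * a = p * q * w := by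
  have hqp := hE.pt h hi.v_mem hi.v_ne
  have hwp := hE.pt h hi.w_mem hi.w_ne
  have hpp := hE.pt h hi.u_mem hi.u_ne
  obtain ⟨ρ, hρ⟩ := h.loc_pt hqp
  obtain ⟨i, hEi⟩ := hE.exists_pg h hi.v_mem hi.v_ne hρ
  have hle := hE.le_ws h hi.v_mem hi.v_ne
  have haW : a ∈ ws V q := ha.mem.1
  have hgE : ∀ e ∈ E, g * e = e * g := fun e he => hE.ws_comm h hi.u_mem hi.u_ne hg he
  have haE : ∀ e ∈ E, a * e = e * a := fun e he => hE.ws_comm h hi.v_mem hi.v_ne haW he
  have hqq := h.xx hqp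
  have haa := h.sq_ws hqp haW
  have hgg := h.sq_ws hpp hg
  have hinva : a⁻¹ = a := h.inv_ws hqp haW
  set t := g * a * g⁻¹ * a with ht
  have htE : t ∈ E := hE.comm_mem h hi.v_mem hi.v_ne hgE haW
  have hga : g * a * g⁻¹ = t * a := by rw [ht, mul_assoc _ a a, haa, mul_one]
  -- `k ∈ W_w - K_q`
  obtain ⟨k, hk, hk1⟩ := h.exists_act hqp hρ (hle hi.w_mem) hi.w_ne hi.vw.symm
  have hkE : ∀ e ∈ E, k * e = e * k := fun e he => hE.ws_comm h hi.w_mem hi.w_ne hk he
  have hkK : k ∉ kq V q := fun e => hk1 ((mem_kq_iff hρ (c := h.el' hqp (hle hi.w_mem) hi.w_ne hk)).mp e)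
  have hiq : Ind E q p w := hE.ind_swap h hi
  have hne := hE.rho_ne h hiq hg hgK hk hkK hρ hgE hkE
  have hg4 := hE.k4_elq h hi.v_mem hgE hρ hEi
  have hk4 := hE.k4_elq h hi.v_mem hkE hρ hEi
  have hg1 : ρ (hE.elq h hi.v_mem hgE) ≠ 1 := fun e => hgK ((mem_kq_iff hρ (c := hE.elq h hi.v_mem hgE)).mpr e)
  have hgk4 : K4 i (ρ (hE.elq h hi.v_mem hgE * hE.elq h hi.v_mem hkE)) := by
    rw [map_mul]; exact K4_mul i _ hg4 _ hk4
  have hgk1 : ρ (hE.elq h hi.v_mem hgE * hE.elq h hi.v_mem hkE) ≠ 1 := by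
    intro e
    rw [map_mul] at e
    apply hne
    rw [mul_eq_one_iff_eq_inv.mp e]
    exact inv_eq_of_mul_eq_one_left hk4.2.2
  have hcx : ∀ b ∈ ws V q, Cg q (g * b * g⁻¹) b → b ∈ E := by
    intro b hb hc
    rw [hEi, ← hρ.cx_eq_pg hg4 hg1, hρ.mem_cx]
    exact ⟨hb, hc⟩
  have hcx2 : ∀ b ∈ ws V q, Cg q (g * k * b * (g * k)⁻¹) b → b ∈ E := by
    intro b hb hc
    rw [hEi, ← hρ.cx_eq_pg hgk4 hgk1, hρ.mem_cx]
    exact ⟨hb, hc⟩
  have hqa : a * q = q * a := haE q hi.v_mem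
  have h1 : t ≠ 1 := fun e => ha.notMem (hcx a haW (Or.inl (by rw [hga, e, one_mul])))
  have h2 : t ≠ q := fun e => ha.notMem (hcx a haW (Or.inr (by rw [hga, e, hqa])))
  -- `k a k⁻¹ = a w`
  have hka : k * a * k⁻¹ = a * w := by
    have e1 := hE.bb_act h hi.w_mem hi.v_mem hi.w_ne hi.v_ne hi.vw.symm hk (fun e => hkK e.2) ha.mem ha.notMem
    have e2 : a * k = k * w * a := mul_inv_eq_iff_eq_mul.mp e1
    have e3 := h.inv_ws hwp hk
    have hkk := h.sq_ws hwp hk
    calc k * a * k⁻¹ = k * (a * k) := by rw [e3]; group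
      _ = (k * k) * (w * a) := by rw [e2]; group
      _ = a * w := by rw [hkk, one_mul, haE w hi.w_mem]
  have hgw : g * w * g⁻¹ = w := by rw [hgE w hi.w_mem, mul_inv_cancel_right]
  have hgka : g * k * a * (g * k)⁻¹ = t * a * w := by
    calc g * k * a * (g * k)⁻¹ = g * (k * a * k⁻¹) * g⁻¹ := by group
      _ = (g * a * g⁻¹) * (g * w * g⁻¹) := by rw [hka]; group
      _ = t * a * w := by rw [hga, hgw]
  have hww := hE.sq h hi.w_mem
  have haw : a * w = w * a := haE w hi.w_mem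
  have h3 : t ≠ w := fun e => ha.notMem (hcx2 a haW (Or.inl (by
    rw [hgka, e, mul_assoc, haw, ← mul_assoc, hww, one_mul])))
  have h4 : t ≠ q * w := fun e => ha.notMem (hcx2 a haW (Or.inr (by
    rw [hgka, e]
    calc q * w * a * w = q * (w * (a * w)) := by group
      _ = q * (w * w * a) := by rw [haw]; group
      _ = a * q := by rw [hww, one_mul, hqa])))
  -- `b ∈ W_q ∩ K_p`
  obtain ⟨b, hb⟩ := hE.exists_fl h hiq.two
  have hbW : b ∈ ws V q := hb.mem.1
  have hgb : g * b * g⁻¹ = b * p := by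
    have e1 := hE.bb_act h hi.u_mem hi.v_mem hi.u_ne hi.v_ne hi.uv hg (fun e => hgK e.2) hb.mem hb.notMem
    have e2 : b * g = g * p * b := mul_inv_eq_iff_eq_mul.mp e1
    have e3 := h.inv_ws hpp hg
    have e4 : b * p = p * b := hE.ws_comm h hi.v_mem hi.v_ne hbW hi.u_mem
    calc g * b * g⁻¹ = g * (b * g) := by rw [e3]; group
      _ = (g * g) * (p * b) := by rw [e2]; group
      _ = b * p := by rw [hgg, one_mul, e4]
  have hab : ¬ a * b ∈ E := by
    intro e
    have e1 : b = a * (a * b) := by rw [← mul_assoc, haa, one_mul]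
    have e2 : b ∈ bb V q w := by
      rw [e1]; exact mul_mem ha.mem (hE.le_bb h hi.v_mem hi.w_mem hi.v_ne hi.w_ne e)
    exact hb.notMem (hE.bb_inf h hiq hb.mem e2)
  have hgab : g * (a * b) * g⁻¹ = t * p * (a * b) := by
    calc g * (a * b) * g⁻¹ = (g * a * g⁻¹) * (g * b * g⁻¹) := by group
      _ = t * (a * (b * p)) := by rw [hga, hgb]; group
      _ = t * (a * (p * b)) := by rw [hE.ws_comm h hi.v_mem hi.v_ne hbW hi.u_mem]
      _ = t * (a * p * b) := by group
      _ = t * p * (a * b) := by rw [haE p hi.u_mem]; group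
  have hpp' := hE.sq h hi.u_mem
  have habW : a * b ∈ ws V q := mul_mem haW hbW
  have h5 : t ≠ p := fun e => hab (hcx _ habW (Or.inl (by rw [hgab, e, hpp', one_mul])))
  have h6 : t ≠ p * q := fun e => hab (hcx _ habW (Or.inr (by
    have e1 : p * q * p = q := by
      rw [hE.comm h hi.u_mem hi.v_mem, mul_assoc, hpp', mul_one]
    rw [hgab, e, e1]
    exact h.comm hqp (h.self_mem hqp) habW)))
  rcases hE.mem_eight h hi htE with e | e
  · rcases e with e | e | e | e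
    · exact absurd e h1
    · exact absurd e h2
    · exact absurd e h3
    · exact absurd e h4
  · have key : ∀ {s : G}, p * t = s → t = p * s := fun e => hE.eq_mul h hi.u_mem e
    rcases e with e | e | e | e
    · exact absurd (by rw [key e, mul_one]) h5
    · exact absurd (key e) h6
    · exact Or.inl (key e)
    · right; rw [key e, mul_assoc]

/-- the commutator of flag elements for three independent points -/
theorem fl_tri (hE : Pl V z E) (h : Ru V z) {p q w g a : G} (hi : Ind E p q w) (hg : Fl V E p w g)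
    (ha : Fl V E q w a) : g * a = a * g * (p * q * w) := by
  have hpp := hE.pt h hi.u_mem hi.u_ne
  have hqp := hE.pt h hi.v_mem hi.v_ne
  have hiq : Ind E q p w := hE.ind_swap h hi
  have hgK : g ∉ kq V q := fun e => hg.notMem (hE.bb_inf h hi ⟨hg.mem.1, e⟩ hg.mem)
  have haK : a ∉ kq V p := fun e => ha.notMem (hE.bb_inf h hiq ⟨ha.mem.1, e⟩ ha.mem)
  have h1 := hE.half h hi hg.mem.1 hgK ha
  have h2 := hE.half h hiq ha.mem.1 haK hg
  have hgi := h.inv_ws hpp hg.mem.1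
  have hai := h.inv_ws hqp ha.mem.1
  set t := g * a * g⁻¹ * a with ht
  have htE : t ∈ E := hE.comm_mem h hi.v_mem hi.v_ne
    (fun e he => hE.ws_comm h hi.u_mem hi.u_ne hg.mem.1 he) ha.mem.1
  have e1 : a * g * a⁻¹ * g = t := by
    have e2 : a * g * a⁻¹ * g = t⁻¹ := by
      rw [ht, mul_inv_rev, mul_inv_rev, mul_inv_rev, inv_inv, hai, hgi]; group
    rw [e2, hE.inv h htE]
  rw [e1] at h2
  have hpq : p * q = q * p := hE.comm h hi.u_mem hi.v_mem
  have h3 : t = p * q * w := by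
    rcases h1 with e | e
    · rcases h2 with e' | e'
      · exfalso
        rw [e] at e'
        exact hi.uv (mul_right_cancel e')
      · rw [e', hpq]
    · exact e
  have h4 : g * a = t * a * g := by
    rw [ht]
    calc g * a = g * a * (g⁻¹ * g) := by group
      _ = g * a * g⁻¹ * (a * a) * g := by rw [h.sq_ws hqp ha.mem.1]; group
      _ = g * a * g⁻¹ * a * a * g := by group
  have hat : a * t = t * a := hE.ws_comm h hi.v_mem hi.v_ne ha.mem.1 htE
  have hgt : g * t = t * g := hE.ws_comm h hi.u_mem hi.u_ne hg.mem.1 htE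
  rw [h4, ← h3]
  calc t * a * g = a * t * g := by rw [hat]
    _ = a * (t * g) := by group
    _ = a * g * t := by rw [← hgt]; group

end Pl

end Cfsg.Agent.Omega.RuShape.Base
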