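import Mathlib
import Cfsg.Agent.Omega.RuShape.FlTri

/-!
# The Ru configuration: `C_G(E) = Y_E C_G(W_p)`

helper881's text #12858, (3.1), first line.
-/

set_option autoImplicit false
set_option linter.dupNamespace false
set_option linter.unusedSectionVars false

namespace Cfsg.Agent.Omega.RuShape.Base

open Subgroup Cfsg Cfsg.Agent.ZN Cfsg.Agent.MinSimple.Geo Cfsg.Agent.MinSimple.OddBase
open Cfsg.Agent.OddCyclic Cfsg.Agent.OddCyclic.GamPerm Cfsg.Agent.OddCyclic.GamMod Cfsg.Agent.OddCyclic.GamLoc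
open Cfsg.Agent.OddCyclic.GamBase (cc cc_surj cg_conj loc_conj ws_cj' lines_cj')
open Cfsg.Agent.ZN.Block (conj_mem_of_normalizer conj_mem_of_normalizer' le_normalizer_of_forall
  mem_normalizer_of)

universe u

variable {G : Type u} [Group G]

/-- `⟨W_p : p ∈ E#⟩` -/
def yy (V E : Subgroup G) : Subgroup G := closure {w | ∃ p ∈ E, p ≠ 1 ∧ w ∈ ws V p}

theorem mem_yy {V E : Subgroup G} {p w : G} (hp : p ∈ E) (hp1 : p ≠ 1) (hw : w ∈ ws V p) : w ∈ yy V E :=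
  Subgroup.subset_closure ⟨p, hp, hp1, hw⟩

namespace Pl

variable {V : Subgroup G} {z : G} [Finite G] {E : Subgroup G}

theorem exists_ind (hE : Pl V z E) (h : Ru V z) {p : G} (hp : p ∈ E) (hp1 : p ≠ 1) :
    ∃ q w, Ind E p q w := by
  have : ∃ b ∈ E, b ≠ 1 ∧ b ≠ p := by
    by_contra hcon
    push Not at hcon
    have h1 : (E : Set G) ⊆ {1, p} := by
      intro t ht
      by_cases ht1 : t = 1
      · exact Or.inl ht1
      · exact Or.inr (hcon t ht ht1)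
    have h2 := Set.ncard_le_ncard h1 (Set.toFinite _)
    have h3 : (E : Set G).ncard = 8 := by rw [← hE.card h]; rfl
    rw [h3, Set.ncard_pair hp1.symm] at h2
    omega
  obtain ⟨q, hq, hq1, hqp⟩ := this
  obtain ⟨w, hw⟩ := hE.exists_third h hp hq hp1 hq1 hqp.symm
  exact ⟨q, w, hw⟩

theorem yy_comm (hE : Pl V z E) (h : Ru V z) {y e : G} (hy : y ∈ yy V E) (he : e ∈ E) : y * e = e * y := by
  have h1 : yy V E ≤ centralizer ({e} : Set G) := by
    unfold yy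
    rw [closure_le]
    rintro w ⟨p, hp, hp1, hw⟩
    exact mem_centralizer_singleton_iff.mpr (hE.ws_comm h hp hp1 hw he)
  exact mem_centralizer_singleton_iff.mp (h1 hy)

/-- `C_G(E) = Y_E (C_G(E) ∩ K_p)` -/
theorem exists_k4 (hE : Pl V z E) (h : Ru V z) {p q w c : G} (hi : Ind E p q w)
    (hc : ∀ e ∈ E, c * e = e * c) : ∃ y ∈ yy V E, y⁻¹ * c ∈ kq V p := by
  have hp := hi.u_mem
  have hpp := hE.pt h hi.u_mem hi.u_ne
  obtain ⟨ρ, hρ⟩ := h.loc_pt hpp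
  obtain ⟨i, hEi⟩ := hE.exists_pg h hi.u_mem hi.u_ne hρ
  have hle := hE.le_ws h hi.u_mem hi.u_ne
  obtain ⟨g, hg, hg1⟩ := h.exists_act hpp hρ (hle hi.v_mem) hi.v_ne hi.uv.symm
  obtain ⟨k, hk, hk1⟩ := h.exists_act hpp hρ (hle hi.w_mem) hi.w_ne hi.uw.symm
  have hgK : g ∉ kq V p := fun e => hg1 ((mem_kq_iff hρ (c := h.el' hpp (hle hi.v_mem) hi.v_ne hg)).mp e)
  have hkK : k ∉ kq V p := fun e => hk1 ((mem_kq_iff hρ (c := h.el' hpp (hle hi.w_mem) hi.w_ne hk)).mp e)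
  have hgE : ∀ e ∈ E, g * e = e * g := fun e he => hE.ws_comm h hi.v_mem hi.v_ne hg he
  have hkE : ∀ e ∈ E, k * e = e * k := fun e he => hE.ws_comm h hi.w_mem hi.w_ne hk he
  have hne := hE.rho_ne h hi hg hgK hk hkK hρ hgE hkE
  have hg4 := hE.k4_elq h hp hgE hρ hEi
  have hk4 := hE.k4_elq h hp hkE hρ hEi
  have hc4 := hE.k4_elq h hp hc hρ hEi
  have hg1' : ρ (hE.elq h hp hgE) ≠ 1 := hg1
  have hk1' : ρ (hE.elq h hp hkE) ≠ 1 := hk1
  have hgY : g ∈ yy V E := mem_yy hi.v_mem hi.v_ne hg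
  have hkY : k ∈ yy V E := mem_yy hi.w_mem hi.w_ne hk
  have key : ∀ {m : G} (hm : ∀ e ∈ E, m * e = e * m), ρ (hE.elq h hp hm) = ρ (hE.elq h hp hc) →
      m⁻¹ * c ∈ kq V p := by
    intro m hm e
    have h1 : ρ ((hE.elq h hp hm)⁻¹ * hE.elq h hp hc) = 1 := by
      rw [map_mul, map_inv, e, inv_mul_cancel]
    exact (mem_kq_iff hρ (c := (hE.elq h hp hm)⁻¹ * hE.elq h hp hc)).mpr h1
  by_cases hc1 : ρ (hE.elq h hp hc) = 1
  · refine ⟨1, one_mem _, ?_⟩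
    rw [inv_one, one_mul]
    exact (mem_kq_iff hρ (c := hE.elq h hp hc)).mpr hc1
  by_cases e1 : ρ (hE.elq h hp hgE) = ρ (hE.elq h hp hc)
  · exact ⟨g, hgY, key hgE e1⟩
  by_cases e2 : ρ (hE.elq h hp hkE) = ρ (hE.elq h hp hc)
  · exact ⟨k, hkY, key hkE e2⟩
  · have h1 := k4_prod i _ hg4 _ hk4 _ hc4 hg1' hk1' hc1 hne e2 e1
    refine ⟨(g * k)⁻¹, inv_mem (mul_mem hgY hkY), ?_⟩
    rw [inv_inv]
    rw [← map_mul, ← map_mul] at h1
    exact (mem_kq_iff hρ (c := hE.elq h hp hgE * hE.elq h hp hkE * hE.elq h hp hc)).mpr h1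

/-- an element of `C_G(E) ∩ K_p` acts on `W_p` as an element of `Y_E` -/
theorem exists_kp (hE : Pl V z E) (h : Ru V z) {p q w c : G} (hi : Ind E p q w)
    (hc : ∀ e ∈ E, c * e = e * c) (hcK : c ∈ kq V p) :
    ∃ e ∈ yy V E, ∀ a ∈ ws V p, (e⁻¹ * c) * a = a * (e⁻¹ * c) := by
  have hp := hi.u_mem
  have hpp := hE.pt h hi.u_mem hi.u_ne
  obtain ⟨ρ, hρ⟩ := h.loc_pt hpp
  have tq := hi.two
  have tw : Two E p w := ⟨hi.u_mem, hi.w_mem, hi.u_ne, hi.w_ne, hi.uw⟩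
  have hqw : Ind E p q (q * w) := hE.ind_swap h (hE.ind_mul h (hE.ind_swap h hi))
  have hwq : Ind E p w (q * w) := by
    have h5 : Ind E w p q := hE.ind_rot h (hE.ind_rot h hi)
    have h7 : Ind E p w (w * q) := hE.ind_swap h (hE.ind_mul h h5)
    rwa [hE.comm h hi.w_mem hi.v_mem] at h7
  have tqw : Two E p (q * w) := ⟨hqw.u_mem, hqw.w_mem, hqw.u_ne, hqw.w_ne, hqw.uw⟩
  obtain ⟨a₁, h1⟩ := hE.exists_fl h tq
  obtain ⟨a₂, h2⟩ := hE.exists_fl h tw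
  have n12 : a₁ ∉ bb V p w := fun e => h1.notMem (hE.bb_inf h hi h1.mem e)
  have n21 : a₂ ∉ bb V p q := fun e => h2.notMem (hE.bb_inf h hi e h2.mem)
  have n13 : a₁ ∉ bb V p (q * w) := fun e => h1.notMem (hE.bb_inf h hqw h1.mem e)
  have n23 : a₂ ∉ bb V p (q * w) := fun e => h2.notMem (hE.bb_inf h hwq h2.mem e)
  -- it is enough to agree on `a₁` and `a₂`
  have key : ∀ e ∈ yy V E, c * a₁ * c⁻¹ = e * a₁ * e⁻¹ → c * a₂ * c⁻¹ = e * a₂ * e⁻¹ →
      ∃ e ∈ yy V E, ∀ a ∈ ws V p, (e⁻¹ * c) * a = a * (e⁻¹ * c) := by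
    intro e he q1 q2
    refine ⟨e, he, ?_⟩
    have adj : ∀ {a : G}, c * a * c⁻¹ = e * a * e⁻¹ → (e⁻¹ * c) * a = a * (e⁻¹ * c) := by
      intro a ha
      apply mul_inv_eq_iff_eq_mul.mp
      calc e⁻¹ * c * a * (e⁻¹ * c)⁻¹ = e⁻¹ * (c * a * c⁻¹) * e := by group
        _ = a := by rw [ha]; group
    set b := e⁻¹ * c with hb
    have b1 := adj q1
    have b2 := adj q2
    have bE : ∀ t ∈ E, b * t = t * b := by
      intro t ht
      apply adj
      rw [hc t ht, hE.yy_comm h he ht, mul_inv_cancel_right, mul_inv_cancel_right]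
    have c1 := hE.card_bb h tq.u_mem tq.v_mem tq.u_ne tq.v_ne tq.uv
    have h16 : ∀ t ∈ bb V p q, b * t = t * b := by
      intro t ht
      by_cases htE : t ∈ E
      · exact bE t htE
      · have h3 : a₁ * t ∈ E := mul_mem_of_two (hE.le_bb h tq.u_mem tq.v_mem tq.u_ne tq.v_ne)
          (by rw [hE.card h, c1]) (by rw [hE.card h]; norm_num) h1.mem ht h1.notMem htE
        have h4 := bE _ h3
        have h5 : t = a₁⁻¹ * (a₁ * t) := by group
        have c3 : Commute b a₁ := b1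
        have c4 : Commute b (a₁ * t) := h4
        rw [h5]; exact (c3.inv_right.mul_right c4)
    intro t ht
    by_cases htb : t ∈ bb V p q
    · exact h16 t htb
    · have h3 : a₂ * t ∈ bb V p q := mul_mem_of_two (bb_le V _ _)
        (by rw [hρ.card, c1]) (by rw [c1]; norm_num) h2.mem.1 ht n21 htb
      have h4 := h16 _ h3
      have h5 : t = a₂⁻¹ * (a₂ * t) := by group
      have c3 : Commute b a₂ := b2
      have c4 : Commute b (a₂ * t) := h4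
      rw [h5]; exact (c3.inv_right.mul_right c4)
  have hfix : ∀ {e a : G}, e * a = a * e → e * a * e⁻¹ = a := fun e1 => by rw [e1, mul_inv_cancel_right]
  rcases h.kq_act hpp hcK h1.mem.1 with c1 | c1 <;> rcases h.kq_act hpp hcK h2.mem.1 with c2 | c2
  · exact key 1 (one_mem _) (by rw [c1]; group) (by rw [c2]; group)
  · obtain ⟨e, he⟩ := hE.exists_fl h tq.swap
    refine key e (mem_yy tq.v_mem tq.v_ne he.mem.1) ?_ ?_
    · rcases hE.fl_act h tq he h1.mem.1 with ⟨_, e1⟩ | ⟨e1, _⟩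
      · rw [c1, hfix e1]
      · exact absurd h1.mem e1
    · rcases hE.fl_act h tq he h2.mem.1 with ⟨e1, _⟩ | ⟨_, e1⟩
      · exact absurd e1 n21
      · rw [c2, e1]
  · obtain ⟨e, he⟩ := hE.exists_fl h tw.swap
    refine key e (mem_yy tw.v_mem tw.v_ne he.mem.1) ?_ ?_
    · rcases hE.fl_act h tw he h1.mem.1 with ⟨e1, _⟩ | ⟨_, e1⟩
      · exact absurd e1 n12
      · rw [c1, e1]
    · rcases hE.fl_act h tw he h2.mem.1 with ⟨_, e1⟩ | ⟨e1, _⟩
      · rw [c2, hfix e1]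
      · exact absurd h2.mem e1
  · obtain ⟨e, he⟩ := hE.exists_fl h tqw.swap
    refine key e (mem_yy tqw.v_mem tqw.v_ne he.mem.1) ?_ ?_
    · rcases hE.fl_act h tqw he h1.mem.1 with ⟨e1, _⟩ | ⟨_, e1⟩
      · exact absurd e1 n13
      · rw [c1, e1]
    · rcases hE.fl_act h tqw he h2.mem.1 with ⟨e1, _⟩ | ⟨_, e1⟩
      · exact absurd e1 n23
      · rw [c2, e1]

/-- `C_G(E) = Y_E C_G(W_p)` -/
theorem exists_cent (hE : Pl V z E) (h : Ru V z) {p c : G} (hp : p ∈ E) (hp1 : p ≠ 1)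
    (hc : ∀ e ∈ E, c * e = e * c) :
    ∃ y ∈ yy V E, ∃ b : G, (∀ a ∈ ws V p, b * a = a * b) ∧ c = y * b := by
  obtain ⟨q, w, hi⟩ := hE.exists_ind h hp hp1
  obtain ⟨y, hy, hyc⟩ := hE.exists_k4 h hi hc
  have hyc' : ∀ e ∈ E, (y⁻¹ * c) * e = e * (y⁻¹ * c) := by
    intro e he
    have c1 : Commute y e := hE.yy_comm h hy he
    have c2 : Commute c e := hc e he
    exact c1.inv_left.mul_left c2
  obtain ⟨e, he, hb⟩ := hE.exists_kp h hi hyc' hyc
  exact ⟨y * e, mul_mem hy he, e⁻¹ * (y⁻¹ * c), hb, by group⟩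

end Pl

end Cfsg.Agent.Omega.RuShape.Base
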