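import Mathlib
import Cfsg.Agent.Omega.NOThree.Ru.Plane
import Cfsg.Agent.Omega.RuShape.Cent

/-!
# The Ru configuration: the planes satisfy helper409's structure `NOThree.Ru.Plane`
-/

set_option autoImplicit false
set_option linter.dupNamespace false
set_option linter.unusedSectionVars false

namespace Cfsg.Agent.Omega.RuShape.Base

open Subgroup Cfsg Cfsg.Agent.ZN Cfsg.Agent.MinSimple.Geo Cfsg.Agent.MinSimple.OddBase
open Cfsg.Agent.OddCyclic Cfsg.Agent.OddCyclic.GamPerm Cfsg.Agent.OddCyclic.GamMod Cfsg.Agent.OddCyclic.GamLoc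
open Cfsg.Agent.OddCyclic.GamBase (cc cc_surj cg_conj loc_conj ws_cj' lines_cj')
open Cfsg.Agent.ZN.Block (conj_mem_of_normalizer conj_mem_of_normalizer' le_normalizer_of_forall
  mem_normalizer_of)

universe u

variable {G : Type u} [Group G]

namespace Pl

variable {V : Subgroup G} {z : G} [Finite G] {E : Subgroup G}

theorem fl_iff {V E : Subgroup G} {p q g : G} :
    NOThree.Ru.Fl E (ws V) (kq V) p q g ↔ Fl V E p q g :=
  ⟨fun h => ⟨⟨h.mem, h.memK⟩, h.notMem⟩, fun h => ⟨h.mem.1, h.notMem, h.mem.2⟩⟩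

theorem ind_iff {E : Subgroup G} {p q w : G} : NOThree.Ru.Ind E p q w ↔ Ind E p q w :=
  ⟨fun h => ⟨h.p_mem, h.q_mem, h.w_mem, h.p_ne, h.q_ne, h.w_ne, h.pq, h.pw, h.qw, h.pqw⟩,
    fun h => ⟨h.u_mem, h.v_mem, h.w_mem, h.u_ne, h.v_ne, h.uv, h.w_ne, h.uw, h.vw, h.uvw⟩⟩

theorem yu_eq (V E : Subgroup G) : NOThree.Ru.YU E (ws V) = yy V E := rfl

theorem two_of {E : Subgroup G} {p q : G} (hp : p ∈ E) (hp1 : p ≠ 1) (hq : q ∈ E) (hq1 : q ≠ 1)
    (hpq : p ≠ q) : Two E p q := ⟨hp, hq, hp1, hq1, hpq⟩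

theorem plane (hE : Pl V z E) (h : Ru V z) : NOThree.Ru.Plane z E (ws V) (kq V) (ll V) where
  card_U := hE.card h
  sq_U := fun u hu => hE.sq h hu
  pt := fun u hu hu1 => by
    obtain ⟨g, hg⟩ := hE.pt h hu hu1
    exact ⟨g, hg.symm⟩
  two := by
    obtain ⟨x, u, hx, hu, hu1, hux, hEE⟩ := hE
    have hxE : x ∈ E := by rw [hEE]; exact ⟨h.self_mem hx, h.mem_symm hx hu hu1⟩
    have huE : u ∈ E := by rw [hEE]; exact ⟨hu, h.self_mem (h.pt hx hu hu1)⟩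
    refine h.isPGroup_pair hx hu hu1 hux (fun k hk => (mem_centralizer_iff.mp hk x hxE).symm) ?_
    intro k hk
    left
    rw [← mem_centralizer_iff.mp hk u huE, mul_inv_cancel_right]
  cj_W := cj_ws V
  cj_K := cj_kq V
  cj_L := cj_ll V
  U_le := fun p hp hp1 => hE.le_ws h hp hp1
  sq_W := fun p hp hp1 w hw => h.sq_ws (hE.pt h hp hp1) hw
  card_W := fun p hp hp1 => by
    obtain ⟨ρ, hρ⟩ := h.loc_pt (hE.pt h hp hp1)
    exact hρ.card
  inf_W := fun p hp hp1 q hq hq1 hpq => (hE.eq_inf h hp hp1 hq hq1 hpq).symm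
  K_cent := fun p _ _ k hk => mem_centralizer_singleton_iff.mp (kq_le V p hk)
  K_act := fun p hp hp1 k hk w hw => h.kq_act (hE.pt h hp hp1) hk hw
  K_fix := fun p hp hp1 w hw hk => by
    by_contra hcon
    push Not at hcon
    have hpp := hE.pt h hp hp1
    obtain ⟨ρ, hρ⟩ := h.loc_pt hpp
    obtain ⟨k, hk1, hk2⟩ := h.exists_neg hpp hρ hw hcon.1 hcon.2
    have h1 := hk k ((mem_kq_iff hρ).mpr hk1)
    rw [h1, mul_inv_cancel_right] at hk2
    exact hp1 (by simpa using hk2.symm)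
  exists_fl := fun p hp hp1 q hq hq1 hpq => by
    obtain ⟨g, hg⟩ := hE.exists_fl h (two_of hp hp1 hq hq1 hpq)
    exact ⟨g, fl_iff.mpr hg⟩
  fl_mul := fun p hp hp1 q hq hq1 hpq g hg =>
    fl_iff.mpr ((hE.fl_same h (two_of hp hp1 hq hq1 hpq)).mpr (fl_iff.mp hg))
  fl_index := fun p hp hp1 q hq hq1 hpq a ha b hb haK hbK => by
    obtain ⟨ρ, hρ⟩ := h.loc_pt (hE.pt h hp hp1)
    have h1 := hE.card_bb h hp hq hp1 hq1 hpq
    exact (mul_mem_of_two (bb_le V p q) (by rw [hρ.card, h1]) (by rw [h1]; norm_num) ha hb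
      (fun e => haK e.2) (fun e => hbK e.2)).2
  fl_comm := fun p hp hp1 q hq hq1 hpq g g' hg hg' =>
    hE.bb_comm h hp hq hp1 hq1 hpq (fl_iff.mp hg).mem (fl_iff.mp hg').mem
  fl_act := fun p hp hp1 q hq hq1 hpq g g' hg hg' hgK => by
    have h1 := hE.bb_act h hq hp hq1 hp1 hpq.symm hg' (fun e => hgK e.2) (fl_iff.mp hg).mem hg.notMem
    rw [mul_inv_eq_iff_eq_mul.mp h1, mul_assoc, mul_assoc]
    congr 1
    exact (hE.ws_comm h hp hp1 hg.mem hq).symm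
  fl_tri := fun p q w hi g g' hg hg' => hE.fl_tri h (ind_iff.mp hi) (fl_iff.mp hg) (fl_iff.mp hg')
  cent := fun p hp hp1 c hc => by
    obtain ⟨y, hy, b, hb, e⟩ := hE.exists_cent h hp hp1 (c := c)
      (fun e he => (mem_centralizer_iff.mp hc e he).symm)
    exact ⟨y, hy, b, mem_centralizer_iff.mpr fun a ha => (hb a ha).symm, e⟩
  L_cent := fun p hp hp1 l hl => mem_centralizer_singleton_iff.mp (h.ll_le (hE.pt h hp hp1) hl)
  W_le_L := fun p hp hp1 q hq hq1 => by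
    by_cases hqp : q = p
    · rw [hqp]; exact h.ws_le_ll (hE.pt h hp hp1)
    · exact ws_le_ll' (hE.le_ws h hp hp1 hq) hq1 hqp
  L_B := fun p hp hp1 l hl b hb => by
    have h1 := h.ll_comm (hE.pt h hp hp1) hl (c := b) (fun w hw => (mem_centralizer_iff.mp hb w hw).symm)
    have h2 : l * b * l⁻¹ * b⁻¹ = (b * l * b⁻¹ * l⁻¹)⁻¹ := by group
    rw [h2]; exact inv_mem h1
  L_tv := fun p u w hi => by
    obtain ⟨l, hl, _, h1, h2⟩ := hE.exists_ll_trv h (ind_iff.mp hi)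
    exact ⟨l, hl, h1, h2⟩
  L_gen := fun p hp hp1 c hc l hl => by
    obtain ⟨q, w, hi⟩ := hE.exists_ind h hp hp1
    exact h.ll_gen (hE.pt h hp hp1) (hE.le_ws h hp hp1 hi.v_mem) hi.v_ne hi.uv.symm
      (fun l hl => hc l hl q hi.v_mem hi.v_ne) hl
  L_inf := fun p hp hp1 q hq hq1 hpq c h1 h2 =>
    h.ll_inf (hE.pt h hp hp1) (hE.le_ws h hp hp1 hq) hq1 hpq.symm h1 h2

end Pl

end Cfsg.Agent.Omega.RuShape.Base
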