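import Mathlib
import Cfsg.Agent.Omega.RuShape.PlaneOf
import Cfsg.Agent.Omega.NOThree.Ru.End

/-!
# The Ru configuration: the planes on `z`; the end of helper881's text #12858

`Ru.planes` : the input of helper391's `NOThree.Ru.Planes`; `Ru.false_of` : if every conjugate of `z` centralises an
element of every plane, then `Ru V z` is impossible.
-/

set_option autoImplicit false
set_option linter.dupNamespace false
set_option linter.unusedSectionVars false

namespace Cfsg.Agent.Omega.RuShape.Base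

open Subgroup Cfsg Cfsg.Agent.ZN Cfsg.Agent.MinSimple.Geo Cfsg.Agent.MinSimple.OddBase
open Cfsg.Agent.OddCyclic Cfsg.Agent.OddCyclic.GamPerm Cfsg.Agent.OddCyclic.GamMod Cfsg.Agent.OddCyclic.GamLoc
open Cfsg.Agent.OddCyclic.GamBase (cc cc_surj cg_conj loc_conj ws_cj' lines_cj')

universe u

variable {G : Type u} [Group G]

namespace Ru

variable {V : Subgroup G} {z : G} [Finite G]

/-- an element of `pg i` outside `⟨x⟩` -/
theorem exists_mem_pg {W : Subgroup G} {x : G} {ρ : centralizer ({x} : Set G) →* S5} (hρ : Loc W x ρ)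
    (i : Fin 5) : ∃ u ∈ hρ.pg i, u ≠ 1 ∧ u ≠ x := by
  by_contra hcon
  push Not at hcon
  have h1 : ((hρ.pg i : Subgroup G) : Set G) ⊆ {1, x} := by
    intro t ht
    by_cases ht1 : t = 1
    · exact Or.inl ht1
    · exact Or.inr (hcon t ht ht1)
  have h2 := Set.ncard_le_ncard h1 (Set.toFinite _)
  have h3 : ((hρ.pg i : Subgroup G) : Set G).ncard = 8 := by rw [← hρ.card_pg i]; rfl
  rw [h3, Set.ncard_pair hρ.x_ne.symm] at h2
  omega

theorem pl_pg (h : Ru V z) {x : G} (hx : Pt z x) {ρ : centralizer ({x} : Set G) →* S5}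
    (hρ : Loc (ws V x) x ρ) (i : Fin 5) : Pl V z (hρ.pg i) := by
  obtain ⟨u, hu, hu1, hux⟩ := exists_mem_pg hρ i
  exact ⟨x, u, hx, hρ.pg_le i hu, hu1, hux, (h.plane_eq hx hρ hu1 hux hu).symm⟩

theorem pg_injective (_ : Ru V z) {x : G} {ρ : centralizer ({x} : Set G) →* S5}
    (hρ : Loc (ws V x) x ρ) : Function.Injective fun i => hρ.pg i := by
  intro i j hij
  by_contra hne
  obtain ⟨u, hu, hu1, hux⟩ := exists_mem_pg hρ i
  have hu' : u ∈ hρ.pg j := by
    have e : hρ.pg i = hρ.pg j := hij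
    rw [← e]; exact hu
  rcases hρ.pg_inf hne hu hu' with e | e
  · exact hu1 e
  · exact hux e

/-- the planes on `z` -/
theorem planes (h : Ru V z)
    (hcent : ∀ E, Pl V z E → ∀ g : G, ∃ u ∈ E, u ≠ 1 ∧ g * z * g⁻¹ * u = u * (g * z * g⁻¹)) :
    NOThree.Ru.Planes z {E | Pl V z E} (ws V z) := by
  have hz := Pt.refl z
  obtain ⟨ρ, hρ⟩ := h.loc_pt hz
  exact
    { zz := h.xx hz
      z_ne := h.z_ne
      conj := fun U hU g => hU.conj g
      sq := fun U hU u hu => hU.sq h hu
      uniq := fun U hU U' hU' a ha b hb ha' hb' ha1 hb1 hab => by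
        rw [hU.eq_inf h ha ha1 hb hb1 hab]
        exact (hU'.eq_inf h ha' ha1 hb' hb1 hab).symm
      cover := fun w hw => by
        obtain ⟨i, hi⟩ := hρ.exists_pg hw
        exact ⟨hρ.pg i, h.pl_pg hz hρ i, hρ.x_mem_pg i, hi⟩
      le := fun U hU hzU => hU.le_ws h hzU h.z_ne
      five := by
        have e : {U | U ∈ {E | Pl V z E} ∧ z ∈ U} = Set.range fun i => hρ.pg i := by
          ext U
          constructor
          · rintro ⟨hU, hzU⟩
            obtain ⟨i, hi⟩ := Pl.exists_pg hU h hzU h.z_ne hρ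
            exact ⟨i, hi.symm⟩
          · rintro ⟨i, rfl⟩
            exact ⟨h.pl_pg hz hρ i, hρ.x_mem_pg i⟩
        rw [e, ← Set.image_univ, Set.ncard_image_of_injective _ (h.pg_injective hρ), Set.ncard_univ,
          Nat.card_fin]
      card_W := hρ.card
      cent := hcent }

/-- the end of the text #12858 -/
theorem false_of (h : Ru V z)
    (hcent : ∀ E, Pl V z E → ∀ g : G, ∃ u ∈ E, u ≠ 1 ∧ g * z * g⁻¹ * u = u * (g * z * g⁻¹)) : False := by
  have h1 := (h.planes hcent).mem_pCore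
  have h2 : pCore 2 G = ⊥ := by
    haveI := Cfsg.Agent.Lib.Cores.pCore_normal (G := G) 2
    have hn : normalizer ((pCore 2 G : Subgroup G) : Set G) = ⊤ := Subgroup.normalizer_eq_top _
    refine h.core _ ?_ ?_ ?_
    · exact Cfsg.Agent.Lib.Cores.pCore_isPGroup 2
    · rw [hn]; exact le_top
    · rw [hn]; exact le_top
  rw [h2, mem_bot] at h1
  exact h.z_ne h1

end Ru

end Cfsg.Agent.Omega.RuShape.Base
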