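import Mathlib
import Cfsg.Agent.Omega.RuShape.Planes
import Cfsg.Agent.Omega.RuShape.OfOne

/-!
# The Ru configuration: the end of helper881's text #12858 from the second class (section 4)
-/

set_option autoImplicit false
set_option linter.dupNamespace false
set_option linter.unusedSectionVars false

namespace Cfsg.Agent.Omega.RuShape.Base

open Subgroup Cfsg Cfsg.Agent.ZN Cfsg.Agent.MinSimple.Geo Cfsg.Agent.MinSimple.OddBase
open Cfsg.Agent.OddCyclic Cfsg.Agent.OddCyclic.GamPerm Cfsg.Agent.OddCyclic.GamMod Cfsg.Agent.OddCyclic.GamLoc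

universe u

variable {G : Type u} [Group G]

namespace Ru

variable {V : Subgroup G} {z : G} [Finite G]

/-- the text #12858 from section 4: every plane has a second class -/
theorem false_of_second (h : Ru V z)
    (hsec : ∀ E, Pl V z E → ∃ v : G, v * v = 1 ∧ (∀ g : G, g * z * g⁻¹ ≠ v) ∧
      ∀ i : G, i * i = 1 → i ≠ 1 → i * v = v * i →
        i ∈ E ∨ ∀ g : G, g * z * g⁻¹ * i = i * (g * z * g⁻¹) → g * z * g⁻¹ ∈ E) : False := by
  refine h.false_of fun E hE g => ?_
  obtain ⟨v, hv, hvz, h4⟩ := hsec E hE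
  exact NOThree.Ru.exists_comm_of_second (h.xx (Pt.refl z)) h.z_ne hv hvz h4 g

end Ru

end Cfsg.Agent.Omega.RuShape.Base
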